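import Cfsg.Agent.S2616
import Cfsg.Agent.Lib.LinearGroups.OrthForms
import Cfsg.Agent.Lib.LinearGroups.FormCount

/-!
Quadratic forms over the field of two elements polarising to a fixed alternating form.
-/

set_option autoImplicit false

namespace Cfsg.Agent.Spinor

open Cfsg.Agent.FormsLib

/-- A quadratic form is determined by its polar form and its values on a basis. -/
theorem quad_ext {F V W κ : Type*} [Field F] [AddCommGroup V] [Module F V] [AddCommGroup W]
    [Module F W] [Fintype κ] (b : Module.Basis κ F V) (Q : QuadraticForm F V) (Q' : QuadraticForm F W)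
    (g : V ≃ₗ[F] W) (h1 : ∀ i, Q (b i) = Q' (g (b i)))
    (h2 : ∀ i j, QuadraticMap.polar Q (b i) (b j) = QuadraticMap.polar Q' (g (b i)) (g (b j)))
    (v : V) : Q v = Q' (g v) := by
  classical
  have hb : QuadraticMap.polarBilin Q = QuadraticMap.polarBilin (Q'.comp g.toLinearMap) := by
    refine LinearMap.BilinForm.ext_basis b fun i j => ?_
    rw [QuadraticMap.polarBilin_apply_apply, QuadraticMap.polarBilin_apply_apply, h2]
    simp [QuadraticMap.polar]
  rw [← b.sum_repr v]
  suffices ∀ s : Finset κ, Q (∑ i ∈ s, b.repr v i • b i) = Q' (g (∑ i ∈ s, b.repr v i • b i)) from this _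
  intro s
  induction s using Finset.induction_on with
  | empty => simp
  | insert a s ha ih =>
    rw [Finset.sum_insert ha, quad_add Q, map_add g, quad_add Q', ih, map_smul g, QuadraticMap.map_smul,
      QuadraticMap.map_smul, h1]
    have := LinearMap.congr_fun (LinearMap.congr_fun hb (b.repr v a • b a)) (∑ i ∈ s, b.repr v i • b i)
    simp only [QuadraticMap.polarBilin_apply_apply] at this
    rw [this]
    simp [QuadraticMap.polar]

variable {m : ℕ}

local notation "K" => ZMod 2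
local notation "Qp" => OrthOrder.qPlus m (ZMod 2)

theorem zmod_two_sq (x : ZMod 2) : x * x = x := by revert x; decide

theorem zmod_two_add (x : ZMod 2) : x + x = 0 := by revert x; decide

theorem zmod_two_aniso : ∀ z₁ z₂ : ZMod 2, z₁ ^ 2 + 1 * z₁ * z₂ + 1 * z₂ ^ 2 = 0 → z₁ = 0 ∧ z₂ = 0 := by
  decide

/-- The form `Q + f(·, w)`. -/
noncomputable def shiftForm (w : Fin m ⊕ Fin m → K) : QuadraticForm K (Fin m ⊕ Fin m → K) :=
  Qp + QuadraticMap.linMulLin ((QuadraticMap.polarBilin Qp).flip w) ((QuadraticMap.polarBilin Qp).flip w)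

theorem shiftForm_apply (w v : Fin m ⊕ Fin m → K) :
    shiftForm w v = Cfsg.quadFormPlus m K v + QuadraticMap.polar Qp v w := by
  simp [shiftForm, OrthOrder.qPlus_apply, zmod_two_sq]

theorem polar_shiftForm (w u v : Fin m ⊕ Fin m → K) :
    QuadraticMap.polar (shiftForm w) u v = QuadraticMap.polar Qp u v := by
  rw [QuadraticMap.polar, shiftForm_apply, shiftForm_apply, shiftForm_apply,
    QuadraticMap.polar_add_left]
  simp only [QuadraticMap.polar, OrthOrder.qPlus_apply]
  ring

theorem shiftForm_eq_translate (w v : Fin m ⊕ Fin m → K) :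
    shiftForm w v = Cfsg.quadFormPlus m K (v + w) - Cfsg.quadFormPlus m K w := by
  rw [shiftForm_apply, ← OrthOrder.qPlus_apply, ← OrthOrder.qPlus_apply, ← OrthOrder.qPlus_apply,
    quad_add]
  ring

theorem shiftForm_injective : Function.Injective fun (w : Fin m ⊕ Fin m → K) v => shiftForm w v := by
  intro w w' h
  refine sub_eq_zero.1 ((OrthForms.qPlus_nondeg (F := K) m).2 _ fun v => ?_)
  have := congrFun h v
  simp only [shiftForm_apply, add_right_inj] at this
  rw [QuadraticMap.polarBilin_apply_apply, QuadraticMap.polar_sub_right, this, sub_self]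

/-- The hypothesis on the functions. -/
def Polarises (q : (Fin m ⊕ Fin m → K) → K) : Prop :=
  ∀ u v : Fin m ⊕ Fin m → K, q (u + v) = q u + q v +
    (Cfsg.quadFormPlus m K (u + v) - Cfsg.quadFormPlus m K u - Cfsg.quadFormPlus m K v)

theorem exists_shift {q : (Fin m ⊕ Fin m → K) → K} (hq : Polarises q) : ∃ w, q = fun v => shiftForm w v := by
  let l : (Fin m ⊕ Fin m → K) →ₗ[K] K :=
    (AddMonoidHom.toZModLinearMap 2 (AddMonoidHom.mk' (fun v => q v - Cfsg.quadFormPlus m K v)
      fun u v => by rw [hq u v]; ring))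
  obtain ⟨w, hw⟩ := (LinearMap.BilinForm.toDual (QuadraticMap.polarBilin Qp)
    (OrthForms.qPlus_nondeg (F := K) m)).surjective l
  refine ⟨w, funext fun v => ?_⟩
  have h1 : QuadraticMap.polar Qp w v = q v - Cfsg.quadFormPlus m K v := LinearMap.congr_fun hw v
  rw [shiftForm_apply, QuadraticMap.polar_comm, h1, add_sub_cancel]

theorem polarises_shift (w : Fin m ⊕ Fin m → K) : Polarises fun v => shiftForm w v := fun u v => by
  show shiftForm w (u + v) = _
  rw [quad_add, polar_shiftForm]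
  simp [QuadraticMap.polar, OrthOrder.qPlus_apply]

/-- Being equivalent to the plus form. -/
def IsPlus (q : (Fin m ⊕ Fin m → K) → K) : Prop :=
  ∃ g : (Fin m ⊕ Fin m → K) ≃ₗ[K] (Fin m ⊕ Fin m → K), ∀ v, q v = Cfsg.quadFormPlus m K (g v)

/-- Being equivalent to the minus form. -/
def IsMinus (q : (Fin m ⊕ Fin m → K) → K) : Prop :=
  ∃ g : (Fin m ⊕ Fin m → K) ≃ₗ[K] ((Fin (m - 1) ⊕ Fin (m - 1)) ⊕ Fin 2 → K),
    ∀ v, q v = Cfsg.quadFormMinus (m - 1) K 1 1 (g v)

theorem isPlus_or_isMinus (hm : 1 ≤ m) (w : Fin m ⊕ Fin m → K) :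
    IsPlus (fun v => shiftForm w v) ∨ IsMinus (fun v => shiftForm w v) := by
  have hQ : (QuadraticMap.polarBilin (shiftForm w)).Nondegenerate := by
    rw [show QuadraticMap.polarBilin (shiftForm w) = QuadraticMap.polarBilin Qp from
      LinearMap.ext fun u => LinearMap.ext fun v => polar_shiftForm w u v]
    exact OrthForms.qPlus_nondeg m
  rcases S2616.result hm (by simp; omega) (shiftForm w) hQ with ⟨b, h1, h2, h3⟩ | ⟨b, ζ, hζ, h1, h2, h3, h4, h5, h6, h7⟩
  · refine Or.inl ⟨b.equivFun, fun v => ?_⟩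
    rw [← OrthOrder.qPlus_apply]
    refine quad_ext b _ _ b.equivFun (fun i => ?_) (fun i j => ?_) v
    · rcases i with i | i <;> simp [(h1 i).1, (h1 i).2, OrthOrder.qPlus_apply, Cfsg.quadFormPlus]
    · have hp : ∀ u v : Fin m ⊕ Fin m → K, QuadraticMap.polar Qp u v =
          ∑ l, (u (.inl l) * v (.inr l) + v (.inl l) * u (.inr l)) := fun u v => by
        simp only [QuadraticMap.polar, OrthOrder.qPlus_apply, Cfsg.quadFormPlus, Pi.add_apply,
          ← Finset.sum_sub_distrib]
        exact Finset.sum_congr rfl fun l _ => by ring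
      have h2' : ∀ i j, QuadraticMap.polar (shiftForm w) (b (Sum.inr i)) (b (Sum.inl j)) =
          if j = i then 1 else 0 := fun i j => by rw [QuadraticMap.polar_comm]; exact h2 j i
      rcases i with i | i <;> rcases j with j | j <;>
        simp [(h3 i j).1, (h3 i j).2, h2, h2', hp, Pi.single_apply, Finsupp.single_apply, eq_comm]
  · obtain ⟨Q', hQ', -⟩ := OrthForms.exists_qMinus (F := K) (m - 1) 1 1 zmod_two_aniso
    refine Or.inr ⟨b.equivFun, fun v => ?_⟩
    rw [← hQ']
    have hζ1 : ζ = 1 := by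
      exact (by decide : ∀ z : K, (0 : K) ^ 2 + 0 + z ≠ 0 → z = 1) ζ (hζ 0)
    have hc : ∀ i (k : Fin 2), QuadraticMap.polar (shiftForm w) (b (Sum.inr k)) (b (Sum.inl (Sum.inl i))) = 0 ∧
        QuadraticMap.polar (shiftForm w) (b (Sum.inr k)) (b (Sum.inl (Sum.inr i))) = 0 := fun i k => by
      rw [QuadraticMap.polar_comm, QuadraticMap.polar_comm _ (b (Sum.inr k))]
      exact h4 i k
    have hs0 : QuadraticMap.polar (shiftForm w) (b (Sum.inr 0)) (b (Sum.inr 0)) = 0 := by
      rw [polar_self']; exact (congrArg (· * _) (by decide : (2 : K) = 0)).trans (zero_mul _)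
    have hs1 : QuadraticMap.polar (shiftForm w) (b (Sum.inr 1)) (b (Sum.inr 1)) = 0 := by
      rw [polar_self']; exact (congrArg (· * _) (by decide : (2 : K) = 0)).trans (zero_mul _)
    refine quad_ext b _ _ b.equivFun (fun i => ?_) (fun i j => ?_) v
    · rcases i with (i | i) | i
      · simp [(h1 i).1, hQ', Cfsg.quadFormMinus]
      · simp [(h1 i).2, hQ', Cfsg.quadFormMinus]
      · fin_cases i <;> simp [h5, h7, hζ1, hQ', Cfsg.quadFormMinus]
    · have hp : ∀ u v : (Fin (m - 1) ⊕ Fin (m - 1)) ⊕ Fin 2 → K, QuadraticMap.polar Q' u v =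
          (∑ l, (u (.inl (.inl l)) * v (.inl (.inr l)) + v (.inl (.inl l)) * u (.inl (.inr l)))) +
            (u (.inr 0) * v (.inr 1) + v (.inr 0) * u (.inr 1)) := fun u v => by
        have h2 : (2 : K) = 0 := by decide
        simp only [QuadraticMap.polar, hQ', Cfsg.quadFormMinus, Pi.add_apply, add_mul, mul_add,
          Finset.sum_add_distrib]
        linear_combination (u (.inr 0) * v (.inr 0) + u (.inr 1) * v (.inr 1)) * h2
      have h2' : ∀ i j, QuadraticMap.polar (shiftForm w) (b (Sum.inl (Sum.inr i))) (b (Sum.inl (Sum.inl j))) =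
          if j = i then 1 else 0 := fun i j => by rw [QuadraticMap.polar_comm]; exact h2 j i
      have h6' : QuadraticMap.polar (shiftForm w) (b (Sum.inr 1)) (b (Sum.inr 0)) = 1 := by
        rw [QuadraticMap.polar_comm]; exact h6
      rcases i with (i | i) | i <;> rcases j with (j | j) | j <;>
        (try fin_cases i) <;> (try fin_cases j) <;>
        simp [(h3 _ _).1, (h3 _ _).2, h2, h2', (h4 _ _).1, (h4 _ _).2, (hc _ _).1, (hc _ _).2, h6, h6',
          hs0, hs1, hp, Pi.single_apply, Finsupp.single_apply, eq_comm]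

theorem card_plus_zero (hm : 1 ≤ m) :
    Nat.card {v : Fin m ⊕ Fin m → K // Cfsg.quadFormPlus m K v = 0} = 2 ^ (2 * m - 1) + 2 ^ (m - 1) := by
  have h := FormCount.card_plus (F := K) m 0
  rw [ZMod.card, if_pos rfl] at h
  obtain ⟨k, rfl⟩ := Nat.exists_eq_add_of_le' hm
  rw [show 2 * (k + 1) - 1 = 2 * k + 1 by omega, Nat.add_sub_cancel]
  push_cast at h
  have h' := mul_left_cancel₀ (two_ne_zero (α := ℤ))
    (h.trans (by ring : _ = 2 * ((2 : ℤ) ^ (2 * k + 1) + 2 ^ k)))
  exact_mod_cast h'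

theorem card_plus_ne (hm : 1 ≤ m) {c : K} (hc : c ≠ 0) :
    Nat.card {v : Fin m ⊕ Fin m → K // Cfsg.quadFormPlus m K v = c} = 2 ^ (2 * m - 1) - 2 ^ (m - 1) := by
  have h := FormCount.card_plus (F := K) m c
  rw [ZMod.card, if_neg hc] at h
  obtain ⟨k, rfl⟩ := Nat.exists_eq_add_of_le' hm
  rw [show 2 * (k + 1) - 1 = 2 * k + 1 by omega, Nat.add_sub_cancel]
  push_cast at h
  have hle : 2 ^ k ≤ 2 ^ (2 * k + 1) := Nat.pow_le_pow_right two_pos (by omega)
  have h' := mul_left_cancel₀ (two_ne_zero (α := ℤ))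
    (h.trans (by ring : _ = 2 * ((2 : ℤ) ^ (2 * k + 1) - 2 ^ k)))
  zify [hle]
  exact h'

theorem card_minus_zero (hm : 1 ≤ m) :
    Nat.card {v // Cfsg.quadFormMinus (m - 1) K 1 1 v = 0} = 2 ^ (2 * m - 1) - 2 ^ (m - 1) := by
  have h := FormCount.card_minus (F := K) (m - 1) 1 1 zmod_two_aniso
  rw [ZMod.card] at h
  obtain ⟨k, rfl⟩ := Nat.exists_eq_add_of_le' hm
  simp only [Nat.add_sub_cancel] at h ⊢
  rw [show 2 * (k + 1) - 1 = 2 * k + 1 by omega]
  push_cast at h
  have hle : 2 ^ k ≤ 2 ^ (2 * k + 1) := Nat.pow_le_pow_right two_pos (by omega)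
  have h' := mul_left_cancel₀ (two_ne_zero (α := ℤ))
    (h.trans (by ring : _ = 2 * ((2 : ℤ) ^ (2 * k + 1) - 2 ^ k)))
  zify [hle]
  exact h'

theorem isPlus_iff (hm : 1 ≤ m) (w : Fin m ⊕ Fin m → K) :
    (IsPlus (fun v => shiftForm w v) ↔ Cfsg.quadFormPlus m K w = 0) ∧
      (IsMinus (fun v => shiftForm w v) ↔ Cfsg.quadFormPlus m K w ≠ 0) := by
  have hz : Nat.card {v // shiftForm w v = 0} =
      Nat.card {v : Fin m ⊕ Fin m → K // Cfsg.quadFormPlus m K v = Cfsg.quadFormPlus m K w} :=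
    Nat.card_congr ((Equiv.addRight w).subtypeEquiv fun v => by
      rw [shiftForm_eq_translate, sub_eq_zero]
      rfl)
  have hne : 2 ^ (2 * m - 1) + 2 ^ (m - 1) ≠ 2 ^ (2 * m - 1) - 2 ^ (m - 1) := by
    have h1 : (0 : ℕ) < 2 ^ (m - 1) := pow_pos two_pos _
    have h2 : (0 : ℕ) < 2 ^ (2 * m - 1) := pow_pos two_pos _
    omega
  have hP : IsPlus (fun v => shiftForm w v) → Cfsg.quadFormPlus m K w = 0 := by
    rintro ⟨g, hg⟩
    by_contra hw
    rw [card_plus_ne hm hw, Nat.card_congr (g.toEquiv.subtypeEquiv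
      (q := fun v => Cfsg.quadFormPlus m K v = 0) fun v => Eq.congr_left (hg v)),
      card_plus_zero hm] at hz
    exact hne hz
  have hM : IsMinus (fun v => shiftForm w v) → Cfsg.quadFormPlus m K w ≠ 0 := by
    rintro ⟨g, hg⟩ hw
    rw [hw, card_plus_zero hm, Nat.card_congr (g.toEquiv.subtypeEquiv
      (q := fun v => Cfsg.quadFormMinus (m - 1) K 1 1 v = 0) fun v => Eq.congr_left (hg v)),
      card_minus_zero hm] at hz
    exact hne hz.symm
  exact ⟨⟨hP, fun h => (isPlus_or_isMinus hm w).resolve_right fun h' => hM h' h⟩,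
    ⟨hM, fun h => (isPlus_or_isMinus hm w).resolve_left fun h' => h (hP h')⟩⟩

/-- The forms correspond to vectors. -/
noncomputable def shiftEquiv :
    (Fin m ⊕ Fin m → K) ≃ {q : (Fin m ⊕ Fin m → K) → K // Polarises q} :=
  Equiv.ofBijective (fun w => ⟨fun v => shiftForm w v, polarises_shift w⟩)
    ⟨fun _ _ h => shiftForm_injective (congrArg Subtype.val h),
      fun q => by
        obtain ⟨w, hw⟩ := exists_shift q.2
        exact ⟨w, Subtype.ext hw.symm⟩⟩

theorem shiftEquiv_val (w : Fin m ⊕ Fin m → K) : (shiftEquiv w).1 = fun v => shiftForm w v := rfl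

end Cfsg.Agent.Spinor
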