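import Cfsg.Agent.Lib.Spinor.Main
import Mathlib.LinearAlgebra.Transvection.Basic

/-!
Determinants, represented values and the passage to matrix groups.
-/

set_option autoImplicit false

namespace Cfsg.Agent.Spinor

open Cfsg.Agent.FormsLib

section Abstract

variable {F V : Type*} [Field F] [AddCommGroup V] [Module F V] [FiniteDimensional F V]
  {Q : QuadraticForm F V}

theorem det_oRefl {v : V} (hv : Q v ≠ 0) : LinearEquiv.det (oRefl Q v hv).1 = -1 := by
  ext
  rw [LinearEquiv.coe_det]
  have e : (((oRefl Q v hv).1 : V ≃ₗ[F] V) : V →ₗ[F] V) =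
      LinearMap.transvection (-((Q v)⁻¹ • (QuadraticMap.polarBilin Q).flip v)) v := by
    ext x
    rw [LinearMap.transvection.apply]
    show refl Q v hv x = _
    simp [sub_eq_add_neg]
  rw [e, LinearMap.transvection.det]
  simp [polar_self']
  field_simp
  ring

variable [Fintype F] (hQ : (QuadraticMap.polarBilin Q).Nondegenerate)

include hQ

/-- The determinant is the sign `dick`. -/
theorem det_coe_dick (hgen : reflGroup Q = ⊤) (g : oGroup Q) :
    ((LinearEquiv.det g.1 : Fˣ) : F) = ((dick g : ℤ) : F) := by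
  rw [det_eq_dick hQ hgen g fun v hv => det_oRefl hv]
  rfl

theorem dick_eq_one_iff_det (h2 : (2 : F) ≠ 0) (g : oGroup Q) :
    dick g = 1 ↔ LinearEquiv.det g.1 = 1 := by
  have hgen := reflGroup_eq_top hQ (Or.inl fun h => h2 (by
    have := FiniteField.cast_card_eq_zero F; rw [h] at this; exact_mod_cast this))
  constructor
  · intro h
    ext
    rw [det_coe_dick hQ hgen g, h]
    simp
  · intro h
    rcases Int.units_eq_one_or (dick g) with h' | h'
    · exact h'
    · have h'' := det_coe_dick hQ hgen g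
      rw [h, h'] at h''
      simp only [Units.val_one, Units.val_neg, Int.cast_neg, Int.cast_one] at h''
      exact absurd (show (2 : F) = 0 by linear_combination h'') h2

/-- The spinor norm of a product of reflections. -/
theorem prod_oRefl (hgen : reflGroup Q = ⊤) (vs : List V) (h : ∀ v ∈ vs, Q v ≠ 0) :
    dick (vs.attach.map fun v => oRefl Q v.1 (h v.1 v.2)).prod = (-1) ^ vs.length ∧
      (spin (vs.attach.map fun v => oRefl Q v.1 (h v.1 v.2)).prod = 1 ↔
        IsSquare (vs.map fun v => Q v).prod) := by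
  induction vs with
  | nil =>
    refine ⟨by simp [dick_one], ?_⟩
    simp [show spin (1 : oGroup Q) = 1 from map_one (spinHom hQ hgen)]
  | cons v vs ih =>
    have hv := h v List.mem_cons_self
    obtain ⟨ih1, ih2⟩ := ih fun w hw => h w (List.mem_cons_of_mem _ hw)
    simp only [List.attach_cons, List.map_cons, List.map_map, List.prod_cons, Function.comp_def]
    constructor
    · rw [dick_mul hQ hgen, dick_oRefl hQ, ih1, List.length_cons, pow_succ']
    · rw [spin_mul hQ hgen, spin_oRefl hQ]
      have hp : (vs.map fun w => Q w).prod ≠ 0 := by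
        intro h0
        obtain ⟨w, hw, hw0⟩ := List.mem_map.1 (List.prod_eq_zero_iff.1 h0)
        exact h w (List.mem_cons_of_mem _ hw) hw0
      rw [isSquare_mul_iff' hv hp, ← ih2]
      split_ifs with hs
      · simp [hs]
      · have key : ∀ u : ℤˣ, (-1 * u = 1 ↔ (IsSquare (Q v) ↔ u = 1)) := fun u => by
          rcases Int.units_eq_one_or u with rfl | rfl <;> simp [hs]
        exact key _

omit hQ

/-- A non-degenerate subspace of dimension at least two represents every non-zero scalar. -/
theorem exists_norm {W : Submodule F V}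
    (hW : W ⊓ LinearMap.BilinForm.orthogonal (QuadraticMap.polarBilin Q) W = ⊥)
    (hdim : 2 ≤ Module.finrank F W ∨ ((2 : F) = 0 ∧ 1 ≤ Module.finrank F W)) {c : F} (hc : c ≠ 0) :
    ∃ v ∈ W, Q v = c := by
  haveI : Nontrivial W := Module.nontrivial_of_finrank_pos (R := F) (by rcases hdim with h | h <;> omega)
  have hsep : ∀ x ∈ W, (∀ y ∈ W, QuadraticMap.polar Q y x = 0) → x = 0 := fun x hx h => by
    have : x ∈ W ⊓ LinearMap.BilinForm.orthogonal (QuadraticMap.polarBilin Q) W :=
      ⟨hx, fun y hy => h y hy⟩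
    rwa [hW, Submodule.mem_bot] at this
  obtain ⟨a, ha, hQa⟩ : ∃ a ∈ W, Q a ≠ 0 := by
    by_contra h
    push Not at h
    obtain ⟨x, hx⟩ := exists_ne (0 : W)
    exact hx (Subtype.ext (hsep x x.2 fun y hy => polar_of_singular h hy x.2))
  by_cases h2 : (2 : F) = 0
  · obtain ⟨t, ht⟩ := FiniteField.isSquare_of_char_two (ringChar_eq_two h2) (c / Q a)
    refine ⟨t • a, W.smul_mem t ha, ?_⟩
    rw [QuadraticMap.map_smul, smul_eq_mul, ← ht, div_mul_cancel₀ _ hQa]
  have hd : 2 ≤ Module.finrank F W := hdim.resolve_right fun h => h2 h.1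
  have hnle : ¬ W ≤ LinearMap.ker ((QuadraticMap.polarBilin Q).flip a) := fun h => by
    have := mem_ker_polar.1 (h ha)
    rw [polar_self'] at this
    exact mul_ne_zero h2 hQa this
  have h3 := finrank_inf_ker hnle
  set W' := W ⊓ LinearMap.ker ((QuadraticMap.polarBilin Q).flip a) with hW'
  obtain ⟨b, hb, hQb⟩ : ∃ b ∈ W', Q b ≠ 0 := by
    by_contra h
    push Not at h
    haveI : Nontrivial W' := Module.nontrivial_of_finrank_pos (R := F) (by omega)
    obtain ⟨x, hx⟩ := exists_ne (0 : W')
    refine hx (Subtype.ext (hsep x x.2.1 fun y hy => ?_))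
    set t := (2 * Q a)⁻¹ * QuadraticMap.polar Q y a with ht
    have hy' : y - t • a ∈ W' := by
      refine ⟨W.sub_mem hy (W.smul_mem _ ha), mem_ker_polar.2 ?_⟩
      rw [QuadraticMap.polar_sub_left, QuadraticMap.polar_smul_left, polar_self', smul_eq_mul, ht]
      field_simp
      ring
    have h4 := polar_of_singular h hy' x.2
    rw [QuadraticMap.polar_sub_left, QuadraticMap.polar_smul_left, QuadraticMap.polar_comm Q a,
      mem_ker_polar.1 x.2.2, smul_zero, sub_zero] at h4
    exact h4
  obtain ⟨s, t, hst⟩ := FiniteField.exists_root_sum_quadratic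
    (f := Polynomial.C (Q a) * Polynomial.X ^ 2)
    (g := Polynomial.C (Q b) * Polynomial.X ^ 2 + Polynomial.C (-c))
    (by rw [Polynomial.degree_C_mul_X_pow 2 hQa]; rfl)
    (by rw [Polynomial.degree_add_C (by rw [Polynomial.degree_C_mul_X_pow 2 hQb]; decide),
          Polynomial.degree_C_mul_X_pow 2 hQb]; rfl)
    (FiniteField.odd_card_of_char_ne_two (ringChar_ne_two h2) |> Nat.odd_iff.mpr |> Nat.odd_iff.1)
  refine ⟨s • a + t • b, W.add_mem (W.smul_mem s ha) (W.smul_mem t hb.1), ?_⟩
  rw [quad_add, QuadraticMap.map_smul, QuadraticMap.map_smul, QuadraticMap.polar_smul_left,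
    QuadraticMap.polar_smul_right, QuadraticMap.polar_comm Q a b, mem_ker_polar.1 hb.2]
  simp only [Polynomial.eval_add, Polynomial.eval_mul, Polynomial.eval_C, Polynomial.eval_pow,
    Polynomial.eval_X] at hst
  simp only [smul_eq_mul]
  linear_combination hst

include hQ

theorem top_inf_orth :
    (⊤ : Submodule F V) ⊓ LinearMap.BilinForm.orthogonal (QuadraticMap.polarBilin Q) ⊤ = ⊥ := by
  rw [top_inf_eq, Submodule.eq_bot_iff]
  exact fun x hx => hQ.2 x fun y => hx y Submodule.mem_top

end Abstract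

section Matrices

variable {F : Type*} [Field F] {ι : Type} [Fintype ι] [DecidableEq ι]

theorem oRefl_matrix (Q : QuadraticForm F (ι → F)) {v : ι → F} (hv : Q v ≠ 0) :
    (((oEquiv Q).symm (oRefl Q v hv)).1 : Matrix ι ι F) = Cfsg.reflectionMatrix ⇑Q v := by
  refine Matrix.ext_of_mulVec_single fun i => ?_
  rw [← oEquiv_apply, MulEquiv.apply_symm_apply, reflectionMatrix_mulVec]
  rfl

/-- `Omega` corresponds to the derived group of `oGroup`. -/
theorem mem_Omega_iff (Q : QuadraticForm F (ι → F)) (g : Cfsg.isometryGroup F ⇑Q) :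
    g ∈ Cfsg.Omega F ⇑Q ↔ oEquiv Q g ∈ commutator (oGroup Q) := by
  constructor
  · intro h
    have := Subgroup.mem_map_of_mem (oEquiv Q).toMonoidHom h
    rw [show Cfsg.Omega F ⇑Q = ⁅(⊤ : Subgroup (Cfsg.isometryGroup F ⇑Q)), ⊤⁆ from commutator_def _,
      Subgroup.map_commutator] at this
    rw [commutator_def]
    exact Subgroup.commutator_mono le_top le_top this
  · intro h
    have := Subgroup.mem_map_of_mem (oEquiv Q).symm.toMonoidHom h
    rw [commutator_def, Subgroup.map_commutator] at this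
    rw [show Cfsg.Omega F ⇑Q = ⁅(⊤ : Subgroup (Cfsg.isometryGroup F ⇑Q)), ⊤⁆ from commutator_def _]
    simpa using Subgroup.commutator_mono le_top le_top this

theorem det_oEquiv (Q : QuadraticForm F (ι → F)) (g : Cfsg.isometryGroup F ⇑Q) :
    ((LinearEquiv.det (oEquiv Q g).1 : Fˣ) : F) = (g.1 : Matrix ι ι F).det := by
  rw [LinearEquiv.coe_det, ← LinearMap.det_toLin' (g.1 : Matrix ι ι F)]
  rfl

/-- The criterion for `Omega`. -/
theorem mem_Omega_iff' [Fintype F] (Q : QuadraticForm F (ι → F))
    (hQ : (QuadraticMap.polarBilin Q).Nondegenerate)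
    (hexc : Fintype.card F ≠ 2 ∨ Fintype.card ι ≠ 4) (g : Cfsg.isometryGroup F ⇑Q) :
    g ∈ Cfsg.Omega F ⇑Q ↔ dick (oEquiv Q g) = 1 ∧ spin (oEquiv Q g) = 1 := by
  rw [mem_Omega_iff, mem_commutator_iff hQ (by rwa [Module.finrank_fintype_fun_eq_card])]

end Matrices

end Cfsg.Agent.Spinor
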