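import Cfsg.Agent.Lib.Spinor.Parity

/-!
Transitivity of the derived group on subspaces.
-/

set_option autoImplicit false

namespace Cfsg.Agent.Spinor

open Cfsg.Agent.FormsLib

variable {F : Type*} [Field F] [Fintype F] {κ : Type} [Fintype κ] [DecidableEq κ]

theorem mulVecLin_oEquiv_symm (Q : QuadraticForm F (κ → F)) (g : oGroup Q) :
    Matrix.mulVecLin ((((oEquiv Q).symm g).1 : Matrix κ κ F)) = (g.1 : (κ → F) →ₗ[F] (κ → F)) := by
  refine LinearMap.ext fun v => ?_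
  rw [Matrix.mulVecLin_apply, ← oEquiv_apply, MulEquiv.apply_symm_apply]
  rfl

theorem mulVecLin_oEquiv (Q : QuadraticForm F (κ → F)) (g : Cfsg.isometryGroup F ⇑Q) :
    Matrix.mulVecLin (g.1 : Matrix κ κ F) = ((oEquiv Q g).1 : (κ → F) →ₗ[F] (κ → F)) := by
  rw [← mulVecLin_oEquiv_symm, MulEquiv.symm_apply_apply]

variable {Q : QuadraticForm F (κ → F)}

/-- Correct a witness by a stabiliser element. -/
theorem exists_omega_map (hQ : (QuadraticMap.polarBilin Q).Nondegenerate)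
    (hexc : Fintype.card F ≠ 2 ∨ Fintype.card κ ≠ 4) {U W : Submodule F (κ → F)} (g : oGroup Q)
    (hg : U.map (g.1 : (κ → F) →ₗ[F] (κ → F)) = W)
    (hA : dick g = 1 ∨ ∃ h : oGroup Q, (∀ x ∈ U, h.1 x ∈ U) ∧ dick h = -1)
    (hB : (2 : F) ≠ 0 → ∃ h : oGroup Q, (∀ x ∈ U, h.1 x ∈ U) ∧ dick h = 1 ∧ spin h = -1) :
    ∃ G : Cfsg.isometryGroup F ⇑Q, G ∈ Cfsg.Omega F ⇑Q ∧
      U.map (Matrix.mulVecLin (G.1 : Matrix κ κ F)) = W := by
  obtain ⟨h, hP, hc⟩ := exists_adjust hQ (by rwa [Module.finrank_fintype_fun_eq_card])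
    (fun h : oGroup Q => ∀ x ∈ U, h.1 x ∈ U) (fun x hx => hx) (fun a b ha hb x hx => ha _ (hb x hx))
    g hA hB
  refine ⟨(oEquiv Q).symm (g * h), (mem_Omega_iff Q _).2 (by rwa [MulEquiv.apply_symm_apply]), ?_⟩
  rw [mulVecLin_oEquiv_symm, show (((g * h).1 : (κ → F) ≃ₗ[F] (κ → F)) : (κ → F) →ₗ[F] (κ → F)) =
    (g.1 : (κ → F) →ₗ[F] (κ → F)).comp (h.1 : (κ → F) →ₗ[F] (κ → F)) from rfl, Submodule.map_comp,
    map_eq_of_mapsTo hP, hg]

omit [Fintype F] [DecidableEq κ] in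
theorem exists_witt_map (hQ : (QuadraticMap.polarBilin Q).Nondegenerate) {U W : Submodule F (κ → F)}
    (e : U ≃ₗ[F] W) (he : ∀ u : U, Q (e u : κ → F) = Q (u : κ → F)) :
    ∃ g : oGroup Q, U.map (g.1 : (κ → F) →ₗ[F] (κ → F)) = W := by
  obtain ⟨g, hg, hgx⟩ := quad_witt hQ U (W.subtype.comp e.toLinearMap)
    (W.injective_subtype.comp e.injective) he
  refine ⟨⟨g, hg⟩, le_antisymm ?_ fun w hw => ⟨e.symm ⟨w, hw⟩, (e.symm ⟨w, hw⟩).2, ?_⟩⟩
  · rintro _ ⟨u, hu, rfl⟩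
    show g u ∈ W
    rw [show g u = g (⟨u, hu⟩ : U).1 from rfl, hgx]
    exact (e ⟨u, hu⟩).2
  · show g _ = w
    rw [hgx]
    simp

omit [Fintype F] [DecidableEq κ] in
theorem exists_witt_singular (hQ : (QuadraticMap.polarBilin Q).Nondegenerate)
    {U W : Submodule F (κ → F)} (hd : Module.finrank F U = Module.finrank F W)
    (hU : ∀ u ∈ U, Q u = 0) (hW : ∀ w ∈ W, Q w = 0) :
    ∃ g : oGroup Q, U.map (g.1 : (κ → F) →ₗ[F] (κ → F)) = W :=
  exists_witt_map hQ (LinearEquiv.ofFinrankEq _ _ hd) fun u => by rw [hW _ (Submodule.coe_mem _), hU _ u.2]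

omit [DecidableEq κ] in
theorem refl_mapsTo {U : Submodule F (κ → F)} {v : κ → F} (hv : Q v ≠ 0)
    (h : v ∈ U ∨ ∀ u ∈ U, QuadraticMap.polar Q u v = 0) : ∀ x ∈ U, (oRefl Q v hv).1 x ∈ U := by
  intro x hx
  show refl Q v hv x ∈ U
  rcases h with h | h
  · rw [refl_apply]
    exact U.sub_mem hx (U.smul_mem _ h)
  · rw [refl_fix Q hv (h x hx)]
    exact hx

end Cfsg.Agent.Spinor
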