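import Cfsg.Agent.Lib.Spinor.Products

/-!
Isometries of an orthogonal summand, and adjusting an isometry into the derived group.
-/

set_option autoImplicit false

namespace Cfsg.Agent.Spinor

open Cfsg.Agent.FormsLib

section Emb

variable {F V V₁ V₂ : Type*} [Field F] [AddCommGroup V] [Module F V] [AddCommGroup V₁] [Module F V₁]
  [AddCommGroup V₂] [Module F V₂] {Q : QuadraticForm F V} {Q₁ : QuadraticForm F V₁}
  {Q₂ : QuadraticForm F V₂}

/-- Extending an isometry of an orthogonal summand by the identity. -/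
def embL (L : V ≃ₗ[F] V₁ × V₂) (hL : ∀ x, Q x = Q₁ (L x).1 + Q₂ (L x).2) :
    oGroup Q₁ →* oGroup Q where
  toFun g := ⟨L.trans ((g.1.prodCongr (LinearEquiv.refl F V₂)).trans L.symm), fun x => by
    rw [hL, hL x]
    simp [g.2 _]⟩
  map_one' := Subtype.ext (LinearEquiv.ext fun x => by
    show L.symm (L x) = x
    exact L.symm_apply_apply x)
  map_mul' g h := Subtype.ext (LinearEquiv.ext fun x => by
    show L.symm (g.1 (h.1 (L x).1), (L x).2) =
      L.symm (g.1 (L (L.symm (h.1 (L x).1, (L x).2))).1, (L (L.symm (h.1 (L x).1, (L x).2))).2)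
    simp)

theorem embL_apply (L : V ≃ₗ[F] V₁ × V₂) (hL : ∀ x, Q x = Q₁ (L x).1 + Q₂ (L x).2) (g : oGroup Q₁)
    (x : V) : (embL L hL g).1 x = L.symm (g.1 (L x).1, (L x).2) := rfl

theorem embL_oRefl (L : V ≃ₗ[F] V₁ × V₂) (hL : ∀ x, Q x = Q₁ (L x).1 + Q₂ (L x).2) {v : V₁}
    (hv : Q₁ v ≠ 0) (hv' : Q (L.symm (v, 0)) ≠ 0) :
    embL L hL (oRefl Q₁ v hv) = oRefl Q (L.symm (v, 0)) hv' := by
  refine Subtype.ext (LinearEquiv.ext fun x => L.injective ?_)
  show L (L.symm (refl Q₁ v hv (L x).1, (L x).2)) = L (refl Q (L.symm (v, 0)) hv' x)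
  rw [refl_apply, refl_apply, LinearEquiv.apply_symm_apply, map_sub, map_smul,
    LinearEquiv.apply_symm_apply]
  have h1 : Q (L.symm (v, 0)) = Q₁ v := by rw [hL]; simp
  have h2 : QuadraticMap.polar Q x (L.symm (v, 0)) = QuadraticMap.polar Q₁ (L x).1 v := by
    simp only [QuadraticMap.polar, hL, map_add, LinearEquiv.apply_symm_apply, Prod.fst_add,
      Prod.snd_add, add_zero, QuadraticMap.map_zero]
    ring
  rw [h1, h2]
  simp [Prod.ext_iff]

variable [Fintype F] [FiniteDimensional F V] [FiniteDimensional F V₁]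

/-- The extension has the same invariants. -/
theorem embL_invariants (hQ : (QuadraticMap.polarBilin Q).Nondegenerate)
    (hQ₁ : (QuadraticMap.polarBilin Q₁).Nondegenerate) (hgen : reflGroup Q = ⊤)
    (hgen₁ : reflGroup Q₁ = ⊤) (L : V ≃ₗ[F] V₁ × V₂)
    (hL : ∀ x, Q x = Q₁ (L x).1 + Q₂ (L x).2) (g : oGroup Q₁) :
    dick (embL L hL g) = dick g ∧ spin (embL L hL g) = spin g := by
  have hv' : ∀ v, Q (L.symm (v, 0)) = Q₁ v := fun v => by rw [hL]; simp
  constructor
  · refine DFunLike.congr_fun (MonoidHom.eq_of_eqOn_dense hgen₁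
      (f := (dickHom hQ hgen).comp (embL L hL)) (g := dickHom hQ₁ hgen₁) ?_) g
    rintro _ ⟨v, hv, rfl⟩
    show dick (embL L hL (oRefl Q₁ v hv)) = dick (oRefl Q₁ v hv)
    rw [embL_oRefl L hL hv (by rw [hv']; exact hv), dick_oRefl hQ, dick_oRefl hQ₁]
  · refine DFunLike.congr_fun (MonoidHom.eq_of_eqOn_dense hgen₁
      (f := (spinHom hQ hgen).comp (embL L hL)) (g := spinHom hQ₁ hgen₁) ?_) g
    rintro _ ⟨v, hv, rfl⟩
    show spin (embL L hL (oRefl Q₁ v hv)) = spin (oRefl Q₁ v hv)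
    rw [embL_oRefl L hL hv (by rw [hv']; exact hv), spin_oRefl hQ, spin_oRefl hQ₁, hv']

end Emb

variable {F V : Type*} [Field F] [Fintype F] [AddCommGroup V] [Module F V] [FiniteDimensional F V]
  {Q : QuadraticForm F V} (hQ : (QuadraticMap.polarBilin Q).Nondegenerate)

include hQ

theorem spin_eq_one_of_two_eq_zero (h2 : (2 : F) = 0) (g : oGroup Q) : spin g = 1 := by
  have _ := hQ
  simp [spin, h2]

/-- An isometry can be moved into the derived group inside a coset of a set with enough invariants. -/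
theorem exists_adjust (hexc : Fintype.card F ≠ 2 ∨ Module.finrank F V ≠ 4) (P : oGroup Q → Prop)
    (h1 : P 1) (hmul : ∀ a b, P a → P b → P (a * b))
    (g : oGroup Q) (hA : dick g = 1 ∨ ∃ h, P h ∧ dick h = -1)
    (hB : (2 : F) ≠ 0 → ∃ h, P h ∧ dick h = 1 ∧ spin h = -1) :
    ∃ h, P h ∧ g * h ∈ commutator (oGroup Q) := by
  have hgen := reflGroup_eq_top hQ hexc
  obtain ⟨a, ha, hda⟩ : ∃ h, P h ∧ dick (g * h) = 1 := by
    rcases hA with h | ⟨h, hP, hd⟩
    · exact ⟨1, h1, by rw [mul_one]; exact h⟩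
    · rcases Int.units_eq_one_or (dick g) with e | e
      · exact ⟨1, h1, by rw [mul_one]; exact e⟩
      · exact ⟨h, hP, by rw [dick_mul hQ hgen, e, hd]; simp⟩
  rcases Int.units_eq_one_or (spin (g * a)) with e | e
  · exact ⟨a, ha, (mem_commutator_iff hQ hexc _).2 ⟨hda, e⟩⟩
  have h2 : (2 : F) ≠ 0 := fun h2 => by
    rw [spin_eq_one_of_two_eq_zero hQ h2] at e
    exact absurd e (by decide)
  obtain ⟨b, hb, hdb, hsb⟩ := hB h2
  refine ⟨a * b, hmul a b ha hb, (mem_commutator_iff hQ hexc _).2 ⟨?_, ?_⟩⟩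
  · rw [← mul_assoc, dick_mul hQ hgen, hda, hdb, one_mul]
  · rw [← mul_assoc, spin_mul hQ hgen, e, hsb]; simp

omit hQ

omit [Fintype F] [FiniteDimensional F V] in
/-- Scaling a hyperbolic pair by two reflections. -/
theorem pair_apply {u f : V} (hu : Q u = 0) (hf : Q f = 0) (huf : QuadraticMap.polar Q u f = 1)
    {d : F} (hd : d ≠ 0) (h1 : Q (u - f) ≠ 0) (h2 : Q (u - d • f) ≠ 0) :
    (oRefl Q (u - f) h1 * oRefl Q (u - d • f) h2).1 u = d • u ∧
    (oRefl Q (u - f) h1 * oRefl Q (u - d • f) h2).1 f = d⁻¹ • f ∧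
    (∀ x, QuadraticMap.polar Q x u = 0 → QuadraticMap.polar Q x f = 0 →
      (oRefl Q (u - f) h1 * oRefl Q (u - d • f) h2).1 x = x) ∧ Q (u - f) = -1 ∧ Q (u - d • f) = -d := by
  have huu : QuadraticMap.polar Q u u = 0 := by rw [polar_self', hu, mul_zero]
  have hff : QuadraticMap.polar Q f f = 0 := by rw [polar_self', hf, mul_zero]
  have hfu : QuadraticMap.polar Q f u = 1 := by rw [QuadraticMap.polar_comm]; exact huf
  have e1 : Q (u - f) = -1 := by
    rw [sub_eq_add_neg, quad_add, QuadraticMap.map_neg, QuadraticMap.polar_neg_right, hu, hf, huf]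
    ring
  have e2 : Q (u - d • f) = -d := by
    rw [sub_eq_add_neg, quad_add, QuadraticMap.map_neg, QuadraticMap.map_smul,
      QuadraticMap.polar_neg_right, QuadraticMap.polar_smul_right, hu, hf, huf]
    simp
  have key : ∀ x, (oRefl Q (u - f) h1 * oRefl Q (u - d • f) h2).1 x =
      refl Q (u - f) h1 (refl Q (u - d • f) h2 x) := fun x => rfl
  refine ⟨?_, ?_, fun x hx hx' => ?_, e1, e2⟩
  · rw [key]
    simp only [refl_apply, e1, e2, QuadraticMap.polar_sub_left, QuadraticMap.polar_sub_right,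
      QuadraticMap.polar_smul_left, QuadraticMap.polar_smul_right, huu, hff, huf, hfu, smul_eq_mul]
    match_scalars <;> field_simp <;> ring
  · rw [key]
    simp only [refl_apply, e1, e2, QuadraticMap.polar_sub_left, QuadraticMap.polar_sub_right,
      QuadraticMap.polar_smul_left, QuadraticMap.polar_smul_right, huu, hff, huf, hfu, smul_eq_mul]
    match_scalars <;> field_simp <;> ring
  · rw [key]
    simp [hx, hx']

omit [FiniteDimensional F V] in
/-- Scalars forming the nonsquare class. -/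
theorem exists_nonsquare (h2 : (2 : F) ≠ 0) : ∃ d : F, d ≠ 0 ∧ ¬ IsSquare d := by
  obtain ⟨d, hd⟩ := FiniteField.exists_nonsquare (F := F) (ringChar_ne_two h2)
  exact ⟨d, fun h => hd (h ▸ IsSquare.zero), hd⟩

include hQ

theorem pair_invariants (hgen : reflGroup Q = ⊤) {a b : V} (ha : Q a ≠ 0) (hb : Q b ≠ 0) {d : F}
    (hd : d ≠ 0) (hsq : Q a * Q b = d) :
    dick (oRefl Q a ha * oRefl Q b hb) = 1 ∧
      (spin (oRefl Q a ha * oRefl Q b hb) = 1 ↔ IsSquare d) := by
  refine ⟨by rw [dick_mul hQ hgen, dick_oRefl hQ, dick_oRefl hQ]; simp, ?_⟩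
  rw [spin_mul hQ hgen, spin_oRefl hQ, spin_oRefl hQ, ← hsq, isSquare_mul_iff' ha hb]
  split_ifs with h h' h' <;> simp [*]

/-- A singular vector has a singular partner orthogonal to a prescribed subspace avoiding it. -/
theorem exists_partner {u : V} (hu : Q u = 0) {W : Submodule F V} (huW : u ∉ W)
    (hW : ∀ w ∈ W, QuadraticMap.polar Q u w = 0) :
    ∃ f, Q f = 0 ∧ QuadraticMap.polar Q u f = 1 ∧ ∀ w ∈ W, QuadraticMap.polar Q w f = 0 := by
  obtain ⟨z, hz, hzu⟩ := (isTraceForm_polar Q hQ).exists_sep huW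
  simp only [QuadraticMap.polarBilin_apply_apply] at hz hzu
  refine ⟨z + (-Q z) • u, ?_, ?_, fun w hw => ?_⟩
  · rw [quad_add, QuadraticMap.map_smul, QuadraticMap.polar_smul_right, hu, hzu]
    simp
  · rw [QuadraticMap.polar_add_right, QuadraticMap.polar_smul_right, QuadraticMap.polar_comm Q u z,
      hzu, polar_self', hu]
    simp
  · rw [QuadraticMap.polar_add_right, QuadraticMap.polar_smul_right, QuadraticMap.polar_comm Q w z,
      hz w hw, QuadraticMap.polar_comm Q w u, hW w hw]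
    simp

/-- An isometry of invariants `(1, -1)` stabilising a totally singular subspace (and a complement
that is totally singular, if one is given). -/
theorem exists_singular_stab (hgen : reflGroup Q = ⊤) (h2 : (2 : F) ≠ 0) {U : Submodule F V}
    (hU : ∀ x ∈ U, Q x = 0) (hU0 : U ≠ ⊥) :
    ∃ h : oGroup Q, (∀ x ∈ U, h.1 x ∈ U) ∧ dick h = 1 ∧ spin h = -1 := by
  obtain ⟨H, u, hHU, huU, huH, hUeq, -⟩ := exists_hyperplane_of_ne_bot hU0
  obtain ⟨f, hf, huf, hfH⟩ := exists_partner hQ (hU u huU) huH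
    fun w hw => polar_of_singular hU huU (hHU hw)
  obtain ⟨d, hd, hns⟩ := exists_nonsquare h2
  have e1 : Q (u - f) ≠ 0 := by
    rw [sub_eq_add_neg, quad_add, QuadraticMap.map_neg, QuadraticMap.polar_neg_right, hU u huU, hf, huf]
    simp
  have e2 : Q (u - d • f) ≠ 0 := by
    rw [sub_eq_add_neg, quad_add, QuadraticMap.map_neg, QuadraticMap.map_smul,
      QuadraticMap.polar_neg_right, QuadraticMap.polar_smul_right, hU u huU, hf, huf]
    simpa using hd
  obtain ⟨hpu, -, hpx, q1, q2⟩ := pair_apply (hU u huU) hf huf hd e1 e2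
  obtain ⟨i1, i2⟩ := pair_invariants hQ hgen e1 e2 hd (by rw [q1, q2]; ring)
  refine ⟨_, fun x hx => ?_, i1, (Int.units_eq_one_or _).resolve_left fun h => hns (i2.1 h)⟩
  obtain ⟨w, hw, s, hs, rfl⟩ := Submodule.mem_sup.1 (hUeq.le hx)
  obtain ⟨c, rfl⟩ := Submodule.mem_span_singleton.1 hs
  rw [map_add, map_smul, hpu, hpx w (polar_of_singular hU (hHU hw) huU) (hfH w hw)]
  exact U.add_mem (hHU hw) (U.smul_mem c (U.smul_mem d huU))

omit hQ

omit [Fintype F] in
theorem map_eq_of_mapsTo {U : Submodule F V} {h : V ≃ₗ[F] V} (hU : ∀ x ∈ U, h x ∈ U) :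
    U.map (h : V →ₗ[F] V) = U := by
  refine Submodule.eq_of_le_of_finrank_eq ?_ (LinearEquiv.finrank_map_eq _ _)
  rintro _ ⟨x, hx, rfl⟩
  exact hU x hx

end Cfsg.Agent.Spinor
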