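import Cfsg.Agent.Lib.Spinor.Sign

/-!
The spinor norm of an orthogonal group over a finite field and the derived group.
-/

set_option autoImplicit false

namespace Cfsg.Agent.Spinor

open Cfsg.Agent.FormsLib

theorem ringChar_ne_two {F : Type*} [Field F] (h2 : (2 : F) ≠ 0) : ringChar F ≠ 2 := fun h => h2 (by
  have := CharP.cast_eq_zero F (ringChar F)
  rw [h] at this
  exact_mod_cast this)

theorem ringChar_eq_two {F : Type*} [Field F] (h2 : (2 : F) = 0) : ringChar F = 2 := by
  by_contra h
  exact Ring.two_ne_zero h h2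

/-- Non-zero squares form a subgroup of index at most two. -/
theorem isSquare_mul_iff' {F : Type*} [Field F] [Finite F] {a b : F} (ha : a ≠ 0) (hb : b ≠ 0) :
    IsSquare (a * b) ↔ (IsSquare a ↔ IsSquare b) := by
  classical
  have := Fintype.ofFinite F
  by_cases h2 : (2 : F) = 0
  · simp [FiniteField.isSquare_of_char_two (ringChar_eq_two h2)]
  rw [← quadraticChar_one_iff_isSquare (mul_ne_zero ha hb), ← quadraticChar_one_iff_isSquare ha,
    ← quadraticChar_one_iff_isSquare hb, map_mul]
  rcases quadraticChar_dichotomy ha with h | h <;> rcases quadraticChar_dichotomy hb with h' | h' <;>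
    simp [h, h']

variable {F V : Type*} [Field F] [Fintype F] [AddCommGroup V] [Module F V] [FiniteDimensional F V]
  {Q : QuadraticForm F V}

omit [Fintype F] [FiniteDimensional F V] in
theorem oRefl_smul {v : V} (hv : Q v ≠ 0) {c : F} (hc : c ≠ 0) (hcv : Q (c • v) ≠ 0) :
    oRefl Q (c • v) hcv = oRefl Q v hv := by
  refine Subtype.ext (LinearEquiv.ext fun x => ?_)
  show refl Q (c • v) hcv x = refl Q v hv x
  rw [refl_apply, refl_apply, QuadraticMap.polar_smul_right, QuadraticMap.map_smul, smul_smul]
  simp only [smul_eq_mul]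
  congr 2
  field_simp

open scoped Classical in
/-- The spinor norm, as a sign (`1` for the square class). -/
noncomputable def spin (g : oGroup Q) : ℤˣ :=
  haveI : Finite V := Module.finite_of_finite F
  if (2 : F) = 0 then 1 else sphereSign Q g * dick g

variable (hQ : (QuadraticMap.polarBilin Q).Nondegenerate)

include hQ

open scoped Classical in
theorem spin_oRefl {v : V} (hv : Q v ≠ 0) :
    spin (oRefl Q v hv) = if IsSquare (Q v) then 1 else -1 := by
  by_cases h2 : (2 : F) = 0
  · rw [spin, if_pos h2, if_pos (FiniteField.isSquare_of_char_two (ringChar_eq_two h2) _)]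
  haveI : Finite V := Module.finite_of_finite F
  rw [spin, if_neg h2, sphereSign_oRefl h2 hv, dick_oRefl hQ hv]
  split_ifs <;> simp

theorem spin_mul (hgen : reflGroup Q = ⊤) (g h : oGroup Q) : spin (g * h) = spin g * spin h := by
  by_cases h2 : (2 : F) = 0
  · simp [spin, h2]
  simp only [spin, if_neg h2, map_mul, dick_mul hQ hgen]
  exact mul_mul_mul_comm _ _ _ _

/-- The spinor norm as a homomorphism. -/
noncomputable def spinHom (hgen : reflGroup Q = ⊤) : oGroup Q →* ℤˣ :=
  MonoidHom.mk' spin (spin_mul hQ hgen)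

/-- Two reflections in vectors of the same square class are equal modulo the derived group. -/
theorem ab_oRefl_eq {v w : V} (hv : Q v ≠ 0) (hw : Q w ≠ 0)
    (h : IsSquare (Q v) ↔ IsSquare (Q w)) :
    Abelianization.of (oRefl Q v hv) = Abelianization.of (oRefl Q w hw) := by
  obtain ⟨c, hc⟩ := (isSquare_mul_iff' hv hw).2 h
  have hc0 : c ≠ 0 := fun h0 => mul_ne_zero hv hw (by rw [hc, h0, mul_zero])
  have hd : Q v = (c / Q w) * (c / Q w) * Q w := by field_simp; linear_combination hc
  set d := c / Q w with hddef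
  have hd0 : d ≠ 0 := div_ne_zero hc0 hw
  have hdw : Q (d • w) = Q v := by rw [QuadraticMap.map_smul, smul_eq_mul, ← hd]
  have hv0 : v ≠ 0 := fun h => hv (by rw [h, QuadraticMap.map_zero])
  have hdw0 : d • w ≠ 0 := fun h => hv (by rw [← hdw, h, QuadraticMap.map_zero])
  let e := LinearEquiv.toSpanNonzeroSingleton F V v hv0
  obtain ⟨g, hg, hgx⟩ := quad_witt hQ (Submodule.span F {v})
    ((LinearMap.toSpanSingleton F V (d • w)).comp e.symm.toLinearMap)
    ((smul_left_injective F hdw0).comp e.symm.injective)
    (fun x => by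
      obtain ⟨t, rfl⟩ := e.surjective x
      simp only [LinearMap.comp_apply, LinearEquiv.coe_coe, LinearEquiv.symm_apply_apply,
        LinearMap.toSpanSingleton_apply]
      rw [QuadraticMap.map_smul, hdw, show ((e t : Submodule.span F {v}) : V) = t • v from rfl,
        QuadraticMap.map_smul])
  have hgv : g v = d • w := by
    have h1 := hgx (e 1)
    rw [show ((e 1 : Submodule.span F {v}) : V) = (1 : F) • v from rfl, one_smul] at h1
    rw [h1]
    simp
  have h2 := oRefl_conj hv (⟨g, hg⟩ : oGroup Q)
  have hdw' : Q (d • w) ≠ 0 := by rw [hdw]; exact hv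
  rw [oRefl_congr _ hdw' hgv, oRefl_smul hw hd0] at h2
  rw [← h2, map_mul, map_mul, map_inv, mul_comm, inv_mul_cancel_left]

omit hQ

/-- The homomorphism `-1 ↦ x` for an element with `x * x = 1`. -/
noncomputable def signTo {M : Type*} [CommGroup M] (x : M) (hx : x * x = 1) : ℤˣ →* M :=
  MonoidHom.mk' (fun u => if u = 1 then 1 else x) fun a b => by
    rcases Int.units_eq_one_or a with rfl | rfl <;> rcases Int.units_eq_one_or b with rfl | rfl <;>
      simp [hx]

theorem signTo_neg_one {M : Type*} [CommGroup M] (x : M) (hx : x * x = 1) :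
    signTo x hx (-1) = x := by
  show (if (-1 : ℤˣ) = 1 then 1 else x) = x
  exact if_neg (by decide)

include hQ

/-- **The derived group of the orthogonal group**: even length and square spinor norm. -/
theorem mem_commutator_iff (hexc : Fintype.card F ≠ 2 ∨ Module.finrank F V ≠ 4) (g : oGroup Q) :
    g ∈ commutator (oGroup Q) ↔ dick g = 1 ∧ spin g = 1 := by
  classical
  have hgen := reflGroup_eq_top hQ hexc
  constructor
  · intro hg
    exact ⟨Abelianization.commutator_subset_ker (dickHom hQ hgen) hg,
      Abelianization.commutator_subset_ker (spinHom hQ hgen) hg⟩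
  rintro ⟨hd, hs⟩
  -- representatives of the two classes of reflections
  have hrep : ∀ P : F → Prop, (∀ a b, P a → P b → (IsSquare a ↔ IsSquare b)) →
      ∃ A : Abelianization (oGroup Q), A * A = 1 ∧
        ∀ v (hv : Q v ≠ 0), P (Q v) → Abelianization.of (oRefl Q v hv) = A := by
    intro P hP
    by_cases h : ∃ a, ∃ ha : Q a ≠ 0, P (Q a)
    · obtain ⟨a, ha, hPa⟩ := h
      refine ⟨_, ?_, fun v hv hPv => ab_oRefl_eq hQ hv ha (hP _ _ hPv hPa)⟩
      have e : oRefl Q a ha * oRefl Q a ha = 1 := by
        nth_rewrite 1 [← oRefl_inv ha]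
        exact inv_mul_cancel _
      rw [← map_mul, e, map_one]
    · push Not at h
      exact ⟨1, one_mul 1, fun v hv hPv => absurd hPv (h v hv)⟩
  obtain ⟨A, hA, hA'⟩ := hrep IsSquare (fun _ _ ha hb => iff_of_true ha hb)
  obtain ⟨B, hB, hB'⟩ := hrep (fun a => ¬ IsSquare a) (fun _ _ ha hb => iff_of_false ha hb)
  have key : (Abelianization.of : oGroup Q →* Abelianization (oGroup Q)) =
      (signTo B hB).comp (spinHom hQ hgen) *
        (signTo A hA).comp (spinHom hQ hgen * dickHom hQ hgen) := by
    refine MonoidHom.eq_of_eqOn_dense hgen ?_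
    rintro _ ⟨v, hv, rfl⟩
    show _ = signTo B hB (spin (oRefl Q v hv)) *
      signTo A hA (spin (oRefl Q v hv) * dick (oRefl Q v hv))
    rw [spin_oRefl hQ hv, dick_oRefl hQ hv]
    by_cases hsq : IsSquare (Q v)
    · rw [if_pos hsq, map_one, one_mul, one_mul, signTo_neg_one]
      exact hA' v hv hsq
    · rw [if_neg hsq, neg_mul_neg, one_mul, map_one, mul_one, signTo_neg_one]
      exact hB' v hv hsq
  rw [← Abelianization.ker_of, MonoidHom.mem_ker, key]
  show signTo B hB (spin g) * signTo A hA (spin g * dick g) = 1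
  rw [hs, hd, one_mul, map_one, map_one, one_mul]

/-- The determinant is the parity of the number of reflections. -/
theorem det_eq_dick (hgen : reflGroup Q = ⊤) (g : oGroup Q)
    (hdet : ∀ v (hv : Q v ≠ 0), LinearEquiv.det (oRefl Q v hv).1 = -1) :
    LinearEquiv.det g.1 = Units.map (Int.castRingHom F).toMonoidHom (dick g) := by
  have key : LinearEquiv.det.comp (oGroup Q).subtype =
      (Units.map (Int.castRingHom F).toMonoidHom).comp (dickHom hQ hgen) := by
    refine MonoidHom.eq_of_eqOn_dense hgen ?_
    rintro _ ⟨v, hv, rfl⟩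
    show LinearEquiv.det (oRefl Q v hv).1 =
      Units.map (Int.castRingHom F).toMonoidHom (dick (oRefl Q v hv))
    rw [hdet v hv, dick_oRefl hQ hv]
    ext
    simp
  exact DFunLike.congr_fun key g

end Cfsg.Agent.Spinor
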