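import Cfsg.Agent.Lib.Spinor.Products
import Cfsg.Agent.Lib.Spinor.Decomp
import Cfsg.Agent.Lib.Spinor.Main

/-!
Consequences of the two characters (Dickson invariant, spinor norm) for the matrix orthogonal groups.
-/

set_option autoImplicit false

namespace Cfsg.Agent.OrthRows

open Cfsg.Agent.FormsLib Cfsg.Agent.Spinor

section Generic

variable {G : Type*} [Group G]

theorem commutator_le_of_gen {T : Set G} (hT : Subgroup.closure T = ⊤) (N : Subgroup G) [N.Normal]
    (h : ∀ a ∈ T, ∀ b ∈ T, (a : G ⧸ N) * b = b * a) : commutator G ≤ N := by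
  have h1 : ∀ b ∈ T, ∀ x : G, (x : G ⧸ N) * b = b * x := by
    intro b hb x
    have hle : Subgroup.closure T ≤ (Subgroup.centralizer {(b : G ⧸ N)}).comap (QuotientGroup.mk' N) :=
      (Subgroup.closure_le _).2 fun a ha => Subgroup.mem_centralizer_singleton_iff.2 (h a ha b hb)
    exact Subgroup.mem_centralizer_singleton_iff.1 (hle (hT ▸ Subgroup.mem_top x))
  have h2 : ∀ x y : G, (x : G ⧸ N) * y = y * x := by
    intro x y
    have hle : Subgroup.closure T ≤ (Subgroup.centralizer {(x : G ⧸ N)}).comap (QuotientGroup.mk' N) :=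
      (Subgroup.closure_le _).2 fun b hb => Subgroup.mem_centralizer_singleton_iff.2 (h1 b hb x).symm
    exact (Subgroup.mem_centralizer_singleton_iff.1 (hle (hT ▸ Subgroup.mem_top y))).symm
  rw [commutator_def, Subgroup.commutator_le]
  intro x _ y _
  rw [← QuotientGroup.eq_one_iff, commutatorElement_def, QuotientGroup.mk_mul, QuotientGroup.mk_mul,
    QuotientGroup.mk_mul, QuotientGroup.mk_inv, QuotientGroup.mk_inv, h2 x y]
  group

theorem existsUnique_index_two [Finite G] (ψ : G →* ℤˣ) (hsurj : Function.Surjective ψ)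
    (hker : ∀ H : Subgroup G, H.index = 2 → ψ.ker ≤ H) : ∃! H : Subgroup G, H.index = 2 := by
  have hidx : ψ.ker.index = 2 := by
    rw [Subgroup.index_ker, MonoidHom.range_eq_top.2 hsurj, Subgroup.card_top, Nat.card_eq_fintype_card]
    rfl
  refine ⟨ψ.ker, hidx, fun H hH => (Subgroup.eq_of_le_of_card_ge (hker H hH) ?_).symm⟩
  have h1 := Subgroup.card_mul_index ψ.ker
  have h2 := Subgroup.card_mul_index H
  rw [hidx] at h1
  rw [hH] at h2
  omega

end Generic

variable {F : Type*} [Field F] {ι : Type} [Fintype ι] [DecidableEq ι] {Q : QuadraticForm F (ι → F)}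

/-- The reflection as an element of the matrix group. -/
noncomputable def rf (Q : QuadraticForm F (ι → F)) (v : ι → F) (hv : Q v ≠ 0) :
    Cfsg.isometryGroup F ⇑Q :=
  (oEquiv Q).symm (oRefl Q v hv)

theorem rf_val {v : ι → F} (hv : Q v ≠ 0) :
    ((rf Q v hv).1 : Matrix ι ι F) = Cfsg.reflectionMatrix ⇑Q v := oRefl_matrix Q hv

theorem eq_rf {g : Cfsg.isometryGroup F ⇑Q} {v : ι → F} (hv : Q v ≠ 0)
    (h : (g.1 : Matrix ι ι F) = Cfsg.reflectionMatrix ⇑Q v) : g = rf Q v hv :=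
  Subtype.ext (Units.ext (h.trans (rf_val hv).symm))

theorem rf_mul_self {v : ι → F} (hv : Q v ≠ 0) : rf Q v hv * rf Q v hv = 1 := by
  rw [rf, ← map_mul, show oRefl Q v hv * oRefl Q v hv = 1 from Subtype.ext (refl_mul_self Q hv), map_one]

theorem rf_inv {v : ι → F} (hv : Q v ≠ 0) : (rf Q v hv)⁻¹ = rf Q v hv :=
  inv_eq_of_mul_eq_one_right (rf_mul_self hv)

theorem det_rf {v : ι → F} (hv : Q v ≠ 0) :
    Matrix.GeneralLinearGroup.det (rf Q v hv).1 = -1 := by
  ext
  show ((rf Q v hv).1 : Matrix ι ι F).det = _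
  rw [← det_oEquiv Q, rf, MulEquiv.apply_symm_apply, det_oRefl]

theorem mem_special {g : Cfsg.isometryGroup F ⇑Q} :
    g ∈ Cfsg.specialIsometryGroup F ⇑Q ↔ Matrix.GeneralLinearGroup.det g.1 = 1 := Iff.rfl

theorem rf_mul_rf_mem {v w : ι → F} (hv : Q v ≠ 0) (hw : Q w ≠ 0) :
    rf Q v hv * rf Q w hw ∈ Cfsg.specialIsometryGroup F ⇑Q := by
  rw [mem_special, Subgroup.coe_mul, map_mul, det_rf, det_rf]
  simp

variable [Fintype F] (hQ : (QuadraticMap.polarBilin Q).Nondegenerate)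
  (hexc : Fintype.card F ≠ 2 ∨ Fintype.card ι ≠ 4)

include hQ hexc

theorem gen_top : reflGroup Q = ⊤ :=
  reflGroup_eq_top hQ (by rwa [Module.finrank_fintype_fun_eq_card])

/-- The Dickson character. -/
noncomputable def dk : Cfsg.isometryGroup F ⇑Q →* ℤˣ :=
  (dickHom hQ (gen_top hQ hexc)).comp (oEquiv Q).toMonoidHom

/-- The spinor character. -/
noncomputable def sp : Cfsg.isometryGroup F ⇑Q →* ℤˣ :=
  (spinHom hQ (gen_top hQ hexc)).comp (oEquiv Q).toMonoidHom

theorem dk_rf {v : ι → F} (hv : Q v ≠ 0) : dk hQ hexc (rf Q v hv) = -1 := by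
  show dick (oEquiv Q ((oEquiv Q).symm _)) = -1
  rw [MulEquiv.apply_symm_apply, dick_oRefl hQ]

open scoped Classical in
theorem sp_rf {v : ι → F} (hv : Q v ≠ 0) :
    sp hQ hexc (rf Q v hv) = if IsSquare (Q v) then 1 else -1 := by
  show spin (oEquiv Q ((oEquiv Q).symm _)) = _
  rw [MulEquiv.apply_symm_apply, spin_oRefl hQ]

theorem mem_omega {g : Cfsg.isometryGroup F ⇑Q} :
    g ∈ Cfsg.Omega F ⇑Q ↔ dk hQ hexc g = 1 ∧ sp hQ hexc g = 1 := mem_Omega_iff' Q hQ hexc g

theorem closure_rf :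
    Subgroup.closure {g : Cfsg.isometryGroup F ⇑Q | ∃ v : ι → F, Q v ≠ 0 ∧
      (g.1 : Matrix ι ι F) = Cfsg.reflectionMatrix ⇑Q v} = ⊤ := by
  have h := congrArg (Subgroup.map (oEquiv Q).symm.toMonoidHom) (gen_top hQ hexc)
  rw [reflGroup, MonoidHom.map_closure,
    Subgroup.map_top_of_surjective _ (oEquiv Q).symm.surjective] at h
  rw [← top_le_iff, ← h, Subgroup.closure_le]
  rintro _ ⟨_, ⟨v, hv, rfl⟩, rfl⟩
  exact Subgroup.subset_closure ⟨v, hv, oRefl_matrix Q hv⟩

theorem dk_special_odd (h2 : (2 : F) ≠ 0) {g : Cfsg.isometryGroup F ⇑Q} :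
    g ∈ Cfsg.specialIsometryGroup F ⇑Q ↔ dk hQ hexc g = 1 := by
  rw [mem_special, show dk hQ hexc g = dick (oEquiv Q g) from rfl, dick_eq_one_iff_det hQ h2]
  constructor
  · intro h
    ext
    rw [det_oEquiv]
    exact congrArg Units.val h
  · intro h
    ext
    show (g.1 : Matrix ι ι F).det = 1
    rw [← det_oEquiv Q, h]
    rfl

theorem special_eq_top_even (h2 : (2 : F) = 0) : Cfsg.specialIsometryGroup F ⇑Q = ⊤ := by
  rw [← top_le_iff, ← closure_rf hQ hexc, Subgroup.closure_le]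
  rintro g ⟨v, hv, hg⟩
  rw [eq_rf hv hg, SetLike.mem_coe, mem_special, det_rf]
  ext
  rw [Units.val_neg, Units.val_one]
  linear_combination -h2

/-- `Omega` is contained in every subgroup containing the squares of the special group. -/
theorem omega_le_of_sq {N : Subgroup (Cfsg.isometryGroup F ⇑Q)}
    (h : ∀ x ∈ Cfsg.specialIsometryGroup F ⇑Q, x * x ∈ N) : Cfsg.Omega F ⇑Q ≤ N := by
  let T : Set (Cfsg.isometryGroup F ⇑Q) := {y | ∃ x ∈ Cfsg.specialIsometryGroup F ⇑Q, y = x * x}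
  haveI hn : (Cfsg.specialIsometryGroup F ⇑Q).Normal := MonoidHom.normal_ker _
  have hle : Subgroup.normalClosure T ≤ N := by
    refine (Subgroup.closure_le N).2 fun y hy => ?_
    obtain ⟨t, ⟨x, hx, rfl⟩, hc⟩ := Group.mem_conjugatesOfSet_iff.1 hy
    obtain ⟨g, rfl⟩ := isConj_iff.1 hc
    rw [show g * (x * x) * g⁻¹ = (g * x * g⁻¹) * (g * x * g⁻¹) by group]
    exact h _ (hn.conj_mem x hx g)
  refine le_trans ?_ hle
  refine commutator_le_of_gen (closure_rf hQ hexc) _ ?_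
  rintro a ⟨v, hv, ha⟩ b ⟨w, hw, hb⟩
  rw [eq_rf hv ha, eq_rf hw hb, ← QuotientGroup.mk_mul, ← QuotientGroup.mk_mul, QuotientGroup.eq]
  refine Subgroup.subset_normalClosure ⟨_, rf_mul_rf_mem hw hv, ?_⟩
  rw [mul_inv_rev, rf_inv, rf_inv]

omit hexc in
theorem exists_norm_all (hn : 2 ≤ Fintype.card ι) {c : F} (hc : c ≠ 0) : ∃ v, Q v = c := by
  obtain ⟨v, -, hv⟩ := exists_norm (Q := Q) (W := ⊤) (top_inf_orth hQ)
    (Or.inl (by rw [finrank_top, Module.finrank_fintype_fun_eq_card]; exact hn)) hc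
  exact ⟨v, hv⟩

end Cfsg.Agent.OrthRows
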