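import Cfsg.Agent.Lib.Spinor.F2Forms

/-!
A non-degenerate quadratic space of even dimension over a finite field is hyperbolic or elliptic.
-/

set_option autoImplicit false

namespace Cfsg.Agent.Spinor

open Cfsg.Agent.FormsLib

variable {F : Type*} [Field F] [Fintype F]

/-- An anisotropic binary form over any finite field. -/
theorem exists_aniso (F : Type*) [Field F] [Fintype F] :
    ∃ a b : F, ∀ z₁ z₂ : F, z₁ ^ 2 + a * z₁ * z₂ + b * z₂ ^ 2 = 0 → z₁ = 0 ∧ z₂ = 0 := by
  let f : F → F := fun s => s * s + s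
  have hf : ¬ Function.Surjective f := fun h => by
    have := Finite.injective_iff_surjective.2 h (show f 0 = f (-1) by simp [f])
    simp at this
  simp only [Function.Surjective, not_forall, not_exists] at hf
  obtain ⟨y, hy⟩ := hf
  refine ⟨1, -y, fun z₁ z₂ h => ?_⟩
  rcases eq_or_ne z₂ 0 with rfl | h0
  · exact ⟨sq_eq_zero_iff.1 (by linear_combination h), rfl⟩
  · exfalso
    apply hy (z₁ / z₂)
    show z₁ / z₂ * (z₁ / z₂) + z₁ / z₂ = y
    field_simp
    linear_combination h

/-- The two roots-free monic quadratics are related by an affine change of variable. -/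
theorem exists_elliptic_change (a b ζ : F)
    (hab : ∀ z₁ z₂ : F, z₁ ^ 2 + a * z₁ * z₂ + b * z₂ ^ 2 = 0 → z₁ = 0 ∧ z₂ = 0)
    (hζ : ∀ t : F, t ^ 2 + t + ζ ≠ 0) :
    ∃ α β : F, β ≠ 0 ∧ 2 * α + β = a ∧ α ^ 2 + α * β + ζ * β ^ 2 = b := by
  have hnoroot : ∀ t : F, t ^ 2 + a * t + b ≠ 0 := fun t h => by
    have := (hab t 1 (by linear_combination h)).2
    exact one_ne_zero this
  by_cases h2 : (2 : F) = 0
  · have hsq := fun x => FiniteField.isSquare_of_char_two (ringChar_eq_two h2) (x : F)
    have ha : a ≠ 0 := by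
      intro ha
      obtain ⟨s, hs⟩ := hsq b
      exact hnoroot s (by rw [ha, hs]; linear_combination (s * s) * h2)
    let f : F →+ F := AddMonoidHom.mk' (fun s => s * s + s) fun s t => by linear_combination (s * t) * h2
    have hidx : f.range.index = 2 := by
      have hker : Nat.card f.ker = 2 := by
        rw [Nat.card_eq_two_iff]
        have h1 : f 1 = 0 := by show (1 : F) * 1 + 1 = 0; linear_combination h2
        refine ⟨0, ⟨1, h1⟩, fun h => zero_ne_one (congrArg Subtype.val h), ?_⟩
        refine Set.eq_univ_of_forall fun x => ?_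
        have hx : (x : F) * x + x = 0 := x.2
        rcases mul_eq_zero.1 (show (x : F) * (x + 1) = 0 by linear_combination hx) with h | h
        · exact Or.inl (Subtype.ext h)
        · exact Or.inr (Subtype.ext (show (x : F) = 1 by linear_combination h - h2))
      have h1 := AddSubgroup.card_eq_card_quotient_mul_card_addSubgroup f.ker
      rw [Nat.card_congr (QuotientAddGroup.quotientKerEquivRange f).toEquiv, hker] at h1
      have h2 := AddSubgroup.card_mul_index f.range
      rw [h1] at h2
      exact Nat.eq_of_mul_eq_mul_left Nat.card_pos h2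
    have hu : ζ ∉ f.range := by
      rintro ⟨t, ht⟩
      exact hζ t (by rw [show ζ = t * t + t from ht.symm]; linear_combination (t * t + t) * h2)
    have hv : b / (a * a) ∉ f.range := by
      rintro ⟨t, ht⟩
      have ht' : b = (t * t + t) * (a * a) := (div_eq_iff (mul_ne_zero ha ha)).1 ht.symm
      exact hnoroot (a * t) (by rw [ht']; linear_combination (a * a * (t * t + t)) * h2)
    obtain ⟨s, hs⟩ : b / (a * a) + ζ ∈ f.range :=
      (AddSubgroup.add_mem_iff_of_index_two hidx).2 (iff_of_false hv hu)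
    refine ⟨a * s, a, ha, by linear_combination (a * s) * h2, ?_⟩
    have hs' : a * a * (s * s + s) = b + ζ * (a * a) := by
      rw [show s * s + s = b / (a * a) + ζ from hs]; field_simp
    linear_combination hs' + (ζ * (a * a)) * h2
  · classical
    have h4 : (4 : F) ≠ 0 := by
      rw [show (4 : F) = 2 * 2 by norm_num]; exact mul_ne_zero h2 h2
    have hd : ¬ IsSquare (1 - 4 * ζ) := by
      rintro ⟨r, hr⟩
      exact hζ ((r - 1) / 2) (by field_simp; linear_combination -hr)
    have hd' : ¬ IsSquare (a ^ 2 - 4 * b) := by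
      rintro ⟨r, hr⟩
      exact hnoroot ((r - a) / 2) (by field_simp; linear_combination -hr)
    have hd0 : (1 - 4 * ζ) ≠ 0 := fun h => hd (h ▸ IsSquare.zero)
    have hd0' : (a ^ 2 - 4 * b) ≠ 0 := fun h => hd' (h ▸ IsSquare.zero)
    obtain ⟨r, hr⟩ : IsSquare ((1 - 4 * ζ) * (a ^ 2 - 4 * b)) :=
      (isSquare_mul_iff' hd0 hd0').2 (iff_of_false hd hd')
    refine ⟨(a - r / (1 - 4 * ζ)) / 2, r / (1 - 4 * ζ), div_ne_zero ?_ hd0, ?_, ?_⟩
    · intro h
      rw [h, mul_zero] at hr
      exact mul_ne_zero hd0 hd0' hr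
    · rw [mul_div_cancel₀ _ h2]; ring
    · field_simp
      linear_combination (1 - 4 * ζ) * hr

variable {V : Type*} [AddCommGroup V] [Module F V] [FiniteDimensional F V]

/-- Hyperbolic or elliptic. -/
theorem equiv_plus_or_minus {m : ℕ} (hm : 1 ≤ m) (hV : Module.finrank F V = 2 * m)
    (Q : QuadraticForm F V) (hQ : (QuadraticMap.polarBilin Q).Nondegenerate) (a b : F)
    (hab : ∀ z₁ z₂ : F, z₁ ^ 2 + a * z₁ * z₂ + b * z₂ ^ 2 = 0 → z₁ = 0 ∧ z₂ = 0) :
    (∃ L : V ≃ₗ[F] (Fin m ⊕ Fin m → F), ∀ v, Cfsg.quadFormPlus m F (L v) = Q v) ∨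
      (∃ L : V ≃ₗ[F] ((Fin (m - 1) ⊕ Fin (m - 1)) ⊕ Fin 2 → F),
        ∀ v, Cfsg.quadFormMinus (m - 1) F a b (L v) = Q v) := by
  classical
  rcases S2616.result hm hV Q hQ with ⟨B, h1, h2, h3⟩ | ⟨B, ζ, hζ, h1, h2, h3, h4, h5, h6, h7⟩
  · refine Or.inl ⟨B.equivFun, fun v => ?_⟩
    rw [← OrthOrder.qPlus_apply]
    refine (quad_ext B Q _ B.equivFun (fun i => ?_) (fun i j => ?_) v).symm
    · rcases i with i | i <;> simp [(h1 i).1, (h1 i).2, OrthOrder.qPlus_apply, Cfsg.quadFormPlus]
    · have hp : ∀ u v : Fin m ⊕ Fin m → F, QuadraticMap.polar (OrthOrder.qPlus m F) u v =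
          ∑ l, (u (.inl l) * v (.inr l) + v (.inl l) * u (.inr l)) := fun u v => by
        simp only [QuadraticMap.polar, OrthOrder.qPlus_apply, Cfsg.quadFormPlus, Pi.add_apply,
          ← Finset.sum_sub_distrib]
        exact Finset.sum_congr rfl fun l _ => by ring
      have h2' : ∀ i j, QuadraticMap.polar Q (B (Sum.inr i)) (B (Sum.inl j)) =
          if j = i then 1 else 0 := fun i j => by rw [QuadraticMap.polar_comm]; exact h2 j i
      rcases i with i | i <;> rcases j with j | j <;>
        simp [(h3 i j).1, (h3 i j).2, h2, h2', hp, Pi.single_apply, Finsupp.single_apply, eq_comm]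
  · obtain ⟨α, β, hβ, hpa, hQb⟩ := exists_elliptic_change a b ζ hab hζ
    set x := B (Sum.inr 0) with hx
    set y := α • x + β • B (Sum.inr 1) with hy
    set e := fun i => B (Sum.inl (Sum.inl i)) with he
    set f := fun i => B (Sum.inl (Sum.inr i)) with hf
    have h : IsHyp Q e f := ⟨fun i => (h1 i).1, fun i => (h1 i).2, h2, fun i j => (h3 i j).1,
      fun i j => (h3 i j).2⟩
    have hQy : Q y = b := by
      rw [hy, quad_add, QuadraticMap.map_smul, QuadraticMap.map_smul, QuadraticMap.polar_smul_left,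
        QuadraticMap.polar_smul_right, hx, h5, h6, h7]
      simp only [smul_eq_mul, mul_one]
      linear_combination hQb
    have hxy : QuadraticMap.polar Q x y = a := by
      rw [hy, QuadraticMap.polar_add_right, QuadraticMap.polar_smul_right,
        QuadraticMap.polar_smul_right, polar_self', hx, h5, h6]
      simp only [smul_eq_mul, mul_one]
      linear_combination hpa
    have hli : LinearIndependent F ![x, y] := by
      rw [LinearIndependent.pair_iff]
      intro s t hst
      have hB := LinearIndependent.pair_iff.1 ((LinearIndependent.pair_iff' (B.ne_zero _)).2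
        (fun c (hc : c • B (Sum.inr 0) = B (Sum.inr 1)) => by
          have := congrArg (fun v => B.repr v (Sum.inr 1)) hc
          simp at this)) (s + t * α) (t * β) (by
        rw [← hst, hy, hx]
        module)
      have ht : t = 0 := (mul_eq_zero.1 hB.2).resolve_right hβ
      exact ⟨by simpa [ht] using hB.1, ht⟩
    have hR : ∀ (k : Fin 2) i, QuadraticMap.polar Q (e i) (![x, y] k) = 0 ∧
        QuadraticMap.polar Q (f i) (![x, y] k) = 0 := by
      intro k i
      fin_cases k
      · exact h4 i 0
      · simp [hy, he, hf, hx, QuadraticMap.polar_add_right, QuadraticMap.polar_smul_right, h4]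
    obtain ⟨C, hC⟩ := exists_basis hQ h ![x, y] hli hR (by simp [hV]; omega)
    obtain ⟨Q', hQ', -⟩ := OrthForms.exists_qMinus (F := F) (m - 1) a b hab
    refine Or.inr ⟨C.equivFun, fun v => ?_⟩
    rw [← hQ']
    have hre : ∀ i, C.repr (e i) = Finsupp.single (Sum.inl (Sum.inl i)) 1 := fun i => by
      rw [← C.repr_self (Sum.inl (Sum.inl i)), hC]; rfl
    have hrf : ∀ i, C.repr (f i) = Finsupp.single (Sum.inl (Sum.inr i)) 1 := fun i => by
      rw [← C.repr_self (Sum.inl (Sum.inr i)), hC]; rfl
    have hrx : C.repr x = Finsupp.single (Sum.inr 0) 1 := by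
      rw [← C.repr_self (Sum.inr 0), hC]; rfl
    have hry : C.repr y = Finsupp.single (Sum.inr 1) 1 := by
      rw [← C.repr_self (Sum.inr 1), hC]; rfl
    have hrz : ∀ k, C.repr (![x, y] k) = Finsupp.single (Sum.inr k) 1 := fun k => by
      rw [← C.repr_self (Sum.inr k), hC]; rfl
    refine (quad_ext C Q Q' C.equivFun (fun i => ?_) (fun i j => ?_) v).symm
    · rcases i with (i | i) | i
      · simp [hC, hre, h.singe, hQ', Cfsg.quadFormMinus, Finsupp.single_apply]
      · simp [hC, hrf, h.singf, hQ', Cfsg.quadFormMinus, Finsupp.single_apply]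
      · fin_cases i <;>
          simp [hC, hrx, hry, h5, hQy, hQ', Cfsg.quadFormMinus, Finsupp.single_apply]
    · have hp : ∀ u v : (Fin (m - 1) ⊕ Fin (m - 1)) ⊕ Fin 2 → F, QuadraticMap.polar Q' u v =
          (∑ l, (u (.inl (.inl l)) * v (.inl (.inr l)) + v (.inl (.inl l)) * u (.inl (.inr l)))) +
            (2 * (u (.inr 0) * v (.inr 0)) + a * (u (.inr 0) * v (.inr 1) + v (.inr 0) * u (.inr 1)) +
              2 * b * (u (.inr 1) * v (.inr 1))) := fun u v => by
        simp only [QuadraticMap.polar, hQ', Cfsg.quadFormMinus, Pi.add_apply, add_mul, mul_add,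
          Finset.sum_add_distrib]
        ring
      have hfe : ∀ i j, QuadraticMap.polar Q (f i) (e j) = if j = i then 1 else 0 := fun i j => by
        rw [QuadraticMap.polar_comm]; exact h.ef j i
      have hR' : ∀ (k : Fin 2) i, QuadraticMap.polar Q (![x, y] k) (e i) = 0 ∧
          QuadraticMap.polar Q (![x, y] k) (f i) = 0 := fun k i => by
        rw [QuadraticMap.polar_comm, QuadraticMap.polar_comm _ _ (f i)]; exact hR k i
      have hzz : ∀ k l : Fin 2, QuadraticMap.polar Q (![x, y] k) (![x, y] l) =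
          ![![2, a], ![a, 2 * b]] k l := by
        intro k l
        fin_cases k <;> fin_cases l
        · simp [polar_self', h5]
        · simpa using hxy
        · simpa [QuadraticMap.polar_comm Q y x] using hxy
        · simp [polar_self', hQy]
      rcases i with (i | i) | i <;> rcases j with (j | j) | j <;>
        simp only [hC, Sum.elim_inl, Sum.elim_inr] <;>
        simp [h.ee, h.ff, h.ef, hfe, (hR _ _).1, (hR _ _).2, (hR' _ _).1, (hR' _ _).2, hzz, hp,
          hre, hrf, hrx, hry, hrz, Pi.single_apply, Finsupp.single_apply, eq_comm]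
      all_goals fin_cases i <;> fin_cases j <;> simp

end Cfsg.Agent.Spinor
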