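import Mathlib
import Cfsg.Prelude.Def_Classical

/-!
Totally singular subspaces of the elliptic form.
-/

set_option autoImplicit false

namespace Cfsg.Agent.Spinor

/-- A totally singular subspace of the elliptic form has dimension at most the number of pairs. -/
theorem minus_ts_finrank_le {F : Type*} [Field F] {k : ℕ} (a b : F)
    (hab : ∀ z₁ z₂ : F, z₁ ^ 2 + a * z₁ * z₂ + b * z₂ ^ 2 = 0 → z₁ = 0 ∧ z₂ = 0)
    (T : Submodule F ((Fin k ⊕ Fin k) ⊕ Fin 2 → F))
    (hQ : ∀ v ∈ T, Cfsg.quadFormMinus k F a b v = 0) : Module.finrank F T ≤ k := by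
  let Y : T →ₗ[F] (Fin k → F) :=
    { toFun := fun v i => v.1 (Sum.inl (Sum.inr i))
      map_add' := fun _ _ => rfl
      map_smul' := fun _ _ => rfl }
  let X : LinearMap.ker Y →ₗ[F] (Fin k → F) :=
    { toFun := fun v i => v.1.1 (Sum.inl (Sum.inl i))
      map_add' := fun _ _ => rfl
      map_smul' := fun _ _ => rfl }
  have hz : ∀ v : LinearMap.ker Y, v.1.1 (Sum.inr 0) = 0 ∧ v.1.1 (Sum.inr 1) = 0 := by
    intro v
    have hy : ∀ i, v.1.1 (Sum.inl (Sum.inr i)) = 0 := fun i => congrFun (LinearMap.mem_ker.1 v.2) i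
    have h0 := hQ v.1.1 v.1.2
    simp only [Cfsg.quadFormMinus, hy, mul_zero, Finset.sum_const_zero, zero_add] at h0
    exact hab _ _ h0
  have hXinj : Function.Injective X := by
    intro a b hab
    refine Subtype.ext (Subtype.ext (funext fun i => ?_))
    rcases i with (i | i) | i
    · exact congrFun hab i
    · exact (congrFun (LinearMap.mem_ker.1 a.2) i).trans (congrFun (LinearMap.mem_ker.1 b.2) i).symm
    · fin_cases i
      · exact (hz a).1.trans (hz b).1.symm
      · exact (hz a).2.trans (hz b).2.symm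
  let pairing : (Fin k → F) →ₗ[F] (Fin k → F) →ₗ[F] F := dotProductBilin F F
  have horth : ∀ (t : T) (v : LinearMap.ker Y), (X v) ⬝ᵥ (Y t) = 0 := by
    intro t v
    have hy : ∀ i, v.1.1 (Sum.inl (Sum.inr i)) = 0 := fun i => congrFun (LinearMap.mem_ker.1 v.2) i
    have h1 := hQ _ (T.add_mem t.2 v.1.2)
    have h2 := hQ _ t.2
    simp only [Cfsg.quadFormMinus, Pi.add_apply, hy, add_zero, (hz v).1, (hz v).2, add_mul,
      Finset.sum_add_distrib] at h1 h2
    show ∑ i, v.1.1 (Sum.inl (Sum.inl i)) * t.1 (Sum.inl (Sum.inr i)) = 0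
    linear_combination h1 - h2
  have hperp : LinearMap.range Y ≤
      ((LinearMap.range X).map pairing).dualCoannihilator := by
    rintro _ ⟨t, rfl⟩
    rw [Submodule.mem_dualCoannihilator]
    rintro _ ⟨_, ⟨v, rfl⟩, rfl⟩
    exact horth t v
  have hp : Function.Injective pairing := fun a b hab => by
    funext i
    simpa [pairing] using LinearMap.congr_fun hab (Pi.single i 1)
  have h1 := Submodule.finrank_mono hperp
  have h2 := Subspace.finrank_add_finrank_dualCoannihilator_eq ((LinearMap.range X).map pairing)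
  rw [← (Submodule.equivMapOfInjective pairing hp (LinearMap.range X)).finrank_eq,
    LinearMap.finrank_range_of_inj hXinj, Module.finrank_fin_fun] at h2
  have h3 := Y.finrank_range_add_finrank_ker
  omega

end Cfsg.Agent.Spinor
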