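import Cfsg.Agent.Lib.Spinor.Classify
import Cfsg.Agent.Lib.Discriminant.Gram

/-!
Classification of quadratic forms by discriminant over finite fields of odd order.
-/

set_option autoImplicit false

namespace Cfsg.Agent.Spinor

open Cfsg.Agent.FormsLib

variable {F : Type*} [Field F] [Fintype F] {n : ℕ}

/-- A non-degenerate form has an orthogonal basis with all norms one but the first. -/
theorem exists_ones (h2 : (2 : F) ≠ 0) (Q : QuadraticForm F (Fin (n + 1) → F))
    (hQ : (QuadraticMap.polarBilin Q).Nondegenerate) :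
    ∃ b : Module.Basis (Fin (n + 1)) F (Fin (n + 1) → F),
      (∀ i j, i ≠ j → QuadraticMap.polar Q (b i) (b j) = 0) ∧ (∀ i, Q (b i) ≠ 0) ∧
      (∀ i, i ≠ 0 → Q (b i) = 1) := by
  suffices key : ∀ k (W : Submodule F (Fin (n + 1) → F)), Module.finrank F W = k + 1 →
      W ⊓ LinearMap.BilinForm.orthogonal (QuadraticMap.polarBilin Q) W = ⊥ →
      ∃ v : Fin (k + 1) → Fin (n + 1) → F, (∀ i, v i ∈ W) ∧
        (∀ i j, i ≠ j → QuadraticMap.polar Q (v i) (v j) = 0) ∧ (∀ i, Q (v i) ≠ 0) ∧
        (∀ i, i ≠ 0 → Q (v i) = 1) by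
    obtain ⟨v, -, hv1, hv2, hv3⟩ := key n ⊤ (by rw [finrank_top, Module.finrank_fin_fun]) (top_inf_orth hQ)
    have hli : LinearIndependent F v := by
      rw [Fintype.linearIndependent_iff]
      intro c hc i
      have h1 := congrArg (fun x => QuadraticMap.polarBilin Q x (v i)) hc
      simp only [map_sum, map_smul, LinearMap.sum_apply, LinearMap.smul_apply,
        QuadraticMap.polarBilin_apply_apply, map_zero, LinearMap.zero_apply, smul_eq_mul] at h1
      rw [Finset.sum_eq_single i (fun j _ hj => by rw [hv1 j i hj, mul_zero])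
        (fun h => absurd (Finset.mem_univ i) h), polar_self'] at h1
      exact (mul_eq_zero.1 h1).resolve_right (mul_ne_zero h2 (hv2 i))
    refine ⟨basisOfLinearIndependentOfCardEqFinrank hli (by simp), ?_, ?_, ?_⟩ <;>
      simpa using ‹_›
  intro k
  induction k with
  | zero =>
    intro W hWd hW
    haveI : Nontrivial W := Module.nontrivial_of_finrank_pos (R := F) (by omega)
    obtain ⟨x, hx⟩ := exists_ne (0 : W)
    have hQx : Q (x : Fin (n + 1) → F) ≠ 0 := by
      intro h0
      refine hx (Subtype.ext ((Submodule.eq_bot_iff _).1 hW _ ⟨x.2, fun y hy => ?_⟩))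
      obtain ⟨c, hc⟩ := (finrank_eq_one_iff_of_nonzero' x hx).1 hWd ⟨y, hy⟩
      show QuadraticMap.polar Q y x = 0
      rw [← show c • (x : Fin (n + 1) → F) = y from congrArg Subtype.val hc,
        QuadraticMap.polar_smul_left, polar_self', h0, mul_zero, smul_zero]
    exact ⟨fun _ => x, fun _ => x.2, fun i j hij => absurd (Fin.ext (by omega)) hij, fun _ => hQx,
      fun i hi => absurd (Fin.ext (by simp)) hi⟩
  | succ k ih =>
    intro W hWd hW
    obtain ⟨u, hu, hQu⟩ := exists_norm hW (Or.inl (by omega)) (one_ne_zero (α := F))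
    have hnle : ¬ W ≤ LinearMap.ker ((QuadraticMap.polarBilin Q).flip u) := fun h => by
      have := mem_ker_polar.1 (h hu)
      rw [polar_self', hQu, mul_one] at this
      exact h2 this
    set W' := W ⊓ LinearMap.ker ((QuadraticMap.polarBilin Q).flip u) with hW'def
    have hd := finrank_inf_ker hnle
    rw [← hW'def] at hd
    have hW' : W' ⊓ LinearMap.BilinForm.orthogonal (QuadraticMap.polarBilin Q) W' = ⊥ := by
      rw [Submodule.eq_bot_iff]
      rintro x ⟨hx, hx'⟩
      refine (Submodule.eq_bot_iff _).1 hW x ⟨hx.1, fun y hy => ?_⟩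
      show QuadraticMap.polar Q y x = 0
      set s := (2 : F)⁻¹ * QuadraticMap.polar Q y u with hs
      have hy' : y - s • u ∈ W' := by
        refine ⟨W.sub_mem hy (W.smul_mem _ hu), mem_ker_polar.2 ?_⟩
        rw [QuadraticMap.polar_sub_left, QuadraticMap.polar_smul_left, polar_self', hQu, smul_eq_mul, hs]
        field_simp
        ring
      have h4 : QuadraticMap.polar Q (y - s • u) x = 0 := hx' _ hy'
      rwa [QuadraticMap.polar_sub_left, QuadraticMap.polar_smul_left, QuadraticMap.polar_comm Q u x,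
        mem_ker_polar.1 hx.2, smul_zero, sub_zero] at h4
    obtain ⟨v, hvW, hv1, hv2, hv3⟩ := ih W' (by omega) hW'
    have hvu : ∀ i, QuadraticMap.polar Q (v i) u = 0 := fun i => mem_ker_polar.1 (hvW i).2
    refine ⟨Fin.snoc v u, ?_, ?_, ?_, ?_⟩
    · intro i; induction i using Fin.lastCases with
      | last => simpa using hu
      | cast i => simpa using (hvW i).1
    · intro i j hij
      induction i using Fin.lastCases with
      | last =>
        induction j using Fin.lastCases with
        | last => exact absurd rfl hij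
        | cast j => simpa [QuadraticMap.polar_comm Q u] using hvu j
      | cast i =>
        induction j using Fin.lastCases with
        | last => simpa using hvu i
        | cast j => simpa using hv1 i j (fun e => hij (by rw [e]))
    · intro i; induction i using Fin.lastCases with
      | last => simp [hQu]
      | cast i => simpa using hv2 i
    · intro i hi; induction i using Fin.lastCases with
      | last => simp [hQu]
      | cast i => simpa using hv3 i (fun e => hi (by rw [e]; rfl))

/-- The Gram matrix of the standard basis. -/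
noncomputable def gramMat (Q : QuadraticForm F (Fin n → F)) : Matrix (Fin n) (Fin n) F :=
  Matrix.of fun i j => QuadraticMap.polar ⇑Q (Pi.single i 1) (Pi.single j 1)

omit [Fintype F] in
theorem exists_det_polar (Q : QuadraticForm F (Fin n → F)) (b : Module.Basis (Fin n) F (Fin n → F)) :
    ∃ d : F, d ≠ 0 ∧ (Matrix.of fun i j => QuadraticMap.polar ⇑Q (b i) (b j)).det =
      d * d * (gramMat Q).det := by
  refine Disc.exists_det_gram b (gramMat Q) (fun u v => QuadraticMap.polar ⇑Q u v) fun u v => ?_
  conv_lhs => rw [pi_eq_sum_univ' u, pi_eq_sum_univ' v]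
  simp only [← QuadraticMap.polarBilin_apply_apply, map_sum, map_smul, LinearMap.sum_apply,
    LinearMap.smul_apply, dotProduct, Matrix.mulVec, gramMat, Matrix.of_apply, smul_eq_mul, Finset.mul_sum]
  rw [Finset.sum_comm]
  exact Finset.sum_congr rfl fun i _ => Finset.sum_congr rfl fun j _ => by ring

omit [Fintype F] in
theorem det_diag_gram (Q : QuadraticForm F (Fin n → F)) (b : Module.Basis (Fin n) F (Fin n → F))
    (hb : ∀ i j, i ≠ j → QuadraticMap.polar Q (b i) (b j) = 0) :
    ∃ d : F, d ≠ 0 ∧ 2 ^ n * ∏ i, Q (b i) = d * d * (gramMat Q).det := by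
  obtain ⟨d, hd, h⟩ := exists_det_polar Q b
  refine ⟨d, hd, ?_⟩
  rw [← h, show (Matrix.of fun i j => QuadraticMap.polar ⇑Q (b i) (b j)) =
    Matrix.diagonal (fun i => 2 * Q (b i)) by
      ext i j
      rcases eq_or_ne i j with rfl | hij
      · simp [polar_self']
      · simp [hij, hb i j hij], Matrix.det_diagonal, Finset.prod_mul_distrib, Finset.prod_const,
    Finset.card_univ, Fintype.card_fin]

/-- **Forms of odd characteristic are classified by the discriminant.** -/
theorem isometric_iff (h2 : (2 : F) ≠ 0) (Q₁ Q₂ : QuadraticForm F (Fin n → F))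
    (h₁ : (QuadraticMap.polarBilin Q₁).Nondegenerate) (h₂ : (QuadraticMap.polarBilin Q₂).Nondegenerate) :
    (∃ g : (Fin n → F) ≃ₗ[F] (Fin n → F), ∀ v, Q₂ (g v) = Q₁ v) ↔
      IsSquare ((gramMat Q₁).det * (gramMat Q₂).det) := by
  constructor
  · rintro ⟨g, hg⟩
    obtain ⟨d, hd, h⟩ := exists_det_polar Q₂ ((Pi.basisFun F (Fin n)).map g)
    rw [show (Matrix.of fun i j => QuadraticMap.polar ⇑Q₂ (((Pi.basisFun F (Fin n)).map g) i)
        (((Pi.basisFun F (Fin n)).map g) j)) = gramMat Q₁ by
      ext i j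
      simp [gramMat, QuadraticMap.polar, ← map_add, hg]] at h
    rw [h]
    exact ⟨d * (gramMat Q₂).det, by ring⟩
  intro hsq
  cases n with
  | zero => exact ⟨1, fun v => by
      rw [Subsingleton.elim v 0, map_zero, QuadraticMap.map_zero, QuadraticMap.map_zero]⟩
  | succ n =>
    obtain ⟨b₁, ho₁, hne₁, hone₁⟩ := exists_ones h2 Q₁ h₁
    obtain ⟨b₂, ho₂, hne₂, hone₂⟩ := exists_ones h2 Q₂ h₂
    obtain ⟨d₁, hd₁, e₁⟩ := det_diag_gram Q₁ b₁ ho₁
    obtain ⟨d₂, hd₂, e₂⟩ := det_diag_gram Q₂ b₂ ho₂
    rw [Fin.prod_univ_succ, Finset.prod_eq_one (fun i _ => hone₁ _ (Fin.succ_ne_zero i)), mul_one] at e₁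
    rw [Fin.prod_univ_succ, Finset.prod_eq_one (fun i _ => hone₂ _ (Fin.succ_ne_zero i)), mul_one] at e₂
    obtain ⟨r, hr⟩ := hsq
    have hp : (2 : F) ^ (n + 1) ≠ 0 := pow_ne_zero _ h2
    set a₁ := Q₁ (b₁ 0) with ha₁
    set a₂ := Q₂ (b₂ 0) with ha₂
    set s := d₁ * d₂ * r / (2 ^ (n + 1) * a₂) with hs
    have ha₂0 : a₂ ≠ 0 := hne₂ 0
    have hs2 : s * s * a₂ = a₁ := by
      rw [hs]
      field_simp
      linear_combination (-(d₁ * d₁ * d₂ * d₂)) * hr - (2 ^ (n + 1) * a₁) * e₂ -
        (d₂ * d₂ * (gramMat Q₂).det) * e₁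
    have hs0 : s ≠ 0 := fun h => hne₁ 0 (by rw [← ha₁, ← hs2, h]; ring)
    let b₂' : Module.Basis (Fin (n + 1)) F (Fin (n + 1) → F) :=
      b₂.isUnitSMul (w := fun i => if i = 0 then s else 1) fun i => by split_ifs <;> simp [hs0]
    have hval : ∀ i, Q₂ (b₂' i) = Q₁ (b₁ i) := fun i => by
      simp only [b₂', Module.Basis.isUnitSMul_apply, QuadraticMap.map_smul, smul_eq_mul]
      split_ifs with hi
      · subst hi; exact hs2
      · rw [one_mul, one_mul, hone₁ i hi, hone₂ i hi]
    have hval' : ∀ i j, i ≠ j → QuadraticMap.polar Q₂ (b₂' i) (b₂' j) = 0 := fun i j hij => by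
      simp only [b₂', Module.Basis.isUnitSMul_apply, QuadraticMap.polar_smul_left,
        QuadraticMap.polar_smul_right, ho₂ i j hij, smul_zero]
    have expand : ∀ (Q : QuadraticForm F (Fin (n + 1) → F))
        (b : Fin (n + 1) → Fin (n + 1) → F), (∀ i j, i ≠ j → QuadraticMap.polar Q (b i) (b j) = 0) →
        ∀ (c : Fin (n + 1) → F) (s : Finset (Fin (n + 1))),
          Q (∑ i ∈ s, c i • b i) = ∑ i ∈ s, c i * c i * Q (b i) := by
      intro Q b hb c s
      classical
      induction s using Finset.induction_on with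
      | empty => simp
      | insert a s ha ih =>
        rw [Finset.sum_insert ha, Finset.sum_insert ha, quad_add, ih, QuadraticMap.map_smul,
          ← QuadraticMap.polarBilin_apply_apply, map_sum, smul_eq_mul]
        refine add_eq_left.2 (Finset.sum_eq_zero fun i hi => ?_)
        rw [QuadraticMap.polarBilin_apply_apply, QuadraticMap.polar_smul_left,
          QuadraticMap.polar_smul_right, hb a i (fun e => ha (e ▸ hi)), smul_zero, smul_zero]
    refine ⟨b₁.equiv b₂' (Equiv.refl _), fun v => ?_⟩
    conv_lhs => rw [← b₁.sum_repr v]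
    rw [map_sum]
    simp only [map_smul, Module.Basis.equiv_apply, Equiv.refl_apply]
    rw [expand Q₂ b₂' hval']
    conv_rhs => rw [← b₁.sum_repr v, expand Q₁ b₁ ho₁]
    simp only [hval]

end Cfsg.Agent.Spinor
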