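import Cfsg.Agent.Lib.Spinor.Trans
import Cfsg.Agent.Lib.LinearGroups.OrthForms

/-!
The hyperbolic form in coordinates.
-/

set_option autoImplicit false

namespace Cfsg.Agent.Spinor

open Cfsg.Agent.FormsLib

variable (F : Type*) [Field F] (m : ℕ)

/-- The subspace `y = 0`. -/
def halfX : Submodule F (Fin m ⊕ Fin m → F) :=
  LinearMap.ker (LinearMap.funLeft F F (Sum.inr : Fin m → Fin m ⊕ Fin m))

variable {F m}

theorem mem_halfX {v : Fin m ⊕ Fin m → F} : v ∈ halfX F m ↔ ∀ i, v (Sum.inr i) = 0 := by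
  simp [halfX, funext_iff, LinearMap.funLeft_apply]

theorem halfX_singular : ∀ v ∈ halfX F m, OrthOrder.qPlus m F v = 0 := fun v hv => by
  rw [mem_halfX] at hv
  simp [OrthOrder.qPlus_apply, Cfsg.quadFormPlus, hv]

theorem finrank_halfX : Module.finrank F (halfX F m) = m := by
  have h1 := LinearMap.finrank_range_add_finrank_ker
    (LinearMap.funLeft F F (Sum.inr : Fin m → Fin m ⊕ Fin m))
  rw [LinearMap.range_eq_top.2 (LinearMap.funLeft_surjective_of_injective F F _ Sum.inr_injective),
    finrank_top] at h1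
  rw [Module.finrank_fintype_fun_eq_card, Module.finrank_fintype_fun_eq_card, Fintype.card_sum, Fintype.card_fin] at h1
  show Module.finrank F (LinearMap.ker _) = m
  exact Nat.add_left_cancel h1

theorem polar_qPlus (u v : Fin m ⊕ Fin m → F) : QuadraticMap.polar (OrthOrder.qPlus m F) u v =
    ∑ j, (u (.inl j) * v (.inr j) + v (.inl j) * u (.inr j)) := by
  simp only [QuadraticMap.polar, OrthOrder.qPlus_apply, Cfsg.quadFormPlus, Pi.add_apply,
    ← Finset.sum_sub_distrib]
  exact Finset.sum_congr rfl fun j _ => by ring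

theorem qPlus_hexc [Fintype F] (h : Fintype.card F ≠ 2 ∨ m ≠ 2) :
    Fintype.card F ≠ 2 ∨ Fintype.card (Fin m ⊕ Fin m) ≠ 4 := by
  rcases h with h | h
  · exact Or.inl h
  · exact Or.inr (by simp; omega)

theorem finrank_plus : Module.finrank F (Fin m ⊕ Fin m → F) = 2 * m := by simp; omega

/-- Preserving the class of `y = 0` means trivial parity. -/
theorem even_halfX_iff [Fintype F] (h : Fintype.card F ≠ 2 ∨ m ≠ 2)
    (g : Cfsg.isometryGroup F ⇑(OrthOrder.qPlus m F)) :
    Even (m - Module.finrank F ↥(halfX F m ⊓ (halfX F m).map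
      (Matrix.mulVecLin (g.1 : Matrix (Fin m ⊕ Fin m) (Fin m ⊕ Fin m) F)))) ↔
      dick (oEquiv (OrthOrder.qPlus m F) g) = 1 := by
  have hQ := OrthForms.qPlus_nondeg (F := F) m
  have hgen := reflGroup_eq_top hQ (by rw [Module.finrank_fintype_fun_eq_card]; exact qPlus_hexc h)
  rw [mulVecLin_oEquiv]
  exact (dick_eq_one_iff_even hQ hgen finrank_plus _ halfX_singular finrank_halfX rfl).symm

end Cfsg.Agent.Spinor
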