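import Cfsg.Agent.Lib.Spinor.Decomp

/-!
Witt decomposition of quadratic spaces over finite fields.
-/

set_option autoImplicit false

namespace Cfsg.Agent.Spinor

open Cfsg.Agent.FormsLib

variable {F V : Type*} [Field F] [Fintype F] [AddCommGroup V] [Module F V] [FiniteDimensional F V]
  {Q : QuadraticForm F V}

local notation "B" => QuadraticMap.polarBilin Q

omit [Fintype F] [FiniteDimensional F V] in
theorem polarBilin_isRefl : LinearMap.BilinForm.IsRefl (QuadraticMap.polarBilin Q) :=
  fun x y h => by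
    rw [QuadraticMap.polarBilin_apply_apply, QuadraticMap.polar_comm]
    exact h

variable (hQ : (QuadraticMap.polarBilin Q).Nondegenerate)

include hQ

omit [Fintype F] in
/-- The orthogonal of a non-degenerate subspace is non-degenerate. -/
theorem orth_nondeg {W : Submodule F V} (hW : W ⊓ LinearMap.BilinForm.orthogonal B W = ⊥) :
    LinearMap.BilinForm.orthogonal B W ⊓
      LinearMap.BilinForm.orthogonal B (LinearMap.BilinForm.orthogonal B W) = ⊥ := by
  rw [LinearMap.BilinForm.orthogonal_orthogonal hQ polarBilin_isRefl, inf_comm]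
  exact hW

omit [Fintype F] in
theorem finrank_split {W : Submodule F V} :
    Module.finrank F W + Module.finrank F (LinearMap.BilinForm.orthogonal B W) = Module.finrank F V := by
  rw [finrank_orth hQ]
  have := Submodule.finrank_le W
  omega

omit hQ

/-- A non-degenerate subspace of dimension at least three contains a singular vector. -/
theorem exists_singular {W : Submodule F V} (hW : W ⊓ LinearMap.BilinForm.orthogonal B W = ⊥)
    (hd : 3 ≤ Module.finrank F W) : ∃ x ∈ W, x ≠ 0 ∧ Q x = 0 := by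
  obtain ⟨a, ha, hQa⟩ := exists_norm hW (Or.inl (by omega)) (one_ne_zero (α := F))
  set W' := W ⊓ LinearMap.ker ((QuadraticMap.polarBilin Q).flip a) with hW'def
  have hd' : 2 ≤ Module.finrank F W' := by
    by_cases hle : W ≤ LinearMap.ker ((QuadraticMap.polarBilin Q).flip a)
    · rw [hW'def, inf_eq_left.2 hle]; omega
    · have := finrank_inf_ker hle
      rw [← hW'def] at this
      omega
  by_cases h2 : (2 : F) = 0
  · obtain ⟨b, hb, hbF⟩ : ∃ b ∈ W', b ∉ Submodule.span F {a} := by
      refine SetLike.not_le_iff_exists.1 fun h => ?_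
      have h3 := Submodule.finrank_mono h
      rw [finrank_span_singleton (fun h0 => one_ne_zero (α := F)
        (by rw [← hQa, h0, QuadraticMap.map_zero]))] at h3
      omega
    obtain ⟨t, ht⟩ := FiniteField.isSquare_of_char_two (ringChar_eq_two h2) (Q b)
    refine ⟨b + t • a, W.add_mem hb.1 (W.smul_mem t ha), fun h0 => hbF ?_, ?_⟩
    · rw [eq_neg_of_add_eq_zero_left h0]
      exact Submodule.neg_mem _ (Submodule.smul_mem _ _ (Submodule.mem_span_singleton_self a))
    · rw [quad_add, QuadraticMap.map_smul, QuadraticMap.polar_smul_right, mem_ker_polar.1 hb.2,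
        smul_zero, add_zero, hQa, smul_eq_mul, mul_one, ← ht]
      linear_combination (Q b) * h2
  · have hW' : W' ⊓ LinearMap.BilinForm.orthogonal B W' = ⊥ := by
      rw [Submodule.eq_bot_iff]
      rintro x ⟨hx, hx'⟩
      refine (Submodule.eq_bot_iff _).1 hW x ⟨hx.1, fun y hy => ?_⟩
      show QuadraticMap.polar Q y x = 0
      set s := (2 : F)⁻¹ * QuadraticMap.polar Q y a with hs
      have hy' : y - s • a ∈ W' := by
        refine ⟨W.sub_mem hy (W.smul_mem _ ha), mem_ker_polar.2 ?_⟩
        rw [QuadraticMap.polar_sub_left, QuadraticMap.polar_smul_left, polar_self', hQa, smul_eq_mul, hs]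
        field_simp
        ring
      have h4 : QuadraticMap.polar Q (y - s • a) x = 0 := hx' _ hy'
      rwa [QuadraticMap.polar_sub_left, QuadraticMap.polar_smul_left, QuadraticMap.polar_comm Q a x,
        mem_ker_polar.1 hx.2, smul_zero, sub_zero] at h4
    obtain ⟨b, hb, hQb⟩ := exists_norm hW' (Or.inl hd') (c := (-1 : F)) (by simp)
    refine ⟨a + b, W.add_mem ha hb.1, fun h0 => ?_, ?_⟩
    · have h5 : QuadraticMap.polar Q (a + b) a = 0 := by rw [h0, QuadraticMap.polar_zero_left]
      rw [QuadraticMap.polar_add_left, polar_self', hQa, mem_ker_polar.1 hb.2, add_zero, mul_one] at h5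
      exact h2 h5
    · rw [quad_add, hQa, hQb, QuadraticMap.polar_comm, mem_ker_polar.1 hb.2]
      ring

omit [Fintype F] in
theorem exists_pair {W : Submodule F V} (hW : W ⊓ LinearMap.BilinForm.orthogonal B W = ⊥) {x : V}
    (hx : x ∈ W) (hx0 : x ≠ 0) (hQx : Q x = 0) :
    ∃ y ∈ W, Q y = 0 ∧ QuadraticMap.polar Q x y = 1 := by
  obtain ⟨z, hz, hxz⟩ : ∃ z ∈ W, QuadraticMap.polar Q z x ≠ 0 := by
    by_contra h
    push Not at h
    exact hx0 ((Submodule.eq_bot_iff _).1 hW x ⟨hx, fun z hz => h z hz⟩)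
  set c := (QuadraticMap.polar Q z x)⁻¹ with hc
  have hcz : QuadraticMap.polar Q x (c • z) = 1 := by
    rw [QuadraticMap.polar_smul_right, QuadraticMap.polar_comm, smul_eq_mul, hc, inv_mul_cancel₀ hxz]
  refine ⟨c • z + (-Q (c • z)) • x, W.add_mem (W.smul_mem _ hz) (W.smul_mem _ hx), ?_, ?_⟩
  · rw [quad_add, QuadraticMap.map_smul (a := -Q (c • z)), QuadraticMap.polar_smul_right,
      QuadraticMap.polar_comm Q (c • z) x, hcz, hQx]
    simp
  · rw [QuadraticMap.polar_add_right, hcz, QuadraticMap.polar_smul_right, polar_self', hQx]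
    simp

/-- Hyperbolic families. -/
structure IsHyp (Q : QuadraticForm F V) {r : ℕ} (e f : Fin r → V) : Prop where
  singe : ∀ i, Q (e i) = 0
  singf : ∀ i, Q (f i) = 0
  ef : ∀ i j, QuadraticMap.polar Q (e i) (f j) = if i = j then 1 else 0
  ee : ∀ i j, QuadraticMap.polar Q (e i) (e j) = 0
  ff : ∀ i j, QuadraticMap.polar Q (f i) (f j) = 0

/-- The span of a hyperbolic family. -/
def hypSpan {r : ℕ} (e f : Fin r → V) : Submodule F V :=
  Submodule.span F (Set.range (Sum.elim e f))

omit [Fintype F] [FiniteDimensional F V] in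
theorem IsHyp.linearIndependent {r : ℕ} {e f : Fin r → V} (h : IsHyp Q e f) :
    LinearIndependent F (Sum.elim e f) := by
  rw [Fintype.linearIndependent_iff]
  intro c hc s
  rcases s with s | s
  · have h1 := congrArg (fun x => B x (f s)) hc
    simpa [Fintype.sum_sum_type, QuadraticMap.polarBilin_apply_apply, h.ef, h.ff] using h1
  · have h1 := congrArg (fun x => B x (e s)) hc
    simpa [Fintype.sum_sum_type, QuadraticMap.polarBilin_apply_apply, h.ee,
      QuadraticMap.polar_comm Q (f _) (e _), h.ef] using h1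

omit [Fintype F] in
theorem IsHyp.finrank_hypSpan {r : ℕ} {e f : Fin r → V} (h : IsHyp Q e f) :
    Module.finrank F (hypSpan (F := F) e f) = 2 * r := by
  rw [hypSpan, finrank_span_eq_card h.linearIndependent, Fintype.card_sum, Fintype.card_fin]
  omega

omit [Fintype F] [FiniteDimensional F V] in
theorem mem_orth_hypSpan {r : ℕ} {e f : Fin r → V} {x : V} :
    x ∈ LinearMap.BilinForm.orthogonal B (hypSpan (F := F) e f) ↔
      ∀ i, QuadraticMap.polar Q (e i) x = 0 ∧ QuadraticMap.polar Q (f i) x = 0 := by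
  constructor
  · exact fun h i => ⟨h _ (Submodule.subset_span ⟨Sum.inl i, rfl⟩), h _ (Submodule.subset_span ⟨Sum.inr i, rfl⟩)⟩
  · intro h y hy
    induction hy using Submodule.span_induction with
    | mem y hy =>
      obtain ⟨i | i, rfl⟩ := hy
      exacts [(h i).1, (h i).2]
    | zero => exact QuadraticMap.polar_zero_left _ _
    | add y z _ _ ihy ihz =>
      show QuadraticMap.polar Q (y + z) x = 0
      rw [QuadraticMap.polar_add_left, show QuadraticMap.polar Q y x = 0 from ihy,
        show QuadraticMap.polar Q z x = 0 from ihz, add_zero]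
    | smul c y _ ihy =>
      show QuadraticMap.polar Q (c • y) x = 0
      rw [QuadraticMap.polar_smul_left, show QuadraticMap.polar Q y x = 0 from ihy, smul_zero]

omit [Fintype F] [FiniteDimensional F V] in
theorem IsHyp.hypSpan_nondeg {r : ℕ} {e f : Fin r → V} (h : IsHyp Q e f) :
    hypSpan (F := F) e f ⊓ LinearMap.BilinForm.orthogonal B (hypSpan (F := F) e f) = ⊥ := by
  rw [Submodule.eq_bot_iff]
  rintro x ⟨hx, hx'⟩
  obtain ⟨c, rfl⟩ := (Submodule.mem_span_range_iff_exists_fun F).1 hx
  have h' := mem_orth_hypSpan.1 hx'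
  refine Finset.sum_eq_zero fun s _ => ?_
  suffices c s = 0 by rw [this, zero_smul]
  rcases s with s | s
  · have h1 := (h' s).2
    rw [← QuadraticMap.polarBilin_apply_apply, Fintype.sum_sum_type] at h1
    simp only [map_add, map_sum, map_smul] at h1
    simpa [Fintype.sum_sum_type, QuadraticMap.polarBilin_apply_apply, QuadraticMap.polar_comm Q (f s) (e _),
      h.ef, h.ff] using h1
  · have h1 := (h' s).1
    rw [← QuadraticMap.polarBilin_apply_apply, Fintype.sum_sum_type] at h1
    simp only [map_add, map_sum, map_smul] at h1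
    simpa [Fintype.sum_sum_type, QuadraticMap.polarBilin_apply_apply, h.ee, h.ef] using h1

include hQ

/-- **Witt decomposition.** -/
theorem witt_decomposition : ∃ (r : ℕ) (e f : Fin r → V), IsHyp Q e f ∧
    (∀ x, (∀ i, QuadraticMap.polar Q (e i) x = 0 ∧ QuadraticMap.polar Q (f i) x = 0) → Q x = 0 → x = 0) ∧
    2 * r ≤ Module.finrank F V ∧ Module.finrank F V ≤ 2 * r + 2 := by
  suffices key : ∀ k (W : Submodule F V), Module.finrank F W = k →
      W ⊓ LinearMap.BilinForm.orthogonal B W = ⊥ → ∃ (r : ℕ) (e f : Fin r → V), IsHyp Q e f ∧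
        (∀ i, e i ∈ W ∧ f i ∈ W) ∧
        (∀ x ∈ W, (∀ i, QuadraticMap.polar Q (e i) x = 0 ∧ QuadraticMap.polar Q (f i) x = 0) →
          Q x = 0 → x = 0) by
    obtain ⟨r, e, f, h, -, han⟩ := key _ ⊤ rfl (top_inf_orth hQ)
    refine ⟨r, e, f, h, fun x => han x Submodule.mem_top, ?_, ?_⟩
    · rw [← h.finrank_hypSpan]
      exact Submodule.finrank_le _
    · by_contra hlt
      have hsplit := finrank_split hQ (W := hypSpan (F := F) e f)
      rw [h.finrank_hypSpan] at hsplit
      obtain ⟨x, hx, hx0, hQx⟩ := exists_singular (orth_nondeg hQ h.hypSpan_nondeg) (by omega)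
      exact hx0 (han x Submodule.mem_top (mem_orth_hypSpan.1 hx) hQx)
  intro k
  induction k using Nat.strong_induction_on with
  | _ k ih =>
  intro W hWd hW
  by_cases han : ∀ x ∈ W, Q x = 0 → x = 0
  · exact ⟨0, Fin.elim0, Fin.elim0, ⟨fun i => i.elim0, fun i => i.elim0, fun i => i.elim0,
      fun i => i.elim0, fun i => i.elim0⟩, fun i => i.elim0, fun x hx _ => han x hx⟩
  push Not at han
  obtain ⟨x, hx, hQx, hx0⟩ := han
  obtain ⟨y, hy, hQy, hxy⟩ := exists_pair hW hx hx0 hQx
  have hxx : QuadraticMap.polar Q x x = 0 := by rw [polar_self', hQx, mul_zero]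
  have hyy : QuadraticMap.polar Q y y = 0 := by rw [polar_self', hQy, mul_zero]
  have hyx : QuadraticMap.polar Q y x = 1 := by rw [QuadraticMap.polar_comm, hxy]
  set W' := W ⊓ LinearMap.ker ((QuadraticMap.polarBilin Q).flip x) ⊓
    LinearMap.ker ((QuadraticMap.polarBilin Q).flip y) with hW'def
  have hlt : Module.finrank F W' < k := by
    rw [← hWd]
    refine Submodule.finrank_lt_finrank_of_lt
      (lt_of_le_of_ne (inf_le_left.trans inf_le_left) fun e => ?_)
    have h1 : y ∈ W' := e.symm ▸ hy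
    rw [mem_ker_polar.1 h1.1.2] at hyx
    exact zero_ne_one hyx
  have hW' : W' ⊓ LinearMap.BilinForm.orthogonal B W' = ⊥ := by
    rw [Submodule.eq_bot_iff]
    rintro z ⟨⟨⟨hz, hzx⟩, hzy⟩, hz'⟩
    refine (Submodule.eq_bot_iff _).1 hW z ⟨hz, fun w hw => ?_⟩
    show QuadraticMap.polar Q w z = 0
    set α := QuadraticMap.polar Q w y
    set β := QuadraticMap.polar Q w x
    have hw' : w - (α • x + β • y) ∈ W' := by
      refine ⟨⟨W.sub_mem hw (W.add_mem (W.smul_mem _ hx) (W.smul_mem _ hy)), mem_ker_polar.2 ?_⟩,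
        mem_ker_polar.2 ?_⟩
      · simp [QuadraticMap.polar_sub_left, QuadraticMap.polar_add_left, QuadraticMap.polar_smul_left,
          hxx, hyx, β]
      · simp [QuadraticMap.polar_sub_left, QuadraticMap.polar_add_left, QuadraticMap.polar_smul_left,
          hxy, hyy, α]
    have h4 : QuadraticMap.polar Q (w - (α • x + β • y)) z = 0 := hz' _ hw'
    rwa [QuadraticMap.polar_sub_left, QuadraticMap.polar_add_left, QuadraticMap.polar_smul_left,
      QuadraticMap.polar_smul_left, QuadraticMap.polar_comm Q x z, QuadraticMap.polar_comm Q y z,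
      mem_ker_polar.1 hzx, mem_ker_polar.1 hzy, smul_zero, smul_zero, add_zero, sub_zero] at h4
  obtain ⟨r, e, f, h, hmem, han'⟩ := ih _ hlt W' rfl hW'
  have hex : ∀ i, QuadraticMap.polar Q (e i) x = 0 ∧ QuadraticMap.polar Q (f i) x = 0 ∧
      QuadraticMap.polar Q (e i) y = 0 ∧ QuadraticMap.polar Q (f i) y = 0 := fun i =>
    ⟨mem_ker_polar.1 (hmem i).1.1.2, mem_ker_polar.1 (hmem i).2.1.2, mem_ker_polar.1 (hmem i).1.2,
      mem_ker_polar.1 (hmem i).2.2⟩
  refine ⟨r + 1, Fin.cons x e, Fin.cons y f, ⟨?_, ?_, ?_, ?_, ?_⟩, ?_, ?_⟩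
  · exact Fin.forall_fin_succ.2 ⟨by simpa using hQx, fun i => by simpa using h.singe i⟩
  · exact Fin.forall_fin_succ.2 ⟨by simpa using hQy, fun i => by simpa using h.singf i⟩
  · refine Fin.forall_fin_succ.2 ⟨Fin.forall_fin_succ.2 ⟨by simpa using hxy, fun j => ?_⟩,
      fun i => Fin.forall_fin_succ.2 ⟨?_, fun j => ?_⟩⟩
    · simp [QuadraticMap.polar_comm Q x, hex, (Fin.succ_ne_zero j).symm]
    · simp [hex, Fin.succ_ne_zero]
    · simp [h.ef, Fin.succ_inj]
  · refine Fin.forall_fin_succ.2 ⟨Fin.forall_fin_succ.2 ⟨by simpa using hxx, fun j => ?_⟩,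
      fun i => Fin.forall_fin_succ.2 ⟨?_, fun j => ?_⟩⟩
    · simp [QuadraticMap.polar_comm Q x, hex]
    · simp [hex]
    · simp [h.ee]
  · refine Fin.forall_fin_succ.2 ⟨Fin.forall_fin_succ.2 ⟨by simpa using hyy, fun j => ?_⟩,
      fun i => Fin.forall_fin_succ.2 ⟨?_, fun j => ?_⟩⟩
    · simp [QuadraticMap.polar_comm Q y, hex]
    · simp [hex]
    · simp [h.ff]
  · exact Fin.forall_fin_succ.2 ⟨by simpa using And.intro hx hy,
      fun i => by simpa using And.intro (hmem i).1.1.1 (hmem i).2.1.1⟩
  · intro z hz hz' hQz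
    have h0 := hz' 0
    simp only [Fin.cons_zero] at h0
    refine han' z ⟨⟨hz, mem_ker_polar.2 ?_⟩, mem_ker_polar.2 ?_⟩
      (fun i => by simpa using hz' i.succ) hQz
    · rw [QuadraticMap.polar_comm]; exact h0.1
    · rw [QuadraticMap.polar_comm]; exact h0.2

omit hQ

omit [Fintype F] in
/-- A hyperbolic family together with a basis of its orthogonal is a basis. -/
theorem exists_basis (hQ : (QuadraticMap.polarBilin Q).Nondegenerate) {r : ℕ} {e f : Fin r → V}
    (h : IsHyp Q e f) {κ : Type*} [Fintype κ] (z : κ → V) (hz : LinearIndependent F z)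
    (hzR : ∀ k i, QuadraticMap.polar Q (e i) (z k) = 0 ∧ QuadraticMap.polar Q (f i) (z k) = 0)
    (hcard : 2 * r + Fintype.card κ = Module.finrank F V) :
    ∃ b : Module.Basis ((Fin r ⊕ Fin r) ⊕ κ) F V, ⇑b = Sum.elim (Sum.elim e f) z := by
  have _ := hQ
  have hli : LinearIndependent F (Sum.elim (Sum.elim e f) z) := by
    refine h.linearIndependent.sum_type hz (Submodule.disjoint_def.2 fun x hx hx' => ?_)
    refine (Submodule.eq_bot_iff _).1 h.hypSpan_nondeg x ⟨hx, ?_⟩
    have hle : Submodule.span F (Set.range z) ≤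
        LinearMap.BilinForm.orthogonal B (hypSpan (F := F) e f) :=
      Submodule.span_le.2 (by rintro _ ⟨k, rfl⟩; exact mem_orth_hypSpan.2 (hzR k))
    exact hle hx'
  have hspan : ⊤ ≤ Submodule.span F (Set.range (Sum.elim (Sum.elim e f) z)) := by
    refine (hli.span_eq_top_of_card_eq_finrank' ?_).ge
    simp [Fintype.card_sum]
    omega
  exact ⟨Module.Basis.mk hli hspan, Module.Basis.coe_mk hli hspan⟩

end Cfsg.Agent.Spinor
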