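import Cfsg.Agent.Lib.Spinor.Tools
import Cfsg.Agent.Lib.Spinor.Decomp
import Cfsg.Agent.Lib.Forms.Alt
import Cfsg.Agent.Lib.FormCentral.Bilin

/-!
Centralisers of orthogonal isometries of odd prime order prime to the characteristic: determinant of commuting
similitudes, and spinor norms of commuting isometries.
-/

set_option autoImplicit false
set_option maxHeartbeats 1000000

namespace Cfsg.Agent.Spinor

open Cfsg.Agent.FormsLib

/-- Similitudes of a non-degenerate alternating form. -/
theorem det_similitude {F V : Type*} [Field F] [AddCommGroup V] [Module F V] [FiniteDimensional F V]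
    {A : LinearMap.BilinForm F V} (hA : LinearMap.IsAlt A) (hn : LinearMap.Nondegenerate A) (f : V →ₗ[F] V)
    {μ : F} (hμ : μ ≠ 0) (hf : ∀ u v, A (f u) (f v) = μ * A u v) :
    ∃ m, Module.finrank F V = 2 * m ∧ LinearMap.det f = μ ^ m := by
  classical
  obtain ⟨m, b, h1, h2, h3⟩ := exists_symplectic_basis_nondeg hA hn
  refine ⟨m, by rw [Module.finrank_eq_card_basis b]; simp; omega, ?_⟩
  have hG : LinearMap.toMatrix₂ b b A = -Matrix.J (Fin m) F := by
    ext (i | i) (j | j) <;> simp [Matrix.J, Matrix.one_apply, h1, h2, h3]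
    rw [← hA.neg, h1]
    rcases eq_or_ne i j with rfl | hne
    · simp
    · simp [hne, hne.symm]
  set M := LinearMap.toMatrix b b f
  have hM : M.transpose * Matrix.J (Fin m) F * M = μ • Matrix.J (Fin m) F := by
    have e : A.compl₁₂ f f = μ • A := LinearMap.ext₂ fun u v => by simp [hf]
    have e' := congrArg (LinearMap.toMatrix₂ b b) e
    rw [LinearMap.toMatrix₂_compl₁₂ (b₁ := b) (b₂ := b), map_smul, hG] at e'
    simpa [Matrix.mul_neg, Matrix.neg_mul] using e'
  let D : Matrix (Fin m ⊕ Fin m) (Fin m ⊕ Fin m) F := Matrix.fromBlocks (μ⁻¹ • 1) 0 0 1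
  have hDJ : D.transpose * Matrix.J (Fin m) F * D = μ⁻¹ • Matrix.J (Fin m) F := by
    simp [D, Matrix.J, Matrix.fromBlocks_transpose, Matrix.fromBlocks_multiply, Matrix.fromBlocks_smul]
  have hMD : M * D ∈ Matrix.symplecticGroup (Fin m) F := by
    rw [SymplecticGroup.mem_iff', Matrix.transpose_mul]
    calc D.transpose * M.transpose * Matrix.J (Fin m) F * (M * D)
        = D.transpose * (M.transpose * Matrix.J (Fin m) F * M) * D := by simp only [Matrix.mul_assoc]
      _ = _ := by rw [hM, Matrix.mul_smul, Matrix.smul_mul, hDJ, smul_smul, mul_inv_cancel₀ hμ, one_smul]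
  have hd := SymplecticGroup.det_eq_one hMD
  rw [Matrix.det_mul] at hd
  have hD : D.det = (μ ^ m)⁻¹ := by simp [D, Matrix.det_fromBlocks_zero₁₂]
  rw [hD] at hd
  rw [← LinearMap.det_toMatrix b]
  exact (mul_inv_eq_one₀ (pow_ne_zero _ hμ)).1 hd

variable {F V : Type*} [Field F] [Fintype F] [AddCommGroup V] [Module F V] [FiniteDimensional F V]
  {Q : QuadraticForm F V}

omit [Fintype F] [FiniteDimensional F V] in
theorem inj_J {t : oGroup Q} {r : ℕ} (hro : Odd r) (htr : t ^ r = 1) (hfix : ∀ v, t.1 v = v → v = 0) {v : V}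
    (h : t.1 v = t.1.symm v) : v = 0 := by
  refine hfix v ?_
  obtain ⟨k, hk⟩ := hro
  have h2 : ∀ i, (t.1 ^ (2 * i)) v = v := by
    intro i
    induction i with
    | zero => simp
    | succ i ih =>
      rw [show 2 * (i + 1) = 2 * i + 1 + 1 by ring, pow_succ, pow_succ, LinearEquiv.mul_apply,
        LinearEquiv.mul_apply, h, LinearEquiv.apply_symm_apply, ih]
  have h3 : (t.1 ^ r) v = v := by rw [← Subgroup.coe_pow, htr]; rfl
  rw [hk, pow_succ', LinearEquiv.mul_apply, h2] at h3
  exact h3

variable (hQ : (QuadraticMap.polarBilin Q).Nondegenerate)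

include hQ

omit [Fintype F] in
/-- Commuting similitudes of a fixed-point-free isometry of odd order are special. -/
theorem det_of_commute {t : oGroup Q} {r : ℕ} (hro : Odd r) (htr : t ^ r = 1) (hfix : ∀ v, t.1 v = v → v = 0)
    (c : V →ₗ[F] V) {μ : F} (hμ : μ ≠ 0) (hc : ∀ v, Q (c v) = μ * Q v) (hct : ∀ v, c (t.1 v) = t.1 (c v)) :
    ∃ m, Module.finrank F V = 2 * m ∧ LinearMap.det c = μ ^ m := by
  let J : V →ₗ[F] V := t.1.toLinearMap - t.1.symm.toLinearMap
  let A : LinearMap.BilinForm F V := (QuadraticMap.polarBilin Q).compl₁₂ J LinearMap.id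
  have hJ : Function.Injective J := LinearMap.ker_eq_bot.1 (LinearMap.ker_eq_bot'.2 fun v hv =>
    inj_J hro htr hfix (sub_eq_zero.1 hv))
  have hAa : ∀ u v, A u v = QuadraticMap.polar Q (J u) v := fun _ _ => rfl
  refine det_similitude (A := A) ?_ ?_ c hμ fun u v => ?_
  · intro v
    rw [hAa]
    show QuadraticMap.polar Q (t.1 v - t.1.symm v) v = 0
    rw [QuadraticMap.polar_sub_left, ← polar_of_mem t.2 (t.1.symm v) v, LinearEquiv.apply_symm_apply,
      QuadraticMap.polar_comm Q v, sub_self]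
  · refine ⟨fun u hu => hJ ((hQ.1 (J u) hu).trans (map_zero J).symm), fun v hv => hQ.2 v fun w => ?_⟩
    obtain ⟨u, rfl⟩ := LinearMap.injective_iff_surjective.1 hJ w
    exact hv u
  · have hcs : ∀ w, c (t.1.symm w) = t.1.symm (c w) := fun w =>
      t.1.injective (by rw [← hct, LinearEquiv.apply_symm_apply, LinearEquiv.apply_symm_apply])
    have hJc : J (c u) = c (J u) := by
      show t.1 (c u) - t.1.symm (c u) = c (t.1 u - t.1.symm u)
      rw [map_sub, hct, hcs]
    rw [hAa, hAa, hJc]
    simp only [QuadraticMap.polar, ← map_add, hc]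
    ring

/-- A commuting isometry with non-square spinor norm: minimal case. -/
theorem exists_odd_minimal (h2 : (2 : F) ≠ 0) {t : oGroup Q} {r : ℕ} (hr : r.Prime) (hro : Odd r)
    (hrF : (r : F) ≠ 0) (htr : t ^ r = 1) (hfix : ∀ v, t.1 v = v → v = 0) [Nontrivial V]
    (hmin : ∀ W : Submodule F V, (∀ x ∈ W, t.1 x ∈ W) →
      W ⊓ LinearMap.BilinForm.orthogonal (QuadraticMap.polarBilin Q) W = ⊥ → W = ⊥ ∨ W = ⊤) :
    ∃ u : oGroup Q, (∀ v, u.1 (t.1 v) = t.1 (u.1 v)) ∧ dick u = 1 ∧ spin u = -1 := by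
  classical
  have : Finite V := Module.finite_of_finite F
  have : Finite (Module.End F V) := Module.finite_of_finite F
  obtain ⟨n, hp, hcard⟩ := FiniteField.card F (ringChar F)
  have : ExpChar (Module.End F V) (ringChar F) := by
    have : CharP F (ringChar F) := ringChar.charP F
    have : CharP (Module.End F V) (ringChar F) :=
      charP_of_injective_algebraMap (algebraMap F (Module.End F V)).injective _
    exact ExpChar.prime hp
  set q := Fintype.card F with hq
  have hq1 : 1 < q := Fintype.one_lt_card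
  set Qb := q ^ (r - 1) with hQb
  have hQb2 : 2 ≤ Qb := by
    have : q ≤ Qb := Nat.le_self_pow (by have := hr.two_le; omega) q
    omega
  have hQbr : Qb % r = 1 := by
    have : Fact r.Prime := ⟨hr⟩
    have hrq : (q : ZMod r) ≠ 0 := by
      rw [Ne, ZMod.natCast_eq_zero_iff]
      intro hd
      rw [hcard] at hd
      have he := (Nat.prime_dvd_prime_iff_eq hr hp).1 (hr.dvd_of_dvd_pow hd)
      exact hrF (by rw [he]; exact ringChar.Nat.cast_ringChar)
    have := ZMod.pow_card_sub_one_eq_one hrq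
    have e : ((Qb : ℕ) : ZMod r) = 1 := by rw [hQb, Nat.cast_pow, this]
    rw [← ZMod.val_natCast, e, ZMod.val_one]
  -- the algebra generated by `t`
  let T : Module.End F V := t.1.toLinearMap
  have hTpow : ∀ k v, (T ^ k) v = (t.1 ^ k) v := by
    intro k
    induction k with
    | zero => intro v; rfl
    | succ k ih => intro v; rw [pow_succ, pow_succ, Module.End.mul_apply, LinearEquiv.mul_apply, ih]; rfl
  have hTr : T ^ r = 1 := LinearMap.ext fun v => by rw [hTpow, ← Subgroup.coe_pow, htr]; rfl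
  set R := Algebra.adjoin F ({T} : Set (Module.End F V)) with hR
  have hcomm : ∀ a b : R, a * b = b * a := by
    intro a b
    refine Subtype.ext ?_
    have h : R ≤ Subalgebra.centralizer F {b.1} := Algebra.adjoin_le (by
      rintro _ rfl
      rw [SetLike.mem_coe, Subalgebra.mem_centralizer_iff]
      rintro _ rfl
      exact (Algebra.commute_of_mem_adjoin_self (a := T) b.2).symm.eq)
    exact ((Subalgebra.mem_centralizer_iff F).1 (h a.2) b.1 rfl).symm
  letI : CommRing R := { (inferInstance : Ring R) with mul_comm := hcomm }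
  let tR : R := ⟨T, Algebra.self_mem_adjoin_singleton F T⟩
  have hadj : ∀ a : R, ∃ a' : R, ∀ u v, QuadraticMap.polar Q (a.1 u) v = QuadraticMap.polar Q u (a'.1 v) := by
    rintro ⟨a, ha⟩
    induction ha using Algebra.adjoin_induction with
    | mem x hx =>
      rw [Set.mem_singleton_iff] at hx
      subst hx
      refine ⟨tR ^ (r - 1), fun u v => ?_⟩
      show QuadraticMap.polar Q (t.1 u) v = QuadraticMap.polar Q u ((T ^ (r - 1)) v)
      rw [← polar_of_mem t.2 u]
      congr 1
      show v = T ((T ^ (r - 1)) v)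
      rw [← Module.End.mul_apply, ← pow_succ', Nat.sub_add_cancel hr.one_le, hTr]
      rfl
    | algebraMap c => exact ⟨algebraMap F R c, fun u v => by simp [QuadraticMap.polar_smul_left, QuadraticMap.polar_smul_right]⟩
    | add x y _ _ hx hy =>
      obtain ⟨x', hx'⟩ := hx
      obtain ⟨y', hy'⟩ := hy
      refine ⟨x' + y', fun u v => ?_⟩
      show QuadraticMap.polar Q (x u + y u) v = QuadraticMap.polar Q u (x'.1 v + y'.1 v)
      rw [QuadraticMap.polar_add_left, QuadraticMap.polar_add_right, hx', hy']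
    | mul x y _ _ hx hy =>
      obtain ⟨x', hx'⟩ := hx
      obtain ⟨y', hy'⟩ := hy
      refine ⟨y' * x', fun u v => ?_⟩
      show QuadraticMap.polar Q (x (y u)) v = QuadraticMap.polar Q u (y'.1 (x'.1 v))
      rw [hx', hy']
  choose bar₀ hbar₀ using hadj
  have huniq : ∀ a b : R, (∀ u v, QuadraticMap.polar Q (a.1 u) v = QuadraticMap.polar Q u (b.1 v)) → bar₀ a = b :=
    fun a b h => Subtype.ext (LinearMap.ext fun v => sub_eq_zero.1 (hQ.2 _ fun u => by
      show QuadraticMap.polar Q u _ = 0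
      rw [QuadraticMap.polar_sub_right, ← hbar₀, h, sub_self]))
  let bar : R →+* R :=
    { toFun := bar₀
      map_one' := huniq _ _ fun u v => rfl
      map_mul' := fun a b => huniq _ _ fun u v => by
        show QuadraticMap.polar Q (a.1 (b.1 u)) v = QuadraticMap.polar Q u ((bar₀ a * bar₀ b).1 v)
        rw [hbar₀, hbar₀, mul_comm]
        rfl
      map_zero' := huniq _ _ fun u v => by simp
      map_add' := fun a b => huniq _ _ fun u v => by
        show QuadraticMap.polar Q (a.1 u + b.1 u) v = QuadraticMap.polar Q u ((bar₀ a).1 v + (bar₀ b).1 v)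
        rw [QuadraticMap.polar_add_left, QuadraticMap.polar_add_right, hbar₀, hbar₀] }
  have hbar : ∀ (a : R) u v, QuadraticMap.polar Q (a.1 u) v = QuadraticMap.polar Q u ((bar a).1 v) := hbar₀
  have hbar2 : ∀ a, bar (bar a) = a := fun a => huniq _ _ fun u v => by
    rw [QuadraticMap.polar_comm, ← hbar, QuadraticMap.polar_comm]
  have hfrob : ∀ a : R, a ^ Qb = a := by
    rintro ⟨a, ha⟩
    refine Subtype.ext ?_
    show a ^ Qb = a
    induction ha using Algebra.adjoin_induction with
    | mem x hx =>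
      rw [Set.mem_singleton_iff] at hx
      subst hx
      rw [pow_eq_pow_mod Qb hTr, hQbr, pow_one]
    | algebraMap c =>
      rw [← map_pow]
      congr 1
      exact FiniteField.pow_card_pow (r - 1) c
    | add x y hx' hy' hx hy =>
      have hc : Commute x y := congrArg Subtype.val (hcomm ⟨x, hx'⟩ ⟨y, hy'⟩)
      rw [hQb, hcard, ← pow_mul] at hx hy ⊢
      rw [add_pow_expChar_pow_of_commute (ringChar F) _ hc, hx, hy]
    | mul x y hx' hy' hx hy =>
      have hc : Commute x y := congrArg Subtype.val (hcomm ⟨x, hx'⟩ ⟨y, hy'⟩)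
      rw [hc.mul_pow, hx, hy]
  have hsq : ∀ a : R, a * a = 0 → a = 0 := by
    intro a h
    have e := hfrob a
    rw [show Qb = (Qb - 2) + 1 + 1 by omega, pow_succ, pow_succ, mul_assoc, h, mul_zero] at e
    exact e.symm
  have hunit : ∀ a : R, Function.Injective a.1 → IsUnit a := by
    intro a ha
    refine IsUnit.of_mul_eq_one (a ^ (Qb - 2)) ?_
    have e : a * (a * a ^ (Qb - 2)) = a * 1 := by
      rw [← pow_succ', ← pow_succ', show Qb - 2 + 1 + 1 = Qb by omega, hfrob, mul_one]
    exact Subtype.ext (LinearMap.ext fun v => ha (LinearMap.congr_fun (congrArg Subtype.val e) v))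
  have hinj : ∀ z : R, bar z = z → z ≠ 0 → Function.Injective z.1 := by
    intro z hz hz0
    have hTz : ∀ x, z.1 (t.1 x) = t.1 (z.1 x) := fun x => LinearMap.congr_fun (congrArg Subtype.val (hcomm z tR)) x
    have hdisj : ∀ x, z.1 (z.1 x) = 0 → z.1 x = 0 := fun x hx => by
      have e := LinearMap.congr_fun (congrArg Subtype.val (hfrob z)) x
      rw [show Qb = (Qb - 2) + 1 + 1 by omega, pow_succ, pow_succ] at e
      rw [← e]
      show (z ^ (Qb - 2)).1 (z.1 (z.1 x)) = 0
      rw [hx, map_zero]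
    have hsup : LinearMap.ker z.1 ⊔ LinearMap.range z.1 = ⊤ := by
      refine Submodule.eq_top_of_disjoint _ _ (by rw [add_comm, LinearMap.finrank_range_add_finrank_ker]) ?_
      rw [Submodule.disjoint_def]
      rintro _ h ⟨x, rfl⟩
      exact hdisj x h
    have hnd : LinearMap.ker z.1 ⊓ LinearMap.BilinForm.orthogonal (QuadraticMap.polarBilin Q) (LinearMap.ker z.1) = ⊥ := by
      rw [Submodule.eq_bot_iff]
      intro x hx
      refine hQ.2 x fun y => ?_
      obtain ⟨k, hk, _, ⟨w, rfl⟩, rfl⟩ := Submodule.mem_sup.1 (hsup ▸ Submodule.mem_top : y ∈ _)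
      show QuadraticMap.polar Q (k + z.1 w) x = 0
      rw [QuadraticMap.polar_add_left, hbar, hz, LinearMap.mem_ker.1 hx.1, show QuadraticMap.polar Q k x = 0 from hx.2 k hk,
        zero_add]
      simp
    rcases hmin (LinearMap.ker z.1) (fun x hx => by
        rw [LinearMap.mem_ker, hTz, LinearMap.mem_ker.1 hx, map_zero]) hnd
      with h | h
    · exact LinearMap.ker_eq_bot.1 h
    · exact absurd (Subtype.ext (LinearMap.ker_eq_top.1 h)) hz0
  obtain ⟨w₀, hw₀⟩ := exists_nonsingular' hQ (V := V) (F := F)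
  have hw₀' : w₀ ≠ 0 := fun h => hw₀ (by rw [h, QuadraticMap.map_zero])
  let L : R →ₗ[F] F :=
    { toFun := fun a => QuadraticMap.polar Q (a.1 w₀) w₀
      map_add' := fun a b => QuadraticMap.polar_add_left _ _ _ _
      map_smul' := fun c a => QuadraticMap.polar_smul_left _ _ _ _ }
  have hL : ∀ a, L a = QuadraticMap.polar Q (a.1 w₀) w₀ := fun _ => rfl
  have hself : ∀ x : V, QuadraticMap.polar Q x x = 2 * Q x := polar_self' (Q := Q)
  have hLN : ∀ a : R, 2 * Q (a.1 w₀) = L (bar a * a) := fun a => by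
    rw [← hself, hL, QuadraticMap.polar_comm _ ((bar a * a).1 w₀), hbar]
    rfl
  have hidem : ∀ a : R, a ≠ 0 → bar a * a = 0 → ∃ e : R, e * a = a ∧ e = a ^ (Qb - 2) * a ∧
      bar e * e = 0 ∧ e + bar e = 1 := by
    intro a ha h0
    refine ⟨a ^ (Qb - 2) * a, ?_, rfl, ?_, ?_⟩
    · rw [mul_assoc, ← pow_two, ← pow_add, Nat.sub_add_cancel hQb2, hfrob]
    · rw [map_mul]
      calc bar (a ^ (Qb - 2)) * bar a * (a ^ (Qb - 2) * a)
          = bar (a ^ (Qb - 2)) * a ^ (Qb - 2) * (bar a * a) := by ring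
        _ = 0 := by rw [h0, mul_zero]
    · set e := a ^ (Qb - 2) * a with he
      have hea : e * a = a := by rw [he, mul_assoc, ← pow_two, ← pow_add, Nat.sub_add_cancel hQb2, hfrob]
      have hee : e * e = e := by
        conv_lhs => arg 2; rw [he]
        rw [mul_comm (a ^ (Qb - 2)), ← mul_assoc, hea, mul_comm a]
      have hbe : bar e * e = 0 := by
        rw [he, map_mul]
        calc bar (a ^ (Qb - 2)) * bar a * (a ^ (Qb - 2) * a)
            = bar (a ^ (Qb - 2)) * a ^ (Qb - 2) * (bar a * a) := by ring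
          _ = 0 := by rw [h0, mul_zero]
      have hz : bar (e + bar e) = e + bar e := by rw [map_add, hbar2, add_comm]
      have hzz : (e + bar e) * (e + bar e) = e + bar e := by
        have hbb : bar e * bar e = bar e := by rw [← map_mul, hee]
        linear_combination hee + hbb + 2 * hbe
      have hz0 : e + bar e ≠ 0 := fun h => ha (by
        rw [← hea]
        have : e * (e + bar e) = e := by linear_combination hee + hbe
        rw [h, mul_zero] at this
        rw [← this, zero_mul])
      exact Subtype.ext (LinearMap.ext fun v => hinj _ hz hz0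
        (LinearMap.congr_fun (congrArg Subtype.val hzz) v))
  have hfaith : ∀ a : R, a.1 w₀ = 0 → a = 0 := by
    intro a ha
    by_contra hne
    by_cases h0 : bar a * a = 0
    · obtain ⟨e, -, he, hbe, hz⟩ := hidem a hne h0
      have hew : e.1 w₀ = 0 := by rw [he]; show (a ^ (Qb - 2)).1 (a.1 w₀) = 0; rw [ha, map_zero]
      have h1 : (bar e).1 w₀ = w₀ := by
        have := LinearMap.congr_fun (congrArg Subtype.val hz) w₀
        simpa [hew] using this
      have h3 := hLN (bar e)
      rw [hbar2, mul_comm e, hbe, map_zero, h1] at h3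
      exact mul_ne_zero h2 hw₀ h3
    · refine hw₀' (hinj (bar a * a) (by rw [map_mul, hbar2, mul_comm]) h0 ?_)
      show (bar a).1 (a.1 w₀) = (bar a * a).1 0
      rw [ha, map_zero, map_zero]
  let ev : R →ₗ[F] V :=
    { toFun := fun a => a.1 w₀
      map_add' := fun a b => rfl
      map_smul' := fun c a => rfl }
  have hev : Function.Bijective ev := by
    refine ⟨LinearMap.ker_eq_bot.1 (LinearMap.ker_eq_bot'.2 hfaith), LinearMap.range_eq_top.1 ?_⟩
    refine (hmin _ (fun x hx => ?_) ((Submodule.eq_bot_iff _).2 fun x hx => ?_)).resolve_left fun h => hw₀' ?_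
    · obtain ⟨a, rfl⟩ := hx
      exact ⟨tR * a, rfl⟩
    · obtain ⟨⟨a, rfl⟩, hperp⟩ := hx
      have hb : ∀ b : R, L (b * a) = 0 := fun b => by
        have h := hperp (ev (bar b)) ⟨bar b, rfl⟩
        change QuadraticMap.polar Q ((bar b).1 w₀) (a.1 w₀) = 0 at h
        rw [QuadraticMap.polar_comm] at h
        rw [hL]
        show QuadraticMap.polar Q (b.1 (a.1 w₀)) w₀ = 0
        rw [hbar]
        exact h
      by_contra hne
      have ha : a ≠ 0 := fun h => hne (by rw [h, map_zero])
      have hL1 : L 1 = 0 := by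
        by_cases h0 : bar a * a = 0
        · obtain ⟨e, -, he, hbe, hz⟩ := hidem a ha h0
          have hLe : L e = 0 := by rw [he]; exact hb _
          have hLbe : L (bar e) = L e := by
            rw [hL, hL, QuadraticMap.polar_comm _ ((bar e).1 w₀), ← hbar]
          rw [← hz, map_add, hLbe, hLe, add_zero]
        · obtain ⟨u, hu⟩ := hunit _ (hinj (bar a * a) (by rw [map_mul, hbar2, mul_comm]) h0)
          have := hb (↑u⁻¹ * bar a)
          rwa [mul_assoc, ← hu, Units.inv_mul] at this
      have := hLN 1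
      rw [map_one, one_mul, hL1] at this
      exact mul_ne_zero h2 hw₀ this
    · have : ev 1 ∈ (⊥ : Submodule F V) := h ▸ ⟨1, rfl⟩
      simpa [ev] using this
  have : Finite R := Finite.of_injective ev hev.1
  -- norm-one elements
  let Nm : Rˣ →* Rˣ := (Units.map (bar : R →* R)) * MonoidHom.id Rˣ
  let C : Subgroup Rˣ := Nm.ker
  have hC : ∀ c : C, bar (c.1 : R) * (c.1 : R) = 1 := fun c => congrArg Units.val c.2
  -- cyclicity
  obtain ⟨M, hM⟩ := Ideal.exists_maximal R
  letI := Ideal.Quotient.field M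
  have hcyc : IsCyclic C := by
    refine isCyclic_of_subgroup_isDomain ((Ideal.Quotient.mk M : R →* R ⧸ M).comp ((Units.coeHom R).comp C.subtype))
      ((injective_iff_map_eq_one _).2 fun c hc => ?_)
    have hm : (c.1 : R) - 1 ∈ M := Ideal.Quotient.eq.1 (hc.trans (map_one _).symm)
    set a : R := ((c.1 : Rˣ) : R)
    have hz : a + bar a - 2 ∈ M := by
      rw [show a + bar a - 2 = (1 - bar a) * (a - 1) by linear_combination hC c]
      exact M.mul_mem_left _ hm
    have hz0 : a + bar a - 2 = 0 := by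
      by_contra hne
      exact hM.ne_top (Ideal.eq_top_of_isUnit_mem _ hz (hunit _ (hinj _ (by
        rw [map_sub, map_add, hbar2, map_ofNat]; ring) hne)))
    have h1 : a - 1 = 0 := hsq _ (by linear_combination a * hz0 - hC c)
    exact Subtype.ext (Units.ext (sub_eq_zero.1 h1))
  obtain ⟨g, hg⟩ := hcyc.exists_generator
  -- the isometry
  have hgQ : ∀ (c : C) (v : V), Q ((c.1 : R).1 v) = Q v := by
    intro c v
    refine mul_left_cancel₀ h2 ?_
    rw [← hself, ← hself, hbar]
    show QuadraticMap.polar Q v ((bar (c.1 : R) * (c.1 : R)).1 v) = _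
    rw [hC]
    rfl
  let ue : V ≃ₗ[F] V := LinearEquiv.ofBijective ((g.1 : R).1)
    ((Module.End.isUnit_iff _).1 (g.1.isUnit.map R.val))
  let u : oGroup Q := ⟨ue, hgQ g⟩
  have hut : ∀ v, u.1 (t.1 v) = t.1 (u.1 v) := fun v =>
    LinearMap.congr_fun (congrArg Subtype.val (hcomm (g.1 : R) tR)) v
  obtain ⟨m, -, hdet⟩ := det_of_commute hQ hro htr hfix u.1.toLinearMap one_ne_zero
    (fun v => (hgQ g v).trans (one_mul _).symm) hut
  have hdick : dick u = 1 := (dick_eq_one_iff_det hQ h2 u).2 (Units.ext (by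
    rw [LinearEquiv.coe_det, hdet, one_pow]; rfl))
  refine ⟨u, hut, hdick, ?_⟩
  -- the sign on the vectors of norm one
  have hj : ∃ j : R, bar j = -j ∧ Function.Injective j.1 := by
    have hbt : tR * bar tR = 1 := by
      refine Subtype.ext (LinearMap.ext fun v => sub_eq_zero.1 (hQ.2 _ fun w => ?_))
      obtain ⟨w', rfl⟩ := t.1.surjective w
      show QuadraticMap.polar Q (t.1 w') (T ((bar tR).1 v) - v) = 0
      rw [QuadraticMap.polar_sub_right]
      show QuadraticMap.polar Q (t.1 w') (t.1 _) - QuadraticMap.polar Q (tR.1 w') v = 0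
      rw [polar_of_mem t.2, hbar, sub_self]
    refine ⟨tR - bar tR, by rw [map_sub, hbar2]; ring, LinearMap.ker_eq_bot.1 (LinearMap.ker_eq_bot'.2 fun v hv =>
      inj_J hro htr hfix ?_)⟩
    have e : t.1 v = (bar tR).1 v := sub_eq_zero.1 hv
    rw [e]
    exact t.1.injective (by rw [LinearEquiv.apply_symm_apply]; exact LinearMap.congr_fun (congrArg Subtype.val hbt) v)
  obtain ⟨j, hbj, hjinj⟩ := hj
  let K : Subring R := bar.eqLocus (RingHom.id R)
  have hK : ∀ x, x ∈ K ↔ bar x = x := fun _ => Iff.rfl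
  have : Nontrivial R := ⟨0, 1, fun h => hw₀' (LinearMap.congr_fun (congrArg Subtype.val h.symm) w₀)⟩
  have hKf : IsField K := by
    refine ⟨exists_pair_ne K, mul_comm, fun {a} ha => ?_⟩
    obtain ⟨w, hw⟩ := hunit a.1 (hinj _ a.2 fun h => ha (Subtype.ext h))
    have hb : bar (↑w⁻¹ : R) = ↑w⁻¹ := by
      have h1 : bar (↑w⁻¹ : R) * a.1 = 1 := by
        rw [show a.1 = bar a.1 from a.2.symm, ← map_mul, ← hw, Units.inv_mul, map_one]
      calc bar (↑w⁻¹ : R) = bar (↑w⁻¹ : R) * (a.1 * ↑w⁻¹) := by rw [← hw, Units.mul_inv, mul_one]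
        _ = _ := by rw [← mul_assoc, h1, one_mul]
    exact ⟨⟨↑w⁻¹, hb⟩, Subtype.ext (by show a.1 * ↑w⁻¹ = 1; rw [← hw, Units.mul_inv])⟩
  letI := hKf.toField
  letI : Fintype K := Fintype.ofFinite K
  have hK2 : ringChar K ≠ 2 := by
    intro h
    haveI : CharP K 2 := h ▸ ringChar.charP K
    have e : ((2 : ℕ) : K) = 0 := CharP.cast_eq_zero K 2
    have e' : algebraMap F R 2 = algebraMap F R 0 := by
      rw [map_ofNat, map_zero]; exact congrArg Subtype.val (show (2 : K) = 0 by exact_mod_cast e)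
    exact h2 ((algebraMap F R).injective e')
  have hnorm : ∀ z : K, z ≠ 0 → ∃ a : R, bar a * a = z.1 := by
    intro z hz
    have hj2 : bar (j * j) = j * j := by rw [map_mul, hbj]; ring
    let d : K := ⟨j * j, hj2⟩
    have hd : d ≠ 0 := fun h => hw₀' (hjinj (hjinj (by
      have := LinearMap.congr_fun (congrArg Subtype.val (congrArg Subtype.val h)) w₀
      simpa [d] using this)))
    obtain ⟨x, y, hxy⟩ := FiniteField.exists_root_sum_quadratic
      (f := (Polynomial.X : Polynomial K) ^ 2) (g := Polynomial.C (-d) * Polynomial.X ^ 2 + Polynomial.C (-z))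
      (Polynomial.degree_X_pow 2) (by
        rw [Polynomial.degree_add_C (by rw [Polynomial.degree_C_mul_X_pow 2 (neg_ne_zero.2 hd)]; decide),
          Polynomial.degree_C_mul_X_pow 2 (neg_ne_zero.2 hd)]; rfl)
      (FiniteField.odd_card_of_char_ne_two hK2)
    simp only [Polynomial.eval_pow, Polynomial.eval_X, Polynomial.eval_add, Polynomial.eval_mul, Polynomial.eval_C] at hxy
    refine ⟨x.1 + j * y.1, ?_⟩
    have e : x.1 ^ 2 + (-(j * j) * y.1 ^ 2 + -z.1) = 0 := congrArg Subtype.val hxy
    rw [map_add, map_mul, (hK _).1 x.2, (hK _).1 y.2, hbj]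
    linear_combination e
  -- norm one vectors
  let Z := {z : R // bar z = z ∧ L z = 2}
  have hz0 : ∀ z : Z, z.1 ≠ 0 := fun z h => h2 (by rw [← z.2.2, h, map_zero])
  have hnZ : ∀ z : Z, ∃ a : Rˣ, bar (a : R) * (a : R) = z.1 := fun z => by
    obtain ⟨a, ha⟩ := hnorm ⟨z.1, z.2.1⟩ fun h => hz0 z (congrArg Subtype.val h)
    obtain ⟨w, hw⟩ := hunit _ (hinj _ z.2.1 (hz0 z))
    have : IsUnit a := isUnit_of_mul_isUnit_right (x := bar a) (ha ▸ ⟨w, hw⟩)
    exact ⟨this.unit, ha⟩
  choose sec hsec using hnZ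
  have hsphere : ∀ a : R, Q (a.1 w₀) = 1 ↔ L (bar a * a) = 2 := fun a => by
    rw [← hLN]
    exact ⟨fun h => by rw [h, mul_one], fun h => mul_left_cancel₀ h2 (h.trans (mul_one _).symm)⟩
  let S := {x : V // Q x = 1}
  let f : Z × C → S := fun p => ⟨((p.2.1 : R) * (sec p.1 : R)).1 w₀, by
    rw [hsphere, map_mul bar, mul_mul_mul_comm, hC, one_mul, hsec]; exact p.1.2.2⟩
  have hf : Function.Bijective f := by
    constructor
    · rintro ⟨z, c⟩ ⟨z', c'⟩ h
      have e : (c.1 : R) * sec z = c'.1 * sec z' := hev.1 (congrArg Subtype.val h)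
      have e2 : z = z' := by
        refine Subtype.ext ?_
        have := congrArg (fun a : R => bar a * a) e
        simp only [map_mul] at this
        rwa [mul_mul_mul_comm, hC, one_mul, mul_mul_mul_comm, hC, one_mul, hsec, hsec] at this
      subst e2
      exact Prod.ext rfl (Subtype.ext (Units.ext ((sec z).isUnit.mul_right_cancel e)))
    · rintro ⟨x, hx⟩
      obtain ⟨a, rfl⟩ := hev.2 x
      let z : Z := ⟨bar a * a, by rw [map_mul, hbar2, mul_comm], (hsphere a).1 hx⟩
      have ha : IsUnit a := isUnit_of_mul_isUnit_right (x := bar a) (hunit _ (hinj z.1 z.2.1 (hz0 z)))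
      have hcm : ha.unit * (sec z)⁻¹ ∈ C := by
        refine Units.ext ?_
        show bar ((ha.unit * (sec z)⁻¹ : Rˣ) : R) * ((ha.unit * (sec z)⁻¹ : Rˣ) : R) = 1
        rw [Units.val_mul, map_mul, mul_mul_mul_comm, IsUnit.unit_spec]
        have e := hsec z
        change bar (sec z : R) * (sec z : R) = bar a * a at e
        rw [← e, mul_mul_mul_comm, ← map_mul, Units.mul_inv, map_one, one_mul]
      exact ⟨(z, ⟨_, hcm⟩), Subtype.ext (by
        show (((ha.unit * (sec z)⁻¹ : Rˣ) : R) * sec z).1 w₀ = a.1 w₀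
        rw [Units.val_mul, mul_assoc, Units.inv_mul, mul_one, IsUnit.unit_spec])⟩
  let e := Equiv.ofBijective f hf
  letI := Fintype.ofFinite S
  letI := Fintype.ofFinite C
  letI := Fintype.ofFinite Z
  have hperm : e.permCongr (Equiv.prodCongrRight fun _ : Z => Equiv.mulLeft g) = sphereHom Q u := by
    refine Equiv.ext fun x => ?_
    obtain ⟨⟨z, c⟩, rfl⟩ := e.surjective x
    rw [Equiv.permCongr_apply, Equiv.symm_apply_apply]
    refine Subtype.ext ?_
    show (((g * c : C).1 : R) * sec z).1 w₀ = (g.1 : R).1 (((c.1 : R) * sec z).1 w₀)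
    rw [Subgroup.coe_mul, Units.val_mul, mul_assoc]
    rfl
  have hZodd : Odd (Fintype.card Z) := by
    let z₀ : R := algebraMap F R (Q w₀)⁻¹
    have hz₀ : bar z₀ = z₀ := huniq _ _ fun a b => by
      simp [z₀, QuadraticMap.polar_smul_left, QuadraticMap.polar_smul_right]
    have hLz₀ : L z₀ = 2 := by
      rw [hL]
      show QuadraticMap.polar Q ((Q w₀)⁻¹ • w₀) w₀ = 2
      rw [QuadraticMap.polar_smul_left, hself, smul_eq_mul]
      field_simp
    let Z₀ : AddSubgroup R := (bar.toAddMonoidHom.eqLocus (AddMonoidHom.id R)) ⊓ L.toAddMonoidHom.ker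
    let eZ : Z ≃ Z₀ :=
      { toFun := fun z => ⟨z.1 - z₀, by
          refine ⟨?_, ?_⟩
          · show bar (z.1 - z₀) = z.1 - z₀
            rw [map_sub, z.2.1, hz₀]
          · show L (z.1 - z₀) = 0
            rw [map_sub, z.2.2, hLz₀, sub_self]⟩
        invFun := fun d => ⟨d.1 + z₀, by
          obtain ⟨h1, h3⟩ := d.2
          refine ⟨?_, ?_⟩
          · rw [map_add, hz₀, show bar d.1 = d.1 from h1]
          · rw [map_add, hLz₀, show L d.1 = 0 from h3, zero_add]⟩
        left_inv := fun z => Subtype.ext (sub_add_cancel _ _)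
        right_inv := fun d => Subtype.ext (add_sub_cancel_right _ _) }
    rw [← Nat.card_eq_fintype_card, Nat.card_congr eZ]
    refine Odd.of_dvd_nat ?_ (AddSubgroup.card_addSubgroup_dvd_card Z₀)
    rw [Nat.card_eq_of_bijective _ hev, Module.natCard_eq_pow_finrank (K := F), Nat.card_eq_fintype_card]
    refine Odd.pow (Nat.odd_iff.2 (FiniteField.odd_card_of_char_ne_two (ringChar_ne_two h2)))
  have hsgn : Equiv.Perm.sign (Equiv.mulLeft g : Equiv.Perm C) = -1 := by
    have hne : (-1 : R) ≠ 1 := fun h => h2 (by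
      have e1 : (2 : R) = 0 := by linear_combination -h
      exact (algebraMap F R).injective (by rw [map_ofNat, map_zero]; exact e1))
    let c₀ : C := ⟨-1, Units.ext (show bar ((-1 : Rˣ) : R) * ((-1 : Rˣ) : R) = 1 by simp)⟩
    have hc₀ : c₀ ≠ 1 := fun h => hne (congrArg (fun c : C => (c.1 : R)) h :)
    have heven : Even (Fintype.card C) := by
      rw [even_iff_two_dvd, ← orderOf_eq_prime (p := 2) (show c₀ ^ 2 = 1 from Subtype.ext (Units.ext (by simp [c₀]))) hc₀]
      exact orderOf_dvd_card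
    have hg1 : g ≠ 1 := fun h => hc₀ (by
      have := hg c₀
      rw [h, Subgroup.zpowers_one_eq_bot] at this
      exact Subgroup.mem_bot.1 this)
    have hcycle : (Equiv.mulLeft g : Equiv.Perm C).IsCycle := by
      refine ⟨1, by simpa using hg1, fun y _ => ?_⟩
      obtain ⟨i, hi⟩ := Subgroup.mem_zpowers_iff.1 (hg y)
      refine ⟨i, ?_⟩
      rw [Equiv.zpow_mulLeft]
      simp [hi]
    have hsupp : (Equiv.mulLeft g : Equiv.Perm C).support = Finset.univ :=
      Finset.eq_univ_of_forall fun y => by simp [Equiv.Perm.mem_support, hg1]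
    rw [hcycle.sign, hsupp, Finset.card_univ, heven.neg_one_pow]
  have hsign : sphereSign Q u = -1 := by
    show @Equiv.Perm.sign _ _ (Fintype.ofFinite _) (sphereHom Q u) = -1
    convert (congrArg Equiv.Perm.sign hperm).symm.trans ?_ using 2
    rw [Equiv.Perm.sign_permCongr, Equiv.Perm.sign_prodCongrRight, Finset.prod_const, hsgn, Finset.card_univ,
      hZodd.neg_one_pow]
  rw [spin, if_neg h2, hsign, hdick, mul_one]

omit [Fintype F] [FiniteDimensional F V] hQ in
theorem nondeg_comp {W : Submodule F V}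
    (hW : W ⊓ LinearMap.BilinForm.orthogonal (QuadraticMap.polarBilin Q) W = ⊥) :
    (QuadraticMap.polarBilin (Q.comp W.subtype)).Nondegenerate := by
  have key : ∀ x : W, (∀ y : W, QuadraticMap.polar Q (y : V) x = 0) → x = 0 := fun x hx => Subtype.ext (by
    have : (x : V) ∈ W ⊓ LinearMap.BilinForm.orthogonal (QuadraticMap.polarBilin Q) W :=
      ⟨x.2, fun y hy => hx ⟨y, hy⟩⟩
    rw [hW, Submodule.mem_bot] at this
    exact this)
  refine ⟨fun x hx => key x fun y => ?_, fun x hx => key x fun y => ?_⟩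
  · have h : QuadraticMap.polar (Q.comp W.subtype) x y = 0 := hx y
    rw [QuadraticMap.polar_comm]
    simpa [QuadraticMap.polar, QuadraticMap.comp_apply] using h
  · have h : QuadraticMap.polar (Q.comp W.subtype) y x = 0 := hx y
    simpa [QuadraticMap.polar, QuadraticMap.comp_apply] using h

/-- A commuting special isometry with non-square spinor norm. -/
theorem exists_spin_neg (h2 : (2 : F) ≠ 0) {t : oGroup Q} {r : ℕ} (hr : r.Prime) (hro : Odd r)
    (hrF : (r : F) ≠ 0) (htr : t ^ r = 1) (hfix : ∀ v, t.1 v = v → v = 0) [Nontrivial V] :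
    ∃ u : oGroup Q, (∀ v, u.1 (t.1 v) = t.1 (u.1 v)) ∧ dick u = 1 ∧ spin u = -1 := by
  classical
  let P : ℕ → Prop := fun d => ∃ W : Submodule F V, Module.finrank F W = d ∧ W ≠ ⊥ ∧ (∀ x ∈ W, t.1 x ∈ W) ∧
    W ⊓ LinearMap.BilinForm.orthogonal (QuadraticMap.polarBilin Q) W = ⊥
  have hP : ∃ d, P d := ⟨_, ⊤, rfl, top_ne_bot, fun _ _ => Submodule.mem_top, top_inf_orth hQ⟩
  obtain ⟨W, hWd, hW0, hWt, hW⟩ := Nat.find_spec hP
  set B := QuadraticMap.polarBilin Q
  set W' := LinearMap.BilinForm.orthogonal B W with hW'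
  have hc : IsCompl W W' := by
    refine ⟨disjoint_iff.2 hW, codisjoint_iff.2 (Submodule.eq_top_of_disjoint _ _ ?_ (disjoint_iff.2 hW))⟩
    rw [finrank_orth hQ W]
    have := Submodule.finrank_le W
    omega
  let L : V ≃ₗ[F] W × W' := (Submodule.prodEquivOfIsCompl W W' hc).symm
  have hL : ∀ x, Q x = (Q.comp W.subtype) (L x).1 + (Q.comp W'.subtype) (L x).2 := by
    intro x
    obtain ⟨⟨a, b⟩, rfl⟩ := L.symm.surjective x
    rw [LinearEquiv.apply_symm_apply]
    show Q ((Submodule.prodEquivOfIsCompl W W' hc) (a, b)) = Q (a : V) + Q (b : V)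
    rw [Submodule.coe_prodEquivOfIsCompl', quad_add, show QuadraticMap.polar Q (a : V) b = 0 from b.2 a a.2, add_zero]
  have hQ₁ := nondeg_comp hW
  let t₁ : oGroup (Q.comp W.subtype) := ⟨LinearEquiv.ofBijective (t.1.toLinearMap.restrict hWt) (by
    have hi : Function.Injective (t.1.toLinearMap.restrict hWt) := fun x y h =>
      Subtype.ext (t.1.injective (congrArg Subtype.val h))
    exact ⟨hi, LinearMap.injective_iff_surjective.1 hi⟩), fun x => t.2 x⟩
  have hpow : ∀ k (x : W), (((t₁ ^ k).1 x : W) : V) = (t ^ k).1 x := by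
    intro k
    induction k with
    | zero => intro x; rfl
    | succ k ih =>
      intro x
      rw [pow_succ', pow_succ']
      show t.1 (((t₁ ^ k).1 x : W) : V) = t.1 ((t ^ k).1 x)
      rw [ih]
  have ht₁r : t₁ ^ r = 1 := Subtype.ext (LinearEquiv.ext fun x => Subtype.ext (by rw [hpow, htr]; rfl))
  haveI : Nontrivial W := Submodule.nontrivial_iff_ne_bot.2 hW0
  obtain ⟨u, hu, hud, hus⟩ := exists_odd_minimal hQ₁ h2 hr hro hrF ht₁r
    (fun x hx => Subtype.ext (hfix x (congrArg Subtype.val hx))) (fun U hU hUn => by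
      by_contra hcon
      push Not at hcon
      have hlt : Module.finrank F (U.map W.subtype) < Nat.find hP := by
        rw [← hWd, Submodule.finrank_map_subtype_eq]
        exact Submodule.finrank_lt hcon.2
      refine Nat.find_min hP hlt ⟨U.map W.subtype, rfl, fun h => hcon.1 ?_, ?_, ?_⟩
      · exact Submodule.map_injective_of_injective W.subtype_injective (h.trans (Submodule.map_bot _).symm)
      · rintro _ ⟨x, hx, rfl⟩
        exact ⟨_, hU x hx, rfl⟩
      · rw [Submodule.eq_bot_iff]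
        rintro _ ⟨⟨x, hx, rfl⟩, hperp⟩
        have : x ∈ U ⊓ LinearMap.BilinForm.orthogonal (QuadraticMap.polarBilin (Q.comp W.subtype)) U := by
          refine ⟨hx, fun y hy => ?_⟩
          show QuadraticMap.polar (Q.comp W.subtype) y x = 0
          have := hperp (y : V) ⟨y, hy, rfl⟩
          simpa [QuadraticMap.polar, QuadraticMap.comp_apply] using this
        rw [hUn, Submodule.mem_bot] at this
        rw [this, map_zero])
  have hexc : Fintype.card F ≠ 2 := card_ne_two h2
  obtain ⟨hd, hs⟩ := embL_invariants hQ hQ₁ (reflGroup_eq_top hQ (Or.inl hexc))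
    (reflGroup_eq_top hQ₁ (Or.inl hexc)) L hL u
  refine ⟨embL L hL u, fun v => ?_, hd.trans hud, hs.trans hus⟩
  have hW't : ∀ x ∈ W', t.1 x ∈ W' := fun x hx y hy => by
    have hsur : ∀ y ∈ W, ∃ z ∈ W, t.1 z = y := fun y hy => by
      obtain ⟨z, hz⟩ := (t₁.1).surjective ⟨y, hy⟩
      exact ⟨z, z.2, congrArg Subtype.val hz⟩
    obtain ⟨z, hz, rfl⟩ := hsur y hy
    show QuadraticMap.polar Q (t.1 z) (t.1 x) = 0
    rw [polar_of_mem t.2]
    exact hx z hz
  obtain ⟨⟨a, b⟩, rfl⟩ := L.symm.surjective v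
  have e : t.1 (L.symm (a, b)) = L.symm (t₁.1 a, ⟨t.1 b, hW't b b.2⟩) := by
    show t.1 ((Submodule.prodEquivOfIsCompl W W' hc) (a, b)) = (Submodule.prodEquivOfIsCompl W W' hc) (_, _)
    rw [Submodule.coe_prodEquivOfIsCompl', Submodule.coe_prodEquivOfIsCompl', map_add]
    rfl
  rw [e, embL_apply, embL_apply, LinearEquiv.apply_symm_apply, LinearEquiv.apply_symm_apply, hu]
  show L.symm (t₁.1 (u.1 a), (⟨t.1 b, hW't b b.2⟩ : W')) = t.1 (L.symm (u.1 a, b))
  show (Submodule.prodEquivOfIsCompl W W' hc) (_, _) = t.1 ((Submodule.prodEquivOfIsCompl W W' hc) (_, _))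
  rw [Submodule.coe_prodEquivOfIsCompl', Submodule.coe_prodEquivOfIsCompl', map_add]
  rfl

/-- The fixed space of an isometry of odd order is non-degenerate of even codimension. -/
theorem fixed_space (h2 : (2 : F) ≠ 0) {t : oGroup Q} {r : ℕ} (hro : Odd r) (hrF : (r : F) ≠ 0)
    (htr : t ^ r = 1) :
    fixS t.1 ⊓ LinearMap.BilinForm.orthogonal (QuadraticMap.polarBilin Q) (fixS t.1) = ⊥ ∧
      ∃ m, Module.finrank F V = Module.finrank F (fixS t.1) + 2 * m := by
  have hne : fixS t.1 ⊓ mov t.1 = ⊥ := by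
    rw [Submodule.eq_bot_iff]
    rintro x ⟨hx, hx'⟩
    obtain ⟨y, rfl⟩ := mem_mov.1 hx'
    have hfx := mem_fixS.1 hx
    have hk : ∀ k : ℕ, (t.1 ^ k) y = y + (k : F) • (t.1 y - y) := by
      intro k
      induction k with
      | zero => simp
      | succ k ih =>
        rw [pow_succ', LinearEquiv.mul_apply, ih, map_add, map_smul, hfx, Nat.cast_succ, add_smul, one_smul]
        abel
    have h := hk r
    rw [← Subgroup.coe_pow, htr] at h
    exact ((smul_eq_zero.1 (left_eq_add.1 h)).resolve_left hrF)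
  have hsup : fixS t.1 ⊔ mov t.1 = ⊤ :=
    Submodule.eq_top_of_disjoint _ _ (by rw [add_comm]; exact (rk_add t.1).ge) (disjoint_iff.2 hne)
  constructor
  · rw [Submodule.eq_bot_iff]
    rintro x ⟨hx, hperp⟩
    refine hQ.2 x fun y => ?_
    obtain ⟨a, ha, b, hb, rfl⟩ := Submodule.mem_sup.1 (hsup ▸ Submodule.mem_top : y ∈ _)
    show QuadraticMap.polar Q (a + b) x = 0
    rw [QuadraticMap.polar_add_left, show QuadraticMap.polar Q a x = 0 from hperp a ha, zero_add,
      QuadraticMap.polar_comm]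
    exact polar_fix_mov t.2 (mem_fixS.1 hx) hb
  · set U := mov t.1
    have hU : U ⊓ LinearMap.BilinForm.orthogonal (QuadraticMap.polarBilin Q) U = ⊥ := by
      rw [Submodule.eq_bot_iff]
      rintro x ⟨hx, hperp⟩
      refine hQ.2 x fun y => ?_
      obtain ⟨a, ha, b, hb, rfl⟩ := Submodule.mem_sup.1 (hsup ▸ Submodule.mem_top : y ∈ _)
      show QuadraticMap.polar Q (a + b) x = 0
      rw [QuadraticMap.polar_add_left, show QuadraticMap.polar Q b x = 0 from hperp b hb, add_zero]
      exact polar_fix_mov t.2 (mem_fixS.1 ha) hx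
    have hUt : ∀ x ∈ U, t.1 x ∈ U := fun x hx => by
      obtain ⟨y, rfl⟩ := mem_mov.1 hx
      exact mem_mov.2 ⟨t.1 y, by rw [map_sub]⟩
    let t₁ : oGroup (Q.comp U.subtype) := ⟨LinearEquiv.ofBijective (t.1.toLinearMap.restrict hUt) (by
      have hi : Function.Injective (t.1.toLinearMap.restrict hUt) := fun x y h =>
        Subtype.ext (t.1.injective (congrArg Subtype.val h))
      exact ⟨hi, LinearMap.injective_iff_surjective.1 hi⟩), fun x => t.2 x⟩
    have hpow : ∀ k (x : U), (((t₁ ^ k).1 x : U) : V) = (t ^ k).1 x := by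
      intro k
      induction k with
      | zero => intro x; rfl
      | succ k ih =>
        intro x
        rw [pow_succ', pow_succ']
        show t.1 (((t₁ ^ k).1 x : U) : V) = t.1 ((t ^ k).1 x)
        rw [ih]
    obtain ⟨m, hm, -⟩ := det_of_commute (nondeg_comp hU) hro
      (show t₁ ^ r = 1 from Subtype.ext (LinearEquiv.ext fun x => Subtype.ext (by rw [hpow, htr]; rfl)))
      (fun x hx => Subtype.ext (by
        have : (x : V) ∈ fixS t.1 ⊓ U := ⟨mem_fixS.2 (congrArg Subtype.val hx), x.2⟩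
        rw [hne, Submodule.mem_bot] at this
        exact this))
      LinearMap.id one_ne_zero (fun v => (one_mul _).symm) (fun v => rfl)
    exact ⟨m, by rw [← rk_add t.1, add_comm]; rw [show rk t.1 = 2 * m from hm]⟩

end Cfsg.Agent.Spinor
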