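import Cfsg.Agent.Lib.Spinor.Tools

/-!
Products of commuting reflections.
-/

set_option autoImplicit false

namespace Cfsg.Agent.Spinor

open Cfsg.Agent.FormsLib

variable {F V : Type*} [Field F] [Fintype F] [AddCommGroup V] [Module F V] [FiniteDimensional F V]
  {Q : QuadraticForm F V}

open scoped Classical in
/-- The isometry negating a set of pairwise orthogonal non-singular vectors. -/
theorem exists_neg_on (hQ : (QuadraticMap.polarBilin Q).Nondegenerate) (hgen : reflGroup Q = ⊤)
    {ι : Type*} (b : ι → V) (hb : ∀ i j, i ≠ j → QuadraticMap.polar Q (b i) (b j) = 0)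
    (s : Finset ι) (hs : ∀ i ∈ s, Q (b i) ≠ 0) :
    ∃ σ : oGroup Q, (∀ i ∈ s, σ.1 (b i) = -b i) ∧
      (∀ x, (∀ i ∈ s, QuadraticMap.polar Q x (b i) = 0) → σ.1 x = x) ∧
      dick σ = (-1) ^ s.card ∧ (spin σ = 1 ↔ IsSquare (∏ i ∈ s, Q (b i))) := by
  induction s using Finset.induction_on with
  | empty =>
    exact ⟨1, by simp, fun x _ => rfl, by simp [dick_one],
      by simp [show spin (1 : oGroup Q) = 1 from map_one (spinHom hQ hgen)]⟩
  | insert a s ha ih =>
    obtain ⟨σ, h1, h2, h3, h4⟩ := ih fun i hi => hs i (Finset.mem_insert_of_mem hi)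
    have hQa := hs a (Finset.mem_insert_self a s)
    refine ⟨σ * oRefl Q (b a) hQa, fun i hi => ?_, fun x hx => ?_, ?_, ?_⟩
    · show σ.1 (refl Q (b a) hQa (b i)) = -b i
      rcases Finset.mem_insert.1 hi with rfl | hi'
      · rw [refl_self, map_neg, h2 (b i) fun j hj => hb i j fun e => ha (e ▸ hj)]
      · rw [refl_fix Q hQa (hb i a fun e => ha (e ▸ hi')), h1 i hi']
    · show σ.1 (refl Q (b a) hQa x) = x
      rw [refl_fix Q hQa (hx a (Finset.mem_insert_self a s)),
        h2 x fun i hi => hx i (Finset.mem_insert_of_mem hi)]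
    · rw [dick_mul_oRefl hQ, h3, Finset.card_insert_of_notMem ha, pow_succ, mul_neg, mul_one]
    · rw [spin_mul hQ hgen, spin_oRefl hQ, Finset.prod_insert ha,
        isSquare_mul_iff' hQa
          (Finset.prod_ne_zero_iff.2 fun i hi => hs i (Finset.mem_insert_of_mem hi)), ← h4]
      split_ifs with hsq
      · simp [hsq]
      · rcases Int.units_eq_one_or (spin σ) with e | e <;> simp [e, hsq]

theorem reflGroup_eq_top_of_odd (hQ : (QuadraticMap.polarBilin Q).Nondegenerate) (h2 : (2 : F) ≠ 0) :
    reflGroup Q = ⊤ :=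
  reflGroup_eq_top hQ (Or.inl fun h => h2 (by
    have := FiniteField.cast_card_eq_zero F; rw [h] at this; exact_mod_cast this))

omit [FiniteDimensional F V] in
theorem card_ne_two (h2 : (2 : F) ≠ 0) : Fintype.card F ≠ 2 := fun h => h2 (by
  have := FiniteField.cast_card_eq_zero F; rw [h] at this; exact_mod_cast this)

end Cfsg.Agent.Spinor
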