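import Cfsg.Agent.Lib.Spinor.Rows
import Cfsg.Agent.Lib.Spinor.Trans

/-!
Elements of order two in orthogonal groups in characteristic two: conjugacy in the symplectic group
of the polar form against conjugacy in the orthogonal group, and the classes of the derived group.
-/

set_option autoImplicit false

namespace Cfsg.Agent.OrthChar2

open Cfsg.Agent.FormsLib Cfsg.Agent.Spinor

section Abstract

variable {F V : Type*} [Field F] [CharP F 2] [AddCommGroup V] [Module F V]

variable (F) in
/-- The additive map `y ↦ y² + y`. -/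
def wp : F →+ F := AddMonoidHom.mk' (fun s => s ^ 2 + s) fun s t => by rw [CharTwo.add_sq]; ring

theorem index_wp [Finite F] : (wp F).range.index = 2 := by
  have h2 : (2 : F) = 0 := CharTwo.two_eq_zero
  have hker : Nat.card (wp F).ker = 2 := by
    rw [Nat.card_eq_two_iff]
    have h1 : wp F 1 = 0 := by show (1 : F) ^ 2 + 1 = 0; linear_combination h2
    refine ⟨0, ⟨1, h1⟩, fun h => zero_ne_one (congrArg Subtype.val h), ?_⟩
    refine Set.eq_univ_of_forall fun x => ?_
    have hx : (x : F) ^ 2 + x = 0 := x.2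
    rcases mul_eq_zero.1 (show (x : F) * (x + 1) = 0 by linear_combination hx) with h | h
    · exact Or.inl (Subtype.ext h)
    · exact Or.inr (Subtype.ext (show (x : F) = 1 by linear_combination h - h2))
  have h1 := AddSubgroup.card_eq_card_quotient_mul_card_addSubgroup (wp F).ker
  rw [Nat.card_congr (QuotientAddGroup.quotientKerEquivRange (wp F)).toEquiv, hker] at h1
  have h3 := AddSubgroup.card_mul_index (wp F).range
  rw [h1] at h3
  exact Nat.eq_of_mul_eq_mul_left Nat.card_pos h3

open scoped Classical in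
/-- The non-trivial additive character trivial on the image of `y ↦ y² + y`. -/
noncomputable def chi (a : F) : ℤ := if a ∈ (wp F).range then 1 else -1

theorem chi_add [Finite F] (a b : F) : chi (a + b) = chi a * chi b := by
  classical
  have h := AddSubgroup.add_mem_iff_of_index_two (index_wp (F := F)) (a := a) (b := b)
  by_cases ha : a ∈ (wp F).range <;> by_cases hb : b ∈ (wp F).range <;>
    simp [chi, ha, hb, h]

theorem chi_zero : chi (0 : F) = 1 := if_pos (zero_mem _)

theorem chi_sq [Finite F] (a : F) : chi (a ^ 2) = chi a := by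
  classical
  have h : chi (a ^ 2 + a) = 1 := if_pos ⟨a, rfl⟩
  rw [chi_add] at h
  rcases Int.mul_eq_one_iff_eq_one_or_neg_one.1 h with ⟨h1, h2⟩ | ⟨h1, h2⟩ <;> rw [h1, h2]

theorem exists_chi_neg [Finite F] : ∃ a : F, chi a = -1 := by
  by_contra h
  push Not at h
  have : (wp F).range = ⊤ := by
    refine eq_top_iff.2 fun a _ => ?_
    by_contra ha
    exact h a (if_neg ha)
  have h2 := index_wp (F := F)
  rw [this, AddSubgroup.index_top] at h2
  omega

variable {Q : QuadraticForm F V}

/-- The character sum of a form with non-degenerate polar form does not vanish. -/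
theorem sum_chi_ne_zero [Finite F] [Fintype V] (hQ : (QuadraticMap.polarBilin Q).Nondegenerate) :
    ∑ x : V, chi (Q x) ≠ 0 := by
  classical
  intro h0
  have h2 : (2 : F) = 0 := CharTwo.two_eq_zero
  have hzero : ∀ z : V, z ≠ 0 → ∑ x : V, chi (QuadraticMap.polar Q x z) = 0 := by
    intro z hz
    obtain ⟨a, ha⟩ := exists_chi_neg (F := F)
    obtain ⟨y, hy⟩ : ∃ y, QuadraticMap.polar Q y z ≠ 0 := by
      by_contra h
      push Not at h
      exact hz (hQ.2 z h)
    set x₀ := (a / QuadraticMap.polar Q y z) • y with hx₀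
    have hx₀' : QuadraticMap.polar Q x₀ z = a := by
      rw [hx₀, QuadraticMap.polar_smul_left, smul_eq_mul, div_mul_cancel₀ _ hy]
    have e := Equiv.sum_comp (Equiv.addRight x₀) (fun x => chi (QuadraticMap.polar Q x z))
    simp only [Equiv.coe_addRight, QuadraticMap.polar_add_left, hx₀', chi_add, ha, mul_neg, mul_one,
      Finset.sum_neg_distrib] at e
    omega
  have key : (∑ x : V, chi (Q x)) * (∑ x : V, chi (Q x)) = (Fintype.card V : ℤ) := by
    rw [Finset.sum_mul_sum]
    calc ∑ x : V, ∑ y : V, chi (Q x) * chi (Q y)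
        = ∑ x : V, ∑ z : V, chi (Q z) * chi (QuadraticMap.polar Q x z) := by
          refine Finset.sum_congr rfl fun x _ => ?_
          rw [← Equiv.sum_comp (Equiv.addLeft x)]
          refine Finset.sum_congr rfl fun z _ => ?_
          simp only [Equiv.coe_addLeft]
          rw [← chi_add, ← chi_add]
          congr 1
          rw [quad_add]
          linear_combination (Q x) * h2
      _ = ∑ z : V, chi (Q z) * ∑ x : V, chi (QuadraticMap.polar Q x z) := by
          rw [Finset.sum_comm]
          exact Finset.sum_congr rfl fun z _ => (Finset.mul_sum _ _ _).symm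
      _ = (Fintype.card V : ℤ) := by
          rw [Finset.sum_eq_single (0 : V) (fun z _ hz => by rw [hzero z hz, mul_zero])
            fun h => absurd (Finset.mem_univ _) h]
          simp [chi_zero]
  rw [h0, mul_zero] at key
  exact Fintype.card_ne_zero (α := V) (by exact_mod_cast key.symm)

variable [Fintype F] [FiniteDimensional F V]

/-- If the forms `Q` and `Q ∘ g` have one polar form they differ by the square of a functional. -/
theorem exists_polar_sq (hQ : (QuadraticMap.polarBilin Q).Nondegenerate) (g : V ≃ₗ[F] V)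
    (hg : ∀ x y, QuadraticMap.polar Q (g x) (g y) = QuadraticMap.polar Q x y) :
    ∃ d, ∀ x, Q (g x) = Q x + QuadraticMap.polar Q x d ^ 2 := by
  have h2 : (2 : F) = 0 := CharTwo.two_eq_zero
  let r := (frobeniusEquiv F 2).symm
  let φ : V →ₗ[F] F :=
    { toFun := fun x => r (Q (g x) + Q x)
      map_add' := fun x y => by
        rw [← map_add r]
        congr 1
        rw [map_add g, quad_add, quad_add, hg]
        linear_combination (QuadraticMap.polar Q x y) * h2
      map_smul' := fun a x => by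
        have hr : r (a * a) = a := by
          rw [← pow_two]
          exact (frobeniusEquiv F 2).symm_apply_apply a
        simp only [map_smul, QuadraticMap.map_smul, smul_eq_mul, RingHom.id_apply, ← mul_add, map_mul] at hr ⊢
        rw [hr] }
  refine ⟨(LinearMap.BilinForm.toDual _ hQ).symm φ, fun x => ?_⟩
  have e := LinearMap.BilinForm.apply_toDual_symm_apply (hB := hQ) φ x
  rw [QuadraticMap.polarBilin_apply_apply, QuadraticMap.polar_comm] at e
  rw [e]
  show Q (g x) = Q x + (r (Q (g x) + Q x)) ^ 2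
  rw [show (r (Q (g x) + Q x)) ^ 2 = Q (g x) + Q x from (frobeniusEquiv F 2).apply_symm_apply _]
  linear_combination -(Q x) * h2

/-- Conjugate by a similitude-free map of the polar form implies conjugate in the orthogonal group. -/
theorem exists_conj_of_polar (hQ : (QuadraticMap.polarBilin Q).Nondegenerate)
    {t s : V ≃ₗ[F] V} (ht : t ∈ oGroup Q) (hs : s ∈ oGroup Q) (g : V ≃ₗ[F] V)
    (hg : ∀ x y, QuadraticMap.polar Q (g x) (g y) = QuadraticMap.polar Q x y)
    (hts : ∀ x, g (t x) = s (g x)) :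
    ∃ h : oGroup Q, ∀ x, h.1 (t x) = s (h.1 x) := by
  classical
  have : Finite V := Module.finite_of_finite F
  let _ : Fintype V := Fintype.ofFinite V
  have h2 : (2 : F) = 0 := CharTwo.two_eq_zero
  obtain ⟨d, hd⟩ := exists_polar_sq hQ g hg
  have hinv : ∀ x, QuadraticMap.polar Q (t x) d = QuadraticMap.polar Q x d := by
    intro x
    have e := hd (t x)
    rw [hts, hs, hd x, ht x] at e
    exact frobenius_inj F 2 (add_left_cancel e.symm)
  have htd : t d = d := by
    have h0 : ∀ y, QuadraticMap.polar Q y (t d - d) = 0 := by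
      intro y
      obtain ⟨x, rfl⟩ := t.surjective y
      rw [QuadraticMap.polar_sub_right, polar_of_mem ht, hinv, sub_self]
    exact sub_eq_zero.1 (hQ.2 _ h0)
  have hdd : QuadraticMap.polar Q d d = 0 := by rw [polar_self', h2, zero_mul]
  obtain ⟨c, hc⟩ : ∃ c : F, c ^ 2 * Q d + c = 1 := by
    have hmem : Q d ∈ (wp F).range := by
      by_contra hno
      have hS := sum_chi_ne_zero hQ
      have e1 : ∑ x : V, chi (Q (g x)) = ∑ x : V, chi (Q x) := Equiv.sum_comp g.toEquiv fun x => chi (Q x)
      have e2 : ∀ x : V, chi (Q (g x)) = chi (Q d) * chi (Q (x + d)) := by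
        intro x
        rw [hd, chi_add, chi_sq, ← chi_add, ← chi_add]
        congr 1
        rw [quad_add]
        linear_combination -(Q d) * h2
      simp only [e2, ← Finset.mul_sum] at e1
      rw [show ∑ x : V, chi (Q (x + d)) = ∑ x : V, chi (Q x) from
        Equiv.sum_comp (Equiv.addRight d) (fun x => chi (Q x)), show chi (Q d) = -1 from if_neg hno] at e1
      exact hS (by linarith)
    obtain ⟨y, hy⟩ := hmem
    have hy' : y ^ 2 + y = Q d := hy
    by_cases ha : Q d = 0
    · exact ⟨1, by rw [ha]; ring⟩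
    · refine ⟨y / Q d, ?_⟩
      field_simp
      linear_combination hy'
  let T : V →ₗ[F] V := LinearMap.id + (c • (QuadraticMap.polarBilin Q).flip d).smulRight d
  have hT : ∀ x, T x = x + (c * QuadraticMap.polar Q x d) • d := fun x => by simp [T]
  have hTd : ∀ x, QuadraticMap.polar Q (T x) d = QuadraticMap.polar Q x d := by
    intro x
    rw [hT, QuadraticMap.polar_add_left, QuadraticMap.polar_smul_left, hdd, smul_zero, add_zero]
  have hTT : ∀ x, T (T x) = x := by
    intro x
    rw [hT (T x), hTd, hT, add_assoc, ← add_smul,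
      show c * QuadraticMap.polar Q x d + c * QuadraticMap.polar Q x d = 0 from
        CharTwo.add_self_eq_zero _, zero_smul, add_zero]
  let Te : V ≃ₗ[F] V := LinearEquiv.ofLinearMap T T (LinearMap.ext hTT) (LinearMap.ext hTT)
  have hQT : ∀ x, Q (T x) = Q x + QuadraticMap.polar Q x d ^ 2 := by
    intro x
    rw [hT, quad_add, QuadraticMap.map_smul, QuadraticMap.polar_smul_right, smul_eq_mul, smul_eq_mul]
    linear_combination (QuadraticMap.polar Q x d ^ 2) * hc
  have hmem : Te.trans g ∈ oGroup Q := by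
    intro x
    show Q (g (T x)) = Q x
    rw [hd, hTd, hQT]
    linear_combination (QuadraticMap.polar Q x d ^ 2) * h2
  refine ⟨⟨_, hmem⟩, fun x => ?_⟩
  show g (T (t x)) = s (g (T x))
  rw [← hts]
  congr 1
  rw [hT, hT, hinv, map_add, map_smul, htd]

end Abstract

section Matrices

variable {F : Type*} [Field F] [Fintype F] [CharP F 2] {ι : Type} [Fintype ι] [DecidableEq ι]
  {Q : QuadraticForm F (ι → F)}

open Matrix

/-- Conjugacy in the orthogonal group is conjugacy by a map preserving the polar form. -/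
theorem isConj_iff_polar (hQ : (QuadraticMap.polarBilin Q).Nondegenerate)
    (t s : Cfsg.isometryGroup F ⇑Q) :
    IsConj t s ↔ ∃ g ∈ Cfsg.preserving (Units.coeHom (Matrix ι ι F))
      (fun u v => Q (u + v) - Q u - Q v), g * (t : GL ι F) * g⁻¹ = (s : GL ι F) := by
  constructor
  · intro h
    obtain ⟨g, hg⟩ := isConj_iff.1 h
    exact ⟨g.1, fun u v => polar_of_mem (oEquiv Q g).2 u v, congrArg Subtype.val hg⟩
  · rintro ⟨g, hg, hgs⟩
    have hgs' : g * t.1 = s.1 * g := by rw [← hgs]; group
    obtain ⟨h, hh⟩ := exists_conj_of_polar hQ (oEquiv Q t).2 (oEquiv Q s).2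
      ((Matrix.GeneralLinearGroup.toLin g).toLinearEquiv) (fun x y => hg x y) (fun x => by
        show g.1 *ᵥ (t.1.1 *ᵥ x) = s.1.1 *ᵥ (g.1 *ᵥ x)
        rw [mulVec_mulVec, mulVec_mulVec, ← Units.val_mul, hgs', Units.val_mul])
    refine isConj_iff.2 ⟨(oEquiv Q).symm h, mul_inv_eq_iff_eq_mul.2 ((oEquiv Q).injective ?_)⟩
    rw [map_mul, map_mul, MulEquiv.apply_symm_apply]
    exact Subtype.ext (LinearEquiv.ext hh)

omit [Fintype F] [CharP F 2] in
theorem mov_eq_range (t : Cfsg.isometryGroup F ⇑Q) :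
    mov (oEquiv Q t).1 = LinearMap.range (Matrix.toLin' ((t.1 : Matrix ι ι F) - 1)) := by
  rw [mov]
  congr 1
  refine LinearMap.ext fun x => ?_
  show (oEquiv Q t).1 x - x = Matrix.toLin' ((t.1 : Matrix ι ι F) - 1) x
  rw [Matrix.toLin'_apply, Matrix.sub_mulVec, Matrix.one_mulVec, oEquiv_apply]

omit [Fintype F] [CharP F 2] in
theorem rk_eq_rank (t : Cfsg.isometryGroup F ⇑Q) :
    rk (oEquiv Q t).1 = ((t.1 : Matrix ι ι F) - 1).rank := by
  rw [rk, mov_eq_range]
  rfl

variable (hQ : (QuadraticMap.polarBilin Q).Nondegenerate)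
  (hexc : Fintype.card F ≠ 2 ∨ Fintype.card ι ≠ 4)

include hQ hexc

theorem mem_omega_iff_dk {t : Cfsg.isometryGroup F ⇑Q} :
    t ∈ Cfsg.Omega F ⇑Q ↔ OrthRows.dk hQ hexc t = 1 := by
  rw [OrthRows.mem_omega hQ hexc, and_iff_left]
  exact if_pos CharTwo.two_eq_zero

theorem mem_omega_iff_even {t : Cfsg.isometryGroup F ⇑Q} :
    t ∈ Cfsg.Omega F ⇑Q ↔ Even ((t.1 : Matrix ι ι F) - 1).rank := by
  rw [mem_omega_iff_dk hQ hexc, ← rk_eq_rank,
    show OrthRows.dk hQ hexc t = (-1 : ℤˣ) ^ rk (oEquiv Q t).1 from rfl]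
  exact neg_one_pow_eq_one_iff_even (by decide)

/-- A class of `O` is a class of `Ω` once a reflection centralises a representative. -/
theorem exists_omega_conj {t s : Cfsg.isometryGroup F ⇑Q} (hconj : IsConj t s) {v : ι → F}
    (hv : Q v ≠ 0) (htv : (t.1 : Matrix ι ι F) *ᵥ v = v) :
    ∃ g ∈ Cfsg.Omega F ⇑Q, g * t * g⁻¹ = s := by
  obtain ⟨g, hg⟩ := isConj_iff.1 hconj
  rcases Int.units_eq_one_or (OrthRows.dk hQ hexc g) with e | e
  · exact ⟨g, (mem_omega_iff_dk hQ hexc).2 e, hg⟩
  refine ⟨g * OrthRows.rf Q v hv, (mem_omega_iff_dk hQ hexc).2 ?_, ?_⟩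
  · rw [map_mul, e, OrthRows.dk_rf]
    rfl
  have hc : OrthRows.rf Q v hv * t = t * OrthRows.rf Q v hv := by
    apply (oEquiv Q).injective
    rw [map_mul, map_mul, OrthRows.rf, MulEquiv.apply_symm_apply]
    have h := oRefl_conj hv (oEquiv Q t)
    rw [oRefl_congr _ hv (show (oEquiv Q t).1 v = v from htv)] at h
    exact (mul_inv_eq_iff_eq_mul.1 h).symm
  calc g * OrthRows.rf Q v hv * t * (g * OrthRows.rf Q v hv)⁻¹
      = g * (OrthRows.rf Q v hv * t * (OrthRows.rf Q v hv)⁻¹) * g⁻¹ := by group
    _ = s := by rw [hc, mul_inv_cancel_right, hg]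

omit hexc in
/-- For an element of order two the fixed space is non-singular outside one configuration. -/
theorem exists_fixed_nonsingular {m : ℕ} (hm : Fintype.card ι = 2 * m)
    (t : Cfsg.isometryGroup F ⇑Q) (ht : t * t = 1)
    (h : ¬ (((t.1 : Matrix ι ι F) - 1).rank = m ∧
      ∀ v, Q (v + (t.1 : Matrix ι ι F) *ᵥ v) = 0)) :
    ∃ v, Q v ≠ 0 ∧ (t.1 : Matrix ι ι F) *ᵥ v = v := by
  by_contra hno
  push Not at hno
  have hsing : ∀ x ∈ fixS (oEquiv Q t).1, Q x = 0 := by
    intro x hx
    by_contra hne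
    exact hno x hne (mem_fixS.1 hx)
  have hmovfix : mov (oEquiv Q t).1 ≤ fixS (oEquiv Q t).1 := by
    intro u hu
    obtain ⟨y, rfl⟩ := mem_mov.1 hu
    rw [mem_fixS, map_sub]
    have e : (oEquiv Q t).1 ((oEquiv Q t).1 y) = y := by
      show ((oEquiv Q t) * (oEquiv Q t)).1 y = y
      rw [← map_mul, ht, map_one]
      rfl
    rw [e]
    have h2 : (2 : F) = 0 := CharTwo.two_eq_zero
    funext i
    simp only [Pi.sub_apply]
    linear_combination (y i - (oEquiv Q t).1 y i) * h2
  have h1 := rk_add (oEquiv Q t).1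
  have h2 : rk (oEquiv Q t).1 ≤ Module.finrank F (fixS (oEquiv Q t).1) := Submodule.finrank_mono hmovfix
  have h3 : Module.finrank F (fixS (oEquiv Q t).1) ≤ Module.finrank F
      (LinearMap.BilinForm.orthogonal (QuadraticMap.polarBilin Q) (fixS (oEquiv Q t).1)) :=
    Submodule.finrank_mono fun x hx y hy => polar_of_singular hsing hy hx
  rw [finrank_orth hQ, Module.finrank_fintype_fun_eq_card, hm] at h3
  rw [Module.finrank_fintype_fun_eq_card, hm] at h1
  refine h ⟨by rw [← rk_eq_rank]; omega, fun v => hsing _ (hmovfix (mem_mov.2 ⟨v, ?_⟩))⟩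
  rw [oEquiv_apply, sub_eq_add_neg, add_comm]
  have h2 : (2 : F) = 0 := CharTwo.two_eq_zero
  funext i
  simp only [Pi.add_apply, Pi.neg_apply]
  linear_combination -(v i) * h2

/-- In the exceptional configuration the class is decided by the parity of an intersection. -/
theorem omega_conj_iff_even {m : ℕ} (hm : Fintype.card ι = 2 * m) {t s : Cfsg.isometryGroup F ⇑Q}
    (htO : t ∈ Cfsg.Omega F ⇑Q) (hconj : IsConj t s) (hrk : ((t.1 : Matrix ι ι F) - 1).rank = m)
    (hsing : ∀ v, Q (v + (t.1 : Matrix ι ι F) *ᵥ v) = 0) :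
    (∃ g ∈ Cfsg.Omega F ⇑Q, g * t * g⁻¹ = s) ↔
      Even (Module.finrank F ↥(LinearMap.range (Matrix.toLin' ((t.1 : Matrix ι ι F) - 1)) ⊓
        LinearMap.range (Matrix.toLin' ((s.1 : Matrix ι ι F) - 1)))) := by
  set U := mov (oEquiv Q t).1 with hUdef
  have hUs : ∀ x ∈ U, Q x = 0 := by
    intro x hx
    obtain ⟨y, rfl⟩ := mem_mov.1 hx
    rw [← hsing y]
    congr 1
    have h2 : (2 : F) = 0 := CharTwo.two_eq_zero
    funext i
    rw [oEquiv_apply]
    simp only [Pi.add_apply, Pi.sub_apply]
    linear_combination -(y i) * h2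
  have hUd : Module.finrank F U = m := by rw [← hrk, ← rk_eq_rank]; rfl
  have hdim : Module.finrank F (ι → F) = 2 * m := by rw [Module.finrank_fintype_fun_eq_card, hm]
  rw [← mov_eq_range, ← mov_eq_range]
  have hmev : Even m := hrk ▸ (mem_omega_iff_even hQ hexc).1 htO
  have key : ∀ g : Cfsg.isometryGroup F ⇑Q, g * t * g⁻¹ = s →
      (OrthRows.dk hQ hexc g = 1 ↔ Even (Module.finrank F ↥(U ⊓ mov (oEquiv Q s).1))) := by
    intro g hg
    have hW : U.map ((oEquiv Q g).1 : (ι → F) →ₗ[F] (ι → F)) = mov (oEquiv Q s).1 := by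
      rw [hUdef, mov, mov, ← LinearMap.range_comp, ← hg]
      set G := (oEquiv Q g).1 with hG
      set T := (oEquiv Q t).1 with hT
      have e : (oEquiv Q (g * t * g⁻¹)).1 = G * T * G⁻¹ := by
        rw [map_mul, map_mul, map_inv]; rfl
      rw [e, show ((G * T * G⁻¹ : (ι → F) ≃ₗ[F] (ι → F)) : (ι → F) →ₗ[F] (ι → F)) - LinearMap.id =
          ((G : (ι → F) →ₗ[F] (ι → F)).comp ((T : (ι → F) →ₗ[F] (ι → F)) - LinearMap.id)).comp
            (G.symm : (ι → F) →ₗ[F] (ι → F)) from LinearMap.ext fun x => by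
          simp [LinearEquiv.mul_apply, map_sub]]
      rw [LinearMap.range_comp_of_range_eq_top _ (LinearEquiv.range G.symm)]
    rw [show OrthRows.dk hQ hexc g = dick (oEquiv Q g) from rfl,
      dick_eq_one_iff_even hQ (OrthRows.gen_top hQ hexc) hdim (oEquiv Q g) hUs hUd hW,
      Nat.even_sub (hUd ▸ Submodule.finrank_mono inf_le_left)]
    simp [hmev]
  constructor
  · rintro ⟨g, hgO, hg⟩
    exact (key g hg).1 ((mem_omega_iff_dk hQ hexc).1 hgO)
  · intro hev
    obtain ⟨g, hg⟩ := isConj_iff.1 hconj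
    exact ⟨g, (mem_omega_iff_dk hQ hexc).2 ((key g hg).2 hev), hg⟩

end Matrices

end Cfsg.Agent.OrthChar2
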