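import Cfsg.Agent.Lib.Spinor.Basic

/-!
The orthogonal group is generated by reflections (except in dimension four over the field of two
elements), and the parity of `rk (g - 1)` is a homomorphism.
-/

set_option autoImplicit false

namespace Cfsg.Agent.Spinor

open Cfsg.Agent.FormsLib

variable {F V : Type*} [Field F] [AddCommGroup V] [Module F V] [FiniteDimensional F V]
  {Q : QuadraticForm F V}

/-- The subgroup generated by reflections. -/
noncomputable def reflGroup (Q : QuadraticForm F V) : Subgroup (oGroup Q) :=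
  Subgroup.closure {g | ∃ v, ∃ hv : Q v ≠ 0, g = oRefl Q v hv}

omit [FiniteDimensional F V] in
theorem oRefl_mem_reflGroup {v : V} (hv : Q v ≠ 0) : oRefl Q v hv ∈ reflGroup Q :=
  Subgroup.subset_closure ⟨v, hv, rfl⟩

omit [FiniteDimensional F V] in
theorem mem_reflGroup_of_mul {g : oGroup Q} {v : V} (hv : Q v ≠ 0)
    (h : g * oRefl Q v hv ∈ reflGroup Q) : g ∈ reflGroup Q := by
  have := mul_mem h (inv_mem (oRefl_mem_reflGroup hv))
  rwa [mul_inv_cancel_right] at this

omit [FiniteDimensional F V] in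
/-- The smallest prime power. -/
theorem exists_ne_zero_ne_one [Fintype F] (h : Fintype.card F ≠ 2) : ∃ a : F, a ≠ 0 ∧ a ≠ 1 := by
  by_contra hc
  push Not at hc
  refine h (le_antisymm ?_ Fintype.one_lt_card)
  calc Fintype.card F ≤ Fintype.card (Fin 2) := Fintype.card_le_of_surjective ![0, 1] fun a => by
        by_cases ha : a = 0
        · exact ⟨0, by simp [ha]⟩
        · exact ⟨1, by simp [hc a ha]⟩
    _ = 2 := Fintype.card_fin 2

variable (hQ : (QuadraticMap.polarBilin Q).Nondegenerate)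

omit [FiniteDimensional F V] in
/-- If `g - 1` has singular image, that image is not a line. -/
theorem not_rk_eq_one {g : V ≃ₗ[F] V} (hg : g ∈ oGroup Q) (hQ : (QuadraticMap.polarBilin Q).Nondegenerate)
    (hs : ∀ u ∈ mov g, Q u = 0) : rk g ≠ 1 := by
  intro h1
  obtain ⟨u, hu, -⟩ := finrank_eq_one_iff'.1 h1
  have hu' : ∀ x, ∃ c : F, g x - x = c • (u : V) := fun x => by
    obtain ⟨u₀, hu₀, hgen⟩ := finrank_eq_one_iff'.1 h1
    obtain ⟨c, hc⟩ := hgen ⟨g x - x, mem_mov.2 ⟨x, rfl⟩⟩
    obtain ⟨d, hd⟩ := hgen u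
    have hd0 : d ≠ 0 := fun h => hu (by rw [← hd, h, zero_smul])
    exact ⟨c * d⁻¹, by
      rw [← congrArg Subtype.val hd, Submodule.coe_smul, smul_smul, mul_assoc, inv_mul_cancel₀ hd0,
        mul_one]
      exact (congrArg Subtype.val hc).symm⟩
  have hz : ∀ x, g x = x ∨ QuadraticMap.polar Q x (u : V) = 0 := by
    intro x
    obtain ⟨c, hc⟩ := hu' x
    have h := hg x
    rw [eq_add_of_sub_eq' hc, quad_add, QuadraticMap.map_smul, hs _ u.2, smul_zero, add_zero,
      add_eq_left, QuadraticMap.polar_smul_right, smul_eq_mul, mul_eq_zero] at h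
    rcases h with h | h
    · exact Or.inl (by rw [eq_add_of_sub_eq' hc, h, zero_smul, add_zero])
    · exact Or.inr h
  obtain ⟨a, ha⟩ : ∃ a, g a ≠ a := by
    by_contra h
    push Not at h
    have : g = 1 := LinearEquiv.ext h
    rw [this, rk_one] at h1
    exact zero_ne_one h1
  obtain ⟨b, hb⟩ : ∃ b, QuadraticMap.polar Q b (u : V) ≠ 0 := by
    by_contra h
    push Not at h
    exact hu (Subtype.ext (hQ.2 _ h))
  have ha' := (hz a).resolve_left ha
  have hb' := (hz b).resolve_right hb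
  rcases hz (a + b) with h | h
  · rw [map_add, hb'] at h
    exact ha (add_right_cancel h)
  · rw [QuadraticMap.polar_add_left, ha', zero_add] at h
    exact hb h

include hQ

/-- An auxiliary vector for the totally singular case of the generation theorem. -/
theorem exists_aux [Fintype F] (hexc : Fintype.card F ≠ 2 ∨ Module.finrank F V ≠ 4) {g : oGroup Q}
    (hd : 2 ≤ rk g.1) (hs : ∀ u ∈ mov g.1, Q u = 0) :
    ∃ v, Q v ≠ 0 ∧ ∃ a ∈ mov g.1, ∃ b ∈ mov g.1, a ≠ 0 ∧ b ≠ 0 ∧ a ≠ b ∧
      QuadraticMap.polar Q (g.1 v) a = 0 ∧ QuadraticMap.polar Q (g.1 v) b = 0 := by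
  haveI : Nontrivial V := Module.nontrivial_of_finrank_pos (R := F) (by
    have := rk_add g.1; omega)
  -- two distinct non-zero vectors in a subspace with at least three elements
  have two : ∀ W : Submodule F V, 2 ≤ Module.finrank F W ∨
      (Fintype.card F ≠ 2 ∧ 1 ≤ Module.finrank F W) →
      ∃ a ∈ W, ∃ b ∈ W, a ≠ 0 ∧ b ≠ 0 ∧ a ≠ b := by
    intro W hW
    haveI : Nontrivial W := Module.nontrivial_of_finrank_pos (R := F) (by rcases hW with h | h <;> omega)
    obtain ⟨a, ha⟩ := exists_ne (0 : W)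
    rcases hW with h | ⟨h, -⟩
    · obtain ⟨b, hb⟩ : ∃ b : W, b ∉ Submodule.span F {a} := by
        by_contra hc
        push Not at hc
        have := finrank_span_singleton (K := F) ha
        rw [show Submodule.span F {a} = ⊤ from eq_top_iff.2 fun x _ => hc x, finrank_top] at this
        omega
      refine ⟨a, a.2, b, b.2, fun h => ha (Subtype.ext h), fun h => hb ?_, fun h => hb ?_⟩
      · rw [show b = 0 from Subtype.ext h]; exact zero_mem _
      · rw [← show a = b from Subtype.ext h]; exact Submodule.mem_span_singleton_self a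
    · obtain ⟨c, hc0, hc1⟩ := exists_ne_zero_ne_one h
      have ha' : (a : V) ≠ 0 := fun h => ha (Subtype.ext h)
      refine ⟨a, a.2, c • a, W.smul_mem c a.2, ha', smul_ne_zero hc0 ha', fun h => ?_⟩
      have h2 : (c - 1) • (a : V) = 0 := by rw [sub_smul, one_smul, ← h, sub_self]
      exact (smul_ne_zero (sub_ne_zero.2 hc1) ha') h2
  by_cases hq : Fintype.card F = 2 ∧ rk g.1 = 2
  · have hn := hexc.resolve_left (not_not.2 hq.1)
    have hle : mov g.1 ≤ LinearMap.BilinForm.orthogonal (QuadraticMap.polarBilin Q) (mov g.1) :=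
      fun x hx y hy => polar_of_singular hs hy hx
    have h1 := Submodule.finrank_mono hle
    rw [finrank_orth hQ] at h1
    obtain ⟨v, hv, hQv⟩ := exists_nonsingular hQ (W := fixS g.1) fun hle' => by
      have h2 := Submodule.finrank_mono hle'
      rw [← mov_eq_orth hQ g.2] at h2
      have := rk_add g.1
      rw [show Module.finrank F (mov g.1) = rk g.1 from rfl] at h1 h2
      omega
    obtain ⟨a, ha, b, hb, hab⟩ := two (mov g.1) (Or.inl (le_of_eq hq.2.symm))
    refine ⟨v, hQv, a, ha, b, hb, hab.1, hab.2.1, hab.2.2, ?_, ?_⟩ <;>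
      rw [mem_fixS.1 hv] <;> apply polar_fix_mov g.2 (mem_fixS.1 hv) <;> assumption
  obtain ⟨v, hv⟩ := exists_nonsingular' hQ
  have hdim : rk g.1 ≤ Module.finrank F
      ↥(mov g.1 ⊓ LinearMap.ker ((QuadraticMap.polarBilin Q).flip (g.1 v))) + 1 := by
    by_cases hc : mov g.1 ≤ LinearMap.ker ((QuadraticMap.polarBilin Q).flip (g.1 v))
    · rw [inf_eq_left.2 hc]; exact Nat.le_add_right _ _
    · exact (finrank_inf_ker hc).ge
  obtain ⟨a, ha, b, hb, hab⟩ :=
    two (mov g.1 ⊓ LinearMap.ker ((QuadraticMap.polarBilin Q).flip (g.1 v))) (by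
    by_cases h3 : 3 ≤ rk g.1
    · exact Or.inl (by omega)
    · exact Or.inr ⟨fun h => hq ⟨h, by omega⟩, by omega⟩)
  obtain ⟨ha, ha'⟩ := ha
  obtain ⟨hb, hb'⟩ := hb
  refine ⟨v, hv, a, ha, b, hb, hab.1, hab.2.1, hab.2.2, ?_, ?_⟩
  · rw [QuadraticMap.polar_comm]; exact mem_ker_polar.1 ha'
  · rw [QuadraticMap.polar_comm]; exact mem_ker_polar.1 hb'

/-- In `U + F v'`, with `U` totally singular, some reflection leaves a moved space that is not
totally singular. -/
theorem exists_good {g' : V ≃ₗ[F] V} (hg'o : g' ∈ oGroup Q) {U : Submodule F V}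
    (hs : ∀ u ∈ U, Q u = 0) {v' : V} (hQv' : Q v' ≠ 0)
    (hmov' : mov g' = U ⊔ Submodule.span F {v'}) (hrk' : rk g' = Module.finrank F U + 1)
    {a b : V} (ha : a ∈ U) (hb : b ∈ U) (ha0 : a ≠ 0) (hb0 : b ≠ 0) (hab : a ≠ b)
    (hpa : QuadraticMap.polar Q v' a = 0) (hpb : QuadraticMap.polar Q v' b = 0) :
    ∃ w, ∃ hQw : Q w ≠ 0, w ∈ mov g' ∧ ∃ z ∈ mov (g' * refl Q w hQw), Q z ≠ 0 := by
  by_contra hgood
  push Not at hgood
  have hv'm : v' ∈ mov g' := hmov' ▸ Submodule.mem_sup_right (Submodule.mem_span_singleton_self v')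
  have hUle : U ≤ mov g' := hmov' ▸ le_sup_left
  have hQw : ∀ u ∈ U, QuadraticMap.polar Q v' u = 0 → Q (v' + u) = Q v' := fun u hu hp => by
    rw [quad_add, hs u hu, hp, add_zero, add_zero]
  -- the totally singular hyperplanes obtained from `v' + u`
  let H : ∀ u, u ∈ U → QuadraticMap.polar Q v' u = 0 → Submodule F V := fun u hu hp =>
    mov (g' * refl Q (v' + u) (by rw [hQw u hu hp]; exact hQv'))
  have hwm : ∀ u ∈ U, v' + u ∈ mov g' := fun u hu => (mov g').add_mem hv'm (hUle hu)
  have hHs : ∀ u hu hp, ∀ x ∈ H u hu hp, Q x = 0 := fun u hu hp x hx =>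
    hgood (v' + u) _ (hwm u hu) x hx
  have hHle : ∀ u hu hp, H u hu hp ≤ U ⊔ Submodule.span F {v'} := fun u hu hp =>
    hmov' ▸ mov_mul_refl_le hQ hg'o _ (hwm u hu)
  have hHd : ∀ u hu hp, Module.finrank F (H u hu hp) = Module.finrank F U := fun u hu hp => by
    have := rk_mul_refl_of_mem hg'o (v := v' + u) (by rw [hQw u hu hp]; exact hQv') (hwm u hu)
    show rk _ = _
    omega
  have hinj : ∀ u hu hp u₂ hu₂ hp₂, H u hu hp = H u₂ hu₂ hp₂ → u = u₂ := by
    intro u hu hp u₂ hu₂ hp₂ e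
    have hw : Q (v' + u) ≠ 0 := by rw [hQw u hu hp]; exact hQv'
    have hw₂ : Q (v' + u₂) ≠ 0 := by rw [hQw u₂ hu₂ hp₂]; exact hQv'
    obtain ⟨y, hy⟩ := mem_mov.1 (hwm u hu)
    have h2 : g' y ∈ fixS (g' * refl Q (v' + u₂) hw₂) := by
      have h3 : g' y ∈ fixS (g' * refl Q (v' + u) hw) := by
        rw [mem_fixS, LinearEquiv.mul_apply, refl_apply_moved hg'o hw hy]
      rw [mem_fixS] at h3 ⊢
      have hr := refl_apply_moved hg'o hw hy
      -- both fixed spaces are the orthogonal of the same image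
      have e' : ∀ g₀ ∈ oGroup Q, ∀ z, (∀ q ∈ mov g₀, QuadraticMap.polar Q z q = 0) → g₀ z = z := by
        intro g₀ hg₀ z hz
        refine sub_eq_zero.1 (hQ.1 _ fun q => ?_)
        show QuadraticMap.polar Q (g₀ z - z) q = 0
        obtain ⟨q', rfl⟩ : ∃ q', g₀ q' = q := ⟨g₀.symm q, g₀.apply_symm_apply q⟩
        have h4 := hz _ (mem_mov.2 ⟨q', rfl⟩)
        rw [QuadraticMap.polar_sub_right] at h4
        rw [QuadraticMap.polar_sub_left, polar_of_mem hg₀]
        linear_combination -h4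
      refine e' _ (mul_mem hg'o (refl_mem Q hw₂)) _ fun q hq => ?_
      exact polar_fix_mov (mul_mem hg'o (refl_mem Q hw)) h3 (e.symm ▸ hq : q ∈ H u hu hp)
    rw [mem_fixS, LinearEquiv.mul_apply] at h2
    have h5 := g'.injective h2
    rw [refl_apply] at h5
    set c := (Q (v' + u₂))⁻¹ * QuadraticMap.polar Q (g' y) (v' + u₂)
    replace h5 : v' + u = c • (v' + u₂) := by
      rw [← hy]
      linear_combination (norm := module) h5
    have h6 : (1 - c) • v' ∈ U := by
      have h7 : (1 - c) • v' = c • u₂ - u := by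
        have : v' + u = c • v' + c • u₂ := by rw [h5, smul_add]
        linear_combination (norm := module) this
      rw [h7]
      exact (U).sub_mem ((U).smul_mem c hu₂) hu
    by_cases hc : c = 1
    · rw [hc, one_smul] at h5; exact add_left_cancel h5
    · exact absurd (hs _ ((Submodule.smul_mem_iff _ (sub_ne_zero.2 (Ne.symm hc))).1 h6)) hQv'
  -- at most one of them differs from `mov g`
  have huniq : ∀ u hu hp u₂ hu₂ hp₂, H u hu hp ≠ U → H u₂ hu₂ hp₂ ≠ U → u = u₂ := by
    intro u hu hp u₂ hu₂ hp₂ hne hne₂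
    have hnle : ∀ u hu hp, H u hu hp ≠ U → ¬ H u hu hp ≤ U := fun u hu hp hne h =>
      hne (Submodule.eq_of_le_of_finrank_eq h (hHd u hu hp))
    refine hinj u hu hp u₂ hu₂ hp₂ ?_
    have hker : ∀ q ∈ U, QuadraticMap.polar Q v' q = 0 → q ∈ H u hu hp := by
      have hnv : ¬ U ≤ LinearMap.ker ((QuadraticMap.polarBilin Q).flip v') := by
        intro hall
        obtain ⟨x, hx, hxU⟩ := SetLike.not_le_iff_exists.1 (hnle u hu hp hne)
        obtain ⟨q, hq, w, hw, rfl⟩ := Submodule.mem_sup.1 (hHle u hu hp hx)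
        obtain ⟨c, rfl⟩ := Submodule.mem_span_singleton.1 hw
        have h0 := hHs u hu hp _ hx
        rw [quad_add, QuadraticMap.map_smul, hs q hq, QuadraticMap.polar_smul_right,
          mem_ker_polar.1 (hall hq)] at h0
        have hc : c = 0 := by simpa [smul_eq_mul, hQv'] using h0
        exact hxU (by simpa [hc] using hq)
      have h8 := finrank_inf_ker hnv
      have h9 : H u hu hp ⊓ U ≤ U ⊓ LinearMap.ker ((QuadraticMap.polarBilin Q).flip v') := by
        rintro q ⟨hqH, hqU⟩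
        refine ⟨hqU, mem_ker_polar.2 ?_⟩
        obtain ⟨x, hx, hxU⟩ := SetLike.not_le_iff_exists.1 (hnle u hu hp hne)
        obtain ⟨q', hq', w, hw, rfl⟩ := Submodule.mem_sup.1 (hHle u hu hp hx)
        obtain ⟨c, rfl⟩ := Submodule.mem_span_singleton.1 hw
        have hc : c ≠ 0 := fun hc => hxU (by simpa [hc] using hq')
        have h0 := polar_of_singular (hHs u hu hp) hqH hx
        rw [QuadraticMap.polar_add_right, polar_of_singular hs hqU hq', zero_add,
          QuadraticMap.polar_smul_right] at h0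
        exact (mul_eq_zero.1 h0).resolve_left hc
      have h10 := Submodule.finrank_sup_add_finrank_inf_eq (H u hu hp) (U)
      have h11 := Submodule.finrank_mono (sup_le (hHle u hu hp) le_sup_left :
        H u hu hp ⊔ U ≤ U ⊔ Submodule.span F {v'})
      rw [← hmov', show Module.finrank F (mov g') = rk g' from rfl] at h11
      rw [hHd u hu hp] at h10
      have h12 := Submodule.eq_of_le_of_finrank_le h9 (by omega)
      intro q hq hqv
      have : q ∈ U ⊓ LinearMap.ker ((QuadraticMap.polarBilin Q).flip v') :=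
        ⟨hq, mem_ker_polar.2 (by rw [QuadraticMap.polar_comm]; exact hqv)⟩
      rw [← h12] at this
      exact this.1
    have := (singular_hyperplane_le hQv' hs (hHs u hu hp) (hHs u₂ hu₂ hp₂) (hHle u hu hp)
      (hHle u₂ hu₂ hp₂) (hnle u hu hp hne) hker).resolve_left (hnle u₂ hu₂ hp₂ hne₂)
    exact (Submodule.eq_of_le_of_finrank_eq this ((hHd u₂ hu₂ hp₂).trans (hHd u hu hp).symm)).symm
  have h0 : QuadraticMap.polar Q v' 0 = 0 := by simp
  by_cases e0 : H 0 (zero_mem _) h0 = U
  · exact hab (huniq a ha hpa b hb hpb (fun e => ha0 (hinj a ha hpa 0 (zero_mem _) h0 (e.trans e0.symm)))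
      fun e => hb0 (hinj b hb hpb 0 (zero_mem _) h0 (e.trans e0.symm)))
  · by_cases ea : H a ha hpa = U
    · exact hb0 (huniq b hb hpb 0 (zero_mem _) h0
        (fun e => hab (hinj b hb hpb a ha hpa (e.trans ea.symm)).symm) e0)
    · exact ha0 (huniq a ha hpa 0 (zero_mem _) h0 ea e0)

/-- **Reflections generate the orthogonal group.** -/
theorem mem_reflGroup [Fintype F] (hexc : Fintype.card F ≠ 2 ∨ Module.finrank F V ≠ 4)
    (g : oGroup Q) : g ∈ reflGroup Q := by
  induction hd : rk g.1 using Nat.strong_induction_on generalizing g with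
  | _ d ih =>
  subst hd
  by_cases h1 : rk g.1 = 0
  · rw [show g = 1 from Subtype.ext (eq_one_of_rk_eq_zero h1)]
    exact one_mem _
  -- a moved non-singular vector lowers the rank
  have step : ∀ g' : oGroup Q, rk g'.1 ≤ rk g.1 → (∃ z ∈ mov g'.1, Q z ≠ 0) → g' ∈ reflGroup Q := by
    rintro g' hle ⟨z, hz, hQz⟩
    have := rk_mul_refl_of_mem g'.2 hQz hz
    exact mem_reflGroup_of_mul hQz (ih (rk (g' * oRefl Q z hQz).1) (by
      show rk (g'.1 * refl Q z hQz) < _
      omega) _ rfl)
  by_cases hs : ∃ z ∈ mov g.1, Q z ≠ 0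
  · exact step g le_rfl hs
  push Not at hs
  obtain ⟨v, hv, a, ha, b, hb, ha0, hb0, hab, hpa, hpb⟩ := exists_aux hQ hexc (g := g) (by
    have := not_rk_eq_one g.2 hQ hs; omega) hs
  have hvm : v ∉ mov g.1 := fun h => hv (hs v h)
  have hrk' := rk_mul_refl_of_not_mem hQ g.2 hv hvm
  set g' : V ≃ₗ[F] V := g.1 * refl Q v hv with hg'
  have hg'o : g' ∈ oGroup Q := mul_mem g.2 (refl_mem Q hv)
  set v' := g.1 v with hv'
  have hQv' : Q v' ≠ 0 := by rw [hv', g.2]; exact hv
  have hfix : ∀ x, g' x = x → g.1 x = x ∧ QuadraticMap.polar Q x v = 0 := by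
    intro x hx
    have h2 : fixS g' ≤ LinearMap.ker ((QuadraticMap.polarBilin Q).flip v) := by
      intro z hz
      by_contra hne
      have h3 := finrank_inf_ker fun h => hne (h hz)
      rw [fix_inf_ker hv] at h3
      have h4 : ¬ fixS g.1 ≤ LinearMap.ker ((QuadraticMap.polarBilin Q).flip v) := fun h =>
        hvm (mem_mov_of_forall hQ g.2 fun x hx => mem_ker_polar.1 (h (mem_fixS.2 hx)))
      have h5 := finrank_inf_ker h4
      have := rk_add g.1
      have := rk_add g'
      omega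
    have hxm := h2 (mem_fixS.2 hx)
    have : x ∈ fixS g' ⊓ LinearMap.ker ((QuadraticMap.polarBilin Q).flip v) := ⟨mem_fixS.2 hx, hxm⟩
    rw [hg', fix_inf_ker hv] at this
    exact ⟨mem_fixS.1 this.1, mem_ker_polar.1 this.2⟩
  have hUle : mov g.1 ≤ mov g' := fun u hu =>
    mem_mov_of_forall hQ hg'o fun x hx => polar_fix_mov g.2 (hfix x hx).1 hu
  have hv'm : v' ∈ mov g' := mem_mov_of_forall hQ hg'o fun x hx => by
    rw [← (hfix x hx).1, hv', polar_of_mem g.2]
    exact (hfix x hx).2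
  have hmov' : mov g' = mov g.1 ⊔ Submodule.span F {v'} := by
    refine (Submodule.eq_of_le_of_finrank_le (sup_le hUle (by simpa using hv'm)) ?_).symm
    have hlt : mov g.1 < mov g.1 ⊔ Submodule.span F {v'} :=
      lt_of_le_of_ne le_sup_left fun e => hQv' (hs _ (e ▸ Submodule.mem_sup_right
        (Submodule.mem_span_singleton_self v')))
    have := Submodule.finrank_lt_finrank_of_lt hlt
    show rk g' ≤ _
    rw [show Module.finrank F (mov g.1) = rk g.1 from rfl] at this
    omega
  by_cases hgood : ∃ w, ∃ hQw : Q w ≠ 0, w ∈ mov g' ∧ ∃ z ∈ mov (g' * refl Q w hQw), Q z ≠ 0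
  · obtain ⟨w, hQw, hwm, hz⟩ := hgood
    have := rk_mul_refl_of_mem hg'o hQw hwm
    have h := step ((g * oRefl Q v hv) * oRefl Q w hQw) (by
      show rk (g' * refl Q w hQw) ≤ _
      omega) hz
    have h2 : g * oRefl Q v hv ∈ reflGroup Q := mem_reflGroup_of_mul hQw h
    exact mem_reflGroup_of_mul hv h2
  exact absurd (exists_good hQ hg'o hs hQv' hmov' (by
    show rk g' = rk g.1 + 1
    exact hrk') ha hb ha0 hb0 hab hpa hpb) hgood

theorem reflGroup_eq_top [Fintype F] (hexc : Fintype.card F ≠ 2 ∨ Module.finrank F V ≠ 4) :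
    reflGroup Q = ⊤ := eq_top_iff.2 fun g _ => mem_reflGroup hQ hexc g

omit hQ

/-- The parity of the rank of `g - 1`. -/
noncomputable def dick (g : oGroup Q) : ℤˣ := (-1) ^ rk g.1

theorem dick_one : dick (1 : oGroup Q) = 1 := by simp [dick, rk_one]

include hQ

theorem dick_mul_oRefl (g : oGroup Q) {v : V} (hv : Q v ≠ 0) :
    dick (g * oRefl Q v hv) = - dick g := by
  by_cases hm : v ∈ mov g.1
  · have h := rk_mul_refl_of_mem g.2 hv hm
    show ((-1 : ℤˣ)) ^ rk (g.1 * refl Q v hv) = -((-1) ^ rk g.1)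
    rw [← h, pow_succ]
    simp
  · show ((-1 : ℤˣ)) ^ rk (g.1 * refl Q v hv) = -((-1) ^ rk g.1)
    rw [rk_mul_refl_of_not_mem hQ g.2 hv hm, pow_succ]
    simp

theorem dick_oRefl {v : V} (hv : Q v ≠ 0) : dick (oRefl Q v hv) = -1 := by
  have := dick_mul_oRefl hQ 1 hv
  rwa [one_mul, dick_one] at this

theorem dick_mul (hgen : reflGroup Q = ⊤) (g h : oGroup Q) : dick (g * h) = dick g * dick h := by
  revert g
  induction (hgen ▸ Subgroup.mem_top h : h ∈ reflGroup Q) using Subgroup.closure_induction with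
  | mem x hx =>
    obtain ⟨v, hv, rfl⟩ := hx
    intro g
    rw [dick_mul_oRefl hQ, dick_oRefl hQ, mul_neg, mul_one]
  | one => intro g; rw [mul_one, dick_one, mul_one]
  | mul a b _ _ ha hb => intro g; rw [← mul_assoc, hb, ha, hb a, mul_assoc]
  | inv a _ ha =>
    intro g
    have h1 := ha (g * a⁻¹)
    have h2 := ha a⁻¹
    rw [inv_mul_cancel_right] at h1
    rw [inv_mul_cancel, dick_one] at h2
    rw [h1, mul_assoc, show dick a * dick a⁻¹ = 1 by rw [mul_comm, ← h2], mul_one]

/-- The parity homomorphism. -/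
noncomputable def dickHom (hgen : reflGroup Q = ⊤) : oGroup Q →* ℤˣ :=
  MonoidHom.mk' dick (dick_mul hQ hgen)

end Cfsg.Agent.Spinor
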