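import Cfsg.Agent.Lib.Forms.OddInvol

/-!
Orthogonal groups of quadratic forms with non-degenerate polar form: the fixed space of an isometry,
the parity of its codimension, and generation by reflections.
-/

set_option autoImplicit false

namespace Cfsg.Agent.Spinor

open Cfsg.Agent.FormsLib

variable {F V : Type*} [Field F] [AddCommGroup V] [Module F V] [FiniteDimensional F V]
  {Q : QuadraticForm F V}

/-- The fixed space of a linear automorphism. -/
def fixS (g : V ≃ₗ[F] V) : Submodule F V := LinearMap.ker ((g : V →ₗ[F] V) - LinearMap.id)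

/-- The image of `g - 1`. -/
def mov (g : V ≃ₗ[F] V) : Submodule F V := LinearMap.range ((g : V →ₗ[F] V) - LinearMap.id)

/-- The rank of `g - 1`. -/
noncomputable def rk (g : V ≃ₗ[F] V) : ℕ := Module.finrank F (mov g)

omit [FiniteDimensional F V] in
theorem mem_fixS {g : V ≃ₗ[F] V} {x : V} : x ∈ fixS g ↔ g x = x := by simp [fixS, sub_eq_zero]

omit [FiniteDimensional F V] in
theorem mem_mov {g : V ≃ₗ[F] V} {v : V} : v ∈ mov g ↔ ∃ y, g y - y = v := by simp [mov]

theorem rk_add (g : V ≃ₗ[F] V) : rk g + Module.finrank F (fixS g) = Module.finrank F V :=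
  LinearMap.finrank_range_add_finrank_ker _

omit [FiniteDimensional F V] in
theorem rk_one : rk (1 : V ≃ₗ[F] V) = 0 := by
  have h : mov (1 : V ≃ₗ[F] V) = ⊥ := by
    rw [Submodule.eq_bot_iff]
    intro v hv
    obtain ⟨y, rfl⟩ := mem_mov.1 hv
    simp
  rw [rk, h, finrank_bot]

theorem eq_one_of_rk_eq_zero {g : V ≃ₗ[F] V} (h : rk g = 0) : g = 1 := by
  have hb : mov g = ⊥ := Submodule.finrank_eq_zero.1 h
  refine LinearEquiv.ext fun x => sub_eq_zero.1 ?_
  have : g x - x ∈ mov g := mem_mov.2 ⟨x, rfl⟩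
  rw [hb, Submodule.mem_bot] at this
  exact this

omit [FiniteDimensional F V] in
theorem polar_fix_mov {g : V ≃ₗ[F] V} (hg : g ∈ oGroup Q) {x u : V} (hx : g x = x)
    (hu : u ∈ mov g) : QuadraticMap.polar Q x u = 0 := by
  obtain ⟨y, rfl⟩ := mem_mov.1 hu
  rw [QuadraticMap.polar_sub_right]
  nth_rewrite 1 [← hx]
  rw [polar_of_mem hg, sub_self]

variable (hQ : (QuadraticMap.polarBilin Q).Nondegenerate)

include hQ

theorem finrank_orth (W : Submodule F V) :
    Module.finrank F (LinearMap.BilinForm.orthogonal (QuadraticMap.polarBilin Q) W) =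
      Module.finrank F V - Module.finrank F W :=
  LinearMap.BilinForm.finrank_orthogonal hQ W

theorem mov_eq_orth {g : V ≃ₗ[F] V} (hg : g ∈ oGroup Q) :
    mov g = LinearMap.BilinForm.orthogonal (QuadraticMap.polarBilin Q) (fixS g) := by
  refine Submodule.eq_of_le_of_finrank_eq (fun u hu => ?_) ?_
  · exact fun x hx => polar_fix_mov hg (mem_fixS.1 hx) hu
  · have := rk_add g
    rw [finrank_orth hQ]
    show rk g = _
    omega

theorem mem_mov_of_forall {g : V ≃ₗ[F] V} (hg : g ∈ oGroup Q) {u : V}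
    (h : ∀ x, g x = x → QuadraticMap.polar Q x u = 0) : u ∈ mov g := by
  rw [mov_eq_orth hQ hg]
  exact fun x hx => h x (mem_fixS.1 hx)

omit hQ

omit [FiniteDimensional F V] in
/-- The functional `x ↦ f(x, v)`. -/
theorem mem_ker_polar {v x : V} :
    x ∈ LinearMap.ker ((QuadraticMap.polarBilin Q).flip v) ↔ QuadraticMap.polar Q x v = 0 := by
  simp

/-- A hyperplane cuts a subspace it does not contain in codimension one. -/
theorem finrank_inf_ker {W : Submodule F V} {φ : V →ₗ[F] F} (h : ¬ W ≤ LinearMap.ker φ) :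
    Module.finrank F ↥(W ⊓ LinearMap.ker φ) + 1 = Module.finrank F W := by
  have h1 := LinearMap.finrank_range_add_finrank_ker (φ.domRestrict W)
  have h2 : LinearMap.range (φ.domRestrict W) = ⊤ := by
    obtain ⟨w, hw, hw0⟩ := SetLike.not_le_iff_exists.1 h
    rw [LinearMap.mem_ker] at hw0
    refine eq_top_iff.2 fun c _ => ⟨(c / φ w) • ⟨w, hw⟩, ?_⟩
    simp [hw0]
  rw [h2, finrank_top, Module.finrank_self] at h1
  have h3 : LinearMap.ker (φ.domRestrict W) = Submodule.comap W.subtype (W ⊓ LinearMap.ker φ) := by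
    ext x
    simp
  rw [h3, (Submodule.comapSubtypeEquivOfLe inf_le_left).finrank_eq] at h1
  omega

omit [FiniteDimensional F V] in
theorem fix_inf_ker {g : V ≃ₗ[F] V} {v : V} (hv : Q v ≠ 0) :
    fixS (g * refl Q v hv) ⊓ LinearMap.ker ((QuadraticMap.polarBilin Q).flip v) =
      fixS g ⊓ LinearMap.ker ((QuadraticMap.polarBilin Q).flip v) := by
  ext x
  simp only [Submodule.mem_inf, mem_fixS, mem_ker_polar]
  refine and_congr_left fun hx => ?_
  rw [LinearEquiv.mul_apply, refl_fix Q hv hx]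

omit [FiniteDimensional F V] in
/-- If `v = g y - y` then the reflection in `v` maps `g y` to `y`. -/
theorem refl_apply_moved {g : V ≃ₗ[F] V} (hg : g ∈ oGroup Q) {v y : V} (hv : Q v ≠ 0)
    (h : g y - y = v) : refl Q v hv (g y) = y := by
  subst h
  exact refl_sub_apply Q (hg y) hv

omit [FiniteDimensional F V] in
theorem fixS_le_of_mem {g : V ≃ₗ[F] V} (hg : g ∈ oGroup Q) {v : V} (hv : Q v ≠ 0) (hm : v ∈ mov g) :
    fixS g ≤ fixS (g * refl Q v hv) := fun x hx => by
  rw [mem_fixS] at hx ⊢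
  rw [LinearEquiv.mul_apply, refl_fix Q hv (polar_fix_mov hg hx hm), hx]

theorem rk_mul_refl_of_mem {g : V ≃ₗ[F] V} (hg : g ∈ oGroup Q) {v : V} (hv : Q v ≠ 0)
    (hm : v ∈ mov g) : rk (g * refl Q v hv) + 1 = rk g := by
  obtain ⟨y, hy⟩ := mem_mov.1 hm
  have hgy : g y ∈ fixS (g * refl Q v hv) := by
    rw [mem_fixS, LinearEquiv.mul_apply, refl_apply_moved hg hv hy]
  have hp : QuadraticMap.polar Q (g y) v ≠ 0 := by
    intro h0
    have h1 := refl_fix Q hv h0
    rw [refl_apply_moved hg hv hy] at h1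
    exact hv (by rw [← hy, ← h1, sub_self, QuadraticMap.map_zero])
  have h1 := finrank_inf_ker (W := fixS (g * refl Q v hv))
    (φ := (QuadraticMap.polarBilin Q).flip v) fun h => hp (mem_ker_polar.1 (h hgy))
  rw [fix_inf_ker hv, inf_eq_left.2 fun x hx =>
    mem_ker_polar.2 (polar_fix_mov hg (mem_fixS.1 hx) hm)] at h1
  have := rk_add g
  have := rk_add (g * refl Q v hv)
  omega

include hQ

theorem rk_mul_refl_of_not_mem {g : V ≃ₗ[F] V} (hg : g ∈ oGroup Q) {v : V} (hv : Q v ≠ 0)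
    (hm : v ∉ mov g) : rk (g * refl Q v hv) = rk g + 1 := by
  have h0 : ¬ fixS g ≤ LinearMap.ker ((QuadraticMap.polarBilin Q).flip v) := fun h =>
    hm (mem_mov_of_forall hQ hg fun x hx => mem_ker_polar.1 (h (mem_fixS.2 hx)))
  have h1 := finrank_inf_ker h0
  have h2 : fixS (g * refl Q v hv) ≤ LinearMap.ker ((QuadraticMap.polarBilin Q).flip v) := by
    intro z hz
    rw [mem_fixS, LinearEquiv.mul_apply, refl_apply, map_sub, map_smul, sub_eq_iff_eq_add'] at hz
    rw [mem_ker_polar]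
    by_contra hne
    have hc : (Q v)⁻¹ * QuadraticMap.polar Q z v ≠ 0 := mul_ne_zero (inv_ne_zero hv) hne
    have hgv : g v ∈ mov g := by
      have h3 : g z - z ∈ mov g := mem_mov.2 ⟨z, rfl⟩
      rw [hz, add_sub_cancel_right] at h3
      exact (Submodule.smul_mem_iff _ hc).1 h3
    refine hm ?_
    have := Submodule.sub_mem _ hgv (mem_mov.2 ⟨v, rfl⟩ : g v - v ∈ mov g)
    rwa [sub_sub_cancel] at this
  rw [← fix_inf_ker hv, inf_eq_left.2 h2] at h1
  have := rk_add g
  have := rk_add (g * refl Q v hv)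
  omega

theorem mov_mul_refl_le {g : V ≃ₗ[F] V} (hg : g ∈ oGroup Q) {v : V} (hv : Q v ≠ 0)
    (hm : v ∈ mov g) : mov (g * refl Q v hv) ≤ mov g := fun u hu =>
  mem_mov_of_forall hQ hg fun x hx =>
    polar_fix_mov (mul_mem hg (refl_mem Q hv)) (mem_fixS.1 (fixS_le_of_mem hg hv hm (mem_fixS.2 hx))) hu

theorem exists_nonsingular {W : Submodule F V}
    (hW : ¬ W ≤ LinearMap.BilinForm.orthogonal (QuadraticMap.polarBilin Q) W) :
    ∃ v ∈ W, Q v ≠ 0 := by
  by_contra h
  push Not at h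
  refine hW fun x hx y hy => ?_
  show QuadraticMap.polar Q y x = 0
  simp [QuadraticMap.polar, h x hx, h y hy, h _ (W.add_mem hy hx)]

theorem exists_nonsingular' [Nontrivial V] : ∃ v : V, Q v ≠ 0 := by
  obtain ⟨x, hx⟩ := exists_ne (0 : V)
  obtain ⟨v, -, hv⟩ := exists_nonsingular hQ (W := ⊤) fun h => hx (hQ.1 x fun y => by
    show QuadraticMap.polar Q x y = 0
    exact h (Submodule.mem_top : y ∈ _) x Submodule.mem_top)
  exact ⟨v, hv⟩

omit hQ

omit [FiniteDimensional F V] in
theorem polar_of_singular {W : Submodule F V} (hW : ∀ x ∈ W, Q x = 0) {x y : V} (hx : x ∈ W)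
    (hy : y ∈ W) : QuadraticMap.polar Q x y = 0 := by
  simp [QuadraticMap.polar, hW x hx, hW y hy, hW _ (W.add_mem hx hy)]

omit [FiniteDimensional F V] in
/-- In `U + F v`, `U` totally singular and `v` not, a totally singular hyperplane other than `U`
is unique. -/
theorem singular_hyperplane_le {U H H' : Submodule F V} {v : V} (hv : Q v ≠ 0)
    (hU : ∀ x ∈ U, Q x = 0) (hH : ∀ x ∈ H, Q x = 0) (hH' : ∀ x ∈ H', Q x = 0)
    (hle : H ≤ U ⊔ Submodule.span F {v}) (hle' : H' ≤ U ⊔ Submodule.span F {v})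
    (hne : ¬ H ≤ U) (hker : ∀ u ∈ U, QuadraticMap.polar Q v u = 0 → u ∈ H) : H' ≤ U ∨ H' ≤ H := by
  by_cases hne' : H' ≤ U
  · exact Or.inl hne'
  refine Or.inr ?_
  have key : ∀ K : Submodule F V, (∀ x ∈ K, Q x = 0) → K ≤ U ⊔ Submodule.span F {v} → ¬ K ≤ U →
      ∃ u ∈ U, v + u ∈ K ∧ Q v + QuadraticMap.polar Q v u = 0 := by
    intro K hK hKle hKne
    obtain ⟨x, hx, hxU⟩ := SetLike.not_le_iff_exists.1 hKne
    obtain ⟨u, hu, w, hw, rfl⟩ := Submodule.mem_sup.1 (hKle hx)
    obtain ⟨c, rfl⟩ := Submodule.mem_span_singleton.1 hw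
    have hc : c ≠ 0 := fun hc => hxU (by simpa [hc] using hu)
    have hm : v + c⁻¹ • u ∈ K := by
      have := K.smul_mem c⁻¹ hx
      rwa [smul_add, smul_smul, inv_mul_cancel₀ hc, one_smul, add_comm] at this
    refine ⟨c⁻¹ • u, U.smul_mem _ hu, hm, ?_⟩
    have := hK _ hm
    rwa [quad_add, hU _ (U.smul_mem _ hu), add_zero] at this
  obtain ⟨u, hu, hxH, hpu⟩ := key H hH hle hne
  obtain ⟨u', hu', hxH', hpu'⟩ := key H' hH' hle' hne'
  have hx'H : v + u' ∈ H := by
    have h1 := hker (u' - u) (U.sub_mem hu' hu) (by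
      rw [QuadraticMap.polar_sub_right]; linear_combination hpu' - hpu)
    have := H.add_mem hxH h1
    rwa [add_assoc, add_sub_cancel] at this
  intro x hx
  obtain ⟨a, ha, w, hw, rfl⟩ := Submodule.mem_sup.1 (hle' hx)
  obtain ⟨c, rfl⟩ := Submodule.mem_span_singleton.1 hw
  have h2 : a - c • u' ∈ H' := by
    have h1 := H'.sub_mem hx (H'.smul_mem c hxH')
    rwa [show a + c • v - c • (v + u') = a - c • u' by module] at h1
  have h3 : QuadraticMap.polar Q v (a - c • u') = 0 := by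
    have h4 := polar_of_singular hH' hxH' h2
    have h5 := polar_of_singular hU hu' (U.sub_mem ha (U.smul_mem c hu'))
    rw [QuadraticMap.polar_add_left, h5, add_zero] at h4
    exact h4
  have h6 := H.add_mem (hker _ (U.sub_mem ha (U.smul_mem c hu')) h3) (H.smul_mem c hx'H)
  have e : a - c • u' + c • (v + u') = a + c • v := by module
  rwa [e] at h6

end Cfsg.Agent.Spinor
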