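import Cfsg.Agent.Lib.Spinor.Char2Invol
import Cfsg.Agent.Lib.Forms.SpInvolCent
import Cfsg.Agent.Lib.LinearGroups.OrthForms

/-!
Involutions of orthogonal groups in characteristic two: their type, conjugacy and centralizers,
compared with the symplectic group of the polar form.
-/

set_option autoImplicit false

namespace Cfsg.Agent.OrthChar2

open Cfsg.Agent.FormsLib Cfsg.Agent.FormModel Cfsg.Agent.Spinor

section abstract

variable {F V : Type*} [Field F] [Fintype F] [CharP F 2] [AddCommGroup V] [Module F V] [FiniteDimensional F V]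
variable {Q : QuadraticForm F V}

omit [Fintype F] [FiniteDimensional F V] in
theorem polar_alt : LinearMap.IsAlt (QuadraticMap.polarBilin Q) := fun x => by
  rw [QuadraticMap.polarBilin_apply_apply, polar_self', CharTwo.two_eq_zero, zero_mul]

omit [Fintype F] [FiniteDimensional F V] in
theorem polar_comm' (u v : V) :
    (QuadraticMap.polarBilin Q) u v = (QuadraticMap.polarBilin Q) v u := by
  rw [QuadraticMap.polarBilin_apply_apply, QuadraticMap.polarBilin_apply_apply, QuadraticMap.polar_comm]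

omit [Fintype F] [FiniteDimensional F V] in
/-- The basic identities for an involutive isometry. -/
theorem invol_props {T : V ≃ₗ[F] V} (hT : T ∈ oGroup Q) (hT2 : ∀ v, T (T v) = v) :
    let N : Module.End F V := (T : V →ₗ[F] V) - LinearMap.id
    (∀ u v, (QuadraticMap.polarBilin Q) (N u) v = (QuadraticMap.polarBilin Q) u (N v)) ∧
      (∀ u, N (N u) = 0) ∧ (∀ v, Q (N v) = (QuadraticMap.polarBilin Q) (N v) v) ∧
      ∀ v, N v = 0 ↔ T v = v := by
  intro N
  have h2 : (2 : F) = 0 := CharTwo.two_eq_zero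
  refine ⟨fun u v => ?_, fun u => ?_, fun v => ?_, fun v => by simp [N, sub_eq_zero]⟩
  · have h := polar_of_mem hT (T u) v
    rw [hT2] at h
    simp [N, h]
  · simp only [N, LinearMap.sub_apply, LinearEquiv.coe_coe, LinearMap.id_apply, map_sub, hT2]
    linear_combination (norm := module) h2 • (u - T u)
  · have h := quad_add Q (N v) v
    rw [show N v + v = T v by simp [N], hT v] at h
    rw [QuadraticMap.polarBilin_apply_apply]
    linear_combination -(h2 * QuadraticMap.polar Q (N v) v) - h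

variable [Fintype V]

omit [FiniteDimensional F V] in
/-- The character sum over the orthogonal space of a totally orthogonal subspace. -/
theorem sum_chi_perp (R : Submodule F V) (hR : ∀ r ∈ R, Q r = 0) :
    ∀ [Fintype {d : V // ∀ r ∈ R, QuadraticMap.polar Q d r = 0}],
    ∑ d : {d : V // ∀ r ∈ R, QuadraticMap.polar Q d r = 0}, chi (Q d.1) = ∑ v : V, chi (Q v) := by
  classical
  intro _
  have hpos : (0 : ℤ) < Fintype.card R := by exact_mod_cast Fintype.card_pos
  have key : ∀ v : V, ∑ r : R, chi (QuadraticMap.polar Q v r) =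
      if ∀ r ∈ R, QuadraticMap.polar Q v r = 0 then (Fintype.card R : ℤ) else 0 := by
    intro v
    split_ifs with h
    · rw [Finset.sum_congr rfl fun r _ => by rw [h r.1 r.2, chi_zero]]
      simp
    · push Not at h
      obtain ⟨r₀, hr₀, hne⟩ := h
      obtain ⟨a, ha⟩ := exists_chi_neg (F := F)
      set r₁ : R := (a / QuadraticMap.polar Q v r₀) • ⟨r₀, hr₀⟩ with hr₁
      have hr₁' : QuadraticMap.polar Q v (r₁ : V) = a := by
        rw [hr₁, Submodule.coe_smul, QuadraticMap.polar_smul_right, smul_eq_mul, div_mul_cancel₀ _ hne]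
      have e := Equiv.sum_comp (Equiv.addRight r₁) (fun r : R => chi (QuadraticMap.polar Q v r))
      simp only [Equiv.coe_addRight, Submodule.coe_add, QuadraticMap.polar_add_right, hr₁', chi_add, ha, mul_neg,
        mul_one, Finset.sum_neg_distrib] at e
      omega
  have h1 : ∑ r : R, ∑ v : V, chi (Q (v + r)) = (Fintype.card R : ℤ) * ∑ v : V, chi (Q v) := by
    rw [Finset.sum_congr rfl fun r _ => show ∑ v : V, chi (Q (v + (r : R))) = ∑ v : V, chi (Q v) from
      Equiv.sum_comp (Equiv.addRight (r : V)) fun v => chi (Q v)]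
    simp
  have h2 : ∑ r : R, ∑ v : V, chi (Q (v + r)) =
      (Fintype.card R : ℤ) * ∑ d : {d : V // ∀ r ∈ R, QuadraticMap.polar Q d r = 0}, chi (Q d.1) := by
    rw [Finset.sum_comm]
    have : ∀ v : V, ∑ r : R, chi (Q (v + r)) =
        chi (Q v) * ∑ r : R, chi (QuadraticMap.polar Q v r) := by
      intro v
      rw [Finset.mul_sum]
      refine Finset.sum_congr rfl fun r _ => ?_
      rw [quad_add, hR r.1 r.2, add_zero, chi_add]
    simp only [this, key, mul_ite, mul_zero]
    rw [Finset.sum_ite, Finset.sum_const_zero, add_zero, Finset.mul_sum,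
      ← Finset.sum_subtype (Finset.univ.filter fun v => ∀ r ∈ R, QuadraticMap.polar Q v r = 0) (fun v => by simp)
        (fun v => (Fintype.card R : ℤ) * chi (Q v))]
    exact Finset.sum_congr rfl fun v _ => mul_comm _ _
  rw [h1] at h2
  exact (mul_left_cancel₀ hpos.ne' h2).symm

variable (hQ : (QuadraticMap.polarBilin Q).Nondegenerate)
include hQ

/-- The centralizer of an isometric involution in the symplectic group of the polar form, against the one
in the orthogonal group. -/
theorem card_cent_polar {T : V ≃ₗ[F] V} (hT : T ∈ oGroup Q) :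
    Nat.card {g : isoSub (QuadraticMap.polarBilin Q) // g.1 * T = T * g.1} =
      Nat.card {g : oGroup Q // g.1 * T = T * g.1} * Nat.card {d : V // T d = d ∧ chi (Q d) = 1} := by
  classical
  have h2 : (2 : F) = 0 := CharTwo.two_eq_zero
  -- the transvection attached to a fixed vector
  have htr : ∀ d : {d : V // T d = d ∧ chi (Q d) = 1}, ∃ S : V ≃ₗ[F] V, S * T = T * S ∧ (∀ x, S (S x) = x) ∧
      (∀ x y, QuadraticMap.polar Q (S x) (S y) = QuadraticMap.polar Q x y) ∧
      ∀ x, Q (S x) = Q x + QuadraticMap.polar Q x d.1 ^ 2 := by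
    rintro ⟨d, htd, hd⟩
    obtain ⟨c, hc⟩ : ∃ c : F, c ^ 2 * Q d + c = 1 := by
      have hmem : Q d ∈ (wp F).range := by
        by_contra hno
        rw [show chi (Q d) = -1 from if_neg hno] at hd
        norm_num at hd
      obtain ⟨y, hy⟩ := hmem
      have hy' : y ^ 2 + y = Q d := hy
      by_cases ha : Q d = 0
      · exact ⟨1, by rw [ha]; ring⟩
      · refine ⟨y / Q d, ?_⟩
        field_simp
        linear_combination hy'
    have hdd : QuadraticMap.polar Q d d = 0 := by rw [polar_self', h2, zero_mul]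
    let L : V →ₗ[F] V := LinearMap.id + (c • (QuadraticMap.polarBilin Q).flip d).smulRight d
    have hL : ∀ x, L x = x + (c * QuadraticMap.polar Q x d) • d := fun x => by simp [L]
    have hLd : ∀ x, QuadraticMap.polar Q (L x) d = QuadraticMap.polar Q x d := by
      intro x
      rw [hL, QuadraticMap.polar_add_left, QuadraticMap.polar_smul_left, hdd, smul_zero, add_zero]
    have hLL : ∀ x, L (L x) = x := by
      intro x
      rw [hL (L x), hLd, hL, add_assoc, ← add_smul,
        show c * QuadraticMap.polar Q x d + c * QuadraticMap.polar Q x d = 0 from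
          CharTwo.add_self_eq_zero _, zero_smul, add_zero]
    let S : V ≃ₗ[F] V := LinearEquiv.ofLinearMap L L (LinearMap.ext hLL) (LinearMap.ext hLL)
    have hinv : ∀ x, QuadraticMap.polar Q (T x) d = QuadraticMap.polar Q x d := fun x => by
      conv_lhs => rw [← htd]
      exact polar_of_mem hT x d
    refine ⟨S, LinearEquiv.ext fun x => ?_, hLL, fun x y => ?_, fun x => ?_⟩
    · show L (T x) = T (L x)
      rw [hL, hL, hinv, map_add, map_smul, htd]
    · show QuadraticMap.polar Q (L x) (L y) = _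
      rw [hL, hL, QuadraticMap.polar_add_left, QuadraticMap.polar_add_right, QuadraticMap.polar_add_right,
        QuadraticMap.polar_smul_left, QuadraticMap.polar_smul_left, QuadraticMap.polar_smul_right,
        QuadraticMap.polar_smul_right, hdd, QuadraticMap.polar_comm Q d y]
      simp only [smul_eq_mul, mul_zero, add_zero]
      linear_combination (c * QuadraticMap.polar Q x d * QuadraticMap.polar Q y d) * h2
    · show Q (L x) = _
      rw [hL, quad_add, QuadraticMap.map_smul, QuadraticMap.polar_smul_right, smul_eq_mul, smul_eq_mul]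
      linear_combination (QuadraticMap.polar Q x d ^ 2) * hc
  choose S hS1 hS2 hS3 hS4 using htr
  -- the fixed vector attached to a symplectic element
  have hpi : ∀ g : {g : isoSub (QuadraticMap.polarBilin Q) // g.1 * T = T * g.1},
      ∃ d : {d : V // T d = d ∧ chi (Q d) = 1}, ∀ x, Q (g.1.1 x) = Q x + QuadraticMap.polar Q x d.1 ^ 2 := by
    rintro ⟨⟨g, hg⟩, hgT⟩
    have hg' : ∀ x y, QuadraticMap.polar Q (g x) (g y) = QuadraticMap.polar Q x y := hg
    obtain ⟨d, hd⟩ := exists_polar_sq hQ g hg'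
    have hinv : ∀ x, QuadraticMap.polar Q (T x) d = QuadraticMap.polar Q x d := by
      intro x
      have e := hd (T x)
      rw [show g (T x) = T (g x) from LinearEquiv.congr_fun hgT x, hT, hd x, hT x] at e
      exact frobenius_inj F 2 (add_left_cancel e.symm)
    have htd : T d = d := by
      have h0 : ∀ y, QuadraticMap.polar Q y (T d - d) = 0 := by
        intro y
        obtain ⟨x, rfl⟩ := T.surjective y
        rw [QuadraticMap.polar_sub_right, polar_of_mem hT, hinv, sub_self]
      exact sub_eq_zero.1 (hQ.2 _ h0)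
    refine ⟨⟨d, htd, ?_⟩, hd⟩
    by_contra hno
    have hneg : chi (Q d) = -1 := by
      unfold chi at hno ⊢
      split_ifs at hno ⊢ with h
      · exact absurd rfl hno
      · rfl
    have hS := sum_chi_ne_zero hQ
    have e1 : ∑ x : V, chi (Q (g x)) = ∑ x : V, chi (Q x) := Equiv.sum_comp g.toEquiv fun x => chi (Q x)
    have e2 : ∀ x : V, chi (Q (g x)) = chi (Q d) * chi (Q (x + d)) := by
      intro x
      rw [hd, chi_add, chi_sq, ← chi_add, ← chi_add]
      congr 1
      rw [quad_add]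
      linear_combination -(Q d) * h2
    simp only [e2, ← Finset.mul_sum] at e1
    rw [show ∑ x : V, chi (Q (x + d)) = ∑ x : V, chi (Q x) from
      Equiv.sum_comp (Equiv.addRight d) (fun x => chi (Q x)), hneg] at e1
    exact hS (by linarith)
  choose π hπ using hpi
  have hπeq : ∀ g d, (∀ x, Q (g.1.1 x) = Q x + QuadraticMap.polar Q x d.1 ^ 2) → π g = d := by
    intro g d hd
    refine Subtype.ext (sub_eq_zero.1 (hQ.2 _ fun y => ?_))
    rw [QuadraticMap.polarBilin_apply_apply, QuadraticMap.polar_sub_right, sub_eq_zero]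
    exact frobenius_inj F 2 (add_left_cancel ((hπ g y).symm.trans (hd y)))
  rw [← Nat.card_prod]
  refine Nat.card_congr
    { toFun := fun g => (⟨⟨g.1.1 * S (π g), fun x => ?_⟩, ?_⟩, π g)
      invFun := fun p => ⟨⟨p.1.1.1 * S p.2, fun x y => ?_⟩, ?_⟩
      left_inv := fun g => ?_
      right_inv := fun p => ?_ }
  · show Q (g.1.1 (S (π g) x)) = Q x
    rw [hπ g, hS4, show QuadraticMap.polar Q (S (π g) x) (π g).1 = QuadraticMap.polar Q x (π g).1 from ?_]
    · linear_combination (QuadraticMap.polar Q x (π g).1 ^ 2) * h2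
    · have h0 := hS4 (π g) (S (π g) x)
      rw [hS2, hS4 (π g) x] at h0
      exact frobenius_inj F 2 (show QuadraticMap.polar Q (S (π g) x) (π g).1 ^ 2 = QuadraticMap.polar Q x (π g).1 ^ 2 by
        linear_combination -h0 - (QuadraticMap.polar Q x (π g).1 ^ 2) * h2)
  · show g.1.1 * S (π g) * T = T * (g.1.1 * S (π g))
    rw [mul_assoc, hS1, ← mul_assoc, g.2, mul_assoc]
  · show QuadraticMap.polar Q (p.1.1.1 (S p.2 x)) (p.1.1.1 (S p.2 y)) = _
    rw [polar_of_mem p.1.1.2, hS3]
    rfl
  · show p.1.1.1 * S p.2 * T = T * (p.1.1.1 * S p.2)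
    rw [mul_assoc, hS1, ← mul_assoc, p.1.2, mul_assoc]
  · refine Subtype.ext (Subtype.ext (LinearEquiv.ext fun x => ?_))
    show g.1.1 (S (π g) (S (π g) x)) = g.1.1 x
    rw [hS2]
  · have h1 : π ⟨⟨p.1.1.1 * S p.2, fun x y => by
        show QuadraticMap.polar Q (p.1.1.1 (S p.2 x)) (p.1.1.1 (S p.2 y)) = _
        rw [polar_of_mem p.1.1.2, hS3]
        rfl⟩, by rw [mul_assoc, hS1, ← mul_assoc, p.1.2, mul_assoc]⟩ = p.2 :=
      hπeq _ _ fun x => by
        show Q (p.1.1.1 (S p.2 x)) = _
        rw [p.1.1.2, hS4]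
    refine Prod.ext (Subtype.ext (Subtype.ext ?_)) h1
    show p.1.1.1 * S p.2 * S (π _) = p.1.1.1
    rw [h1, mul_assoc, show S p.2 * S p.2 = 1 from LinearEquiv.ext (hS2 p.2), mul_one]

omit hQ in
/-- Counting fixed vectors by the character of their norm. -/
theorem two_mul_card_fixed (T : V ≃ₗ[F] V) [Fintype {d : V // T d = d}] :
    2 * (Nat.card {d : V // T d = d ∧ chi (Q d) = 1} : ℤ) =
      (Nat.card {d : V // T d = d} : ℤ) + ∑ d : {d : V // T d = d}, chi (Q d.1) := by
  classical
  have hchi : ∀ a : F, (chi a : ℤ) = 2 * (if chi a = 1 then 1 else 0) - 1 := by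
    intro a
    unfold chi
    split_ifs <;> simp_all
  rw [Finset.sum_congr rfl fun d _ => hchi (Q d.1)]
  rw [Finset.sum_sub_distrib, ← Finset.mul_sum, Finset.sum_boole, Nat.card_eq_fintype_card (α := {d : V // T d = d})]
  have e : Nat.card {d : V // T d = d ∧ chi (Q d) = 1} =
      (Finset.univ.filter fun d : {d : V // T d = d} => chi (Q d.1) = 1).card := by
    rw [← Fintype.card_subtype, ← Nat.card_eq_fintype_card]
    exact Nat.card_congr (Equiv.subtypeSubtypeEquivSubtypeInter (fun d => T d = d) fun d => chi (Q d) = 1).symm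
  rw [e]
  simp

/-- The number of fixed vectors with trivial character: the type decides. -/
theorem card_fixed {T : V ≃ₗ[F] V} (hT : T ∈ oGroup Q) (hT2 : ∀ v, T (T v) = v) :
    Nat.card {d : V // T d = d} = Fintype.card F ^ (Module.finrank F V - rk T) ∧
    ((∃ v, Q (T v - v) ≠ 0) →
      2 * Nat.card {d : V // T d = d ∧ chi (Q d) = 1} = Fintype.card F ^ (Module.finrank F V - rk T)) ∧
    ((∀ v, Q (T v - v) = 0) →
      2 * (Nat.card {d : V // T d = d ∧ chi (Q d) = 1} : ℤ) =
        (Fintype.card F : ℤ) ^ (Module.finrank F V - rk T) + ∑ v : V, chi (Q v)) := by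
  classical
  obtain ⟨hN, hN2, hQN, hN0⟩ := invol_props hT hT2
  set N : Module.End F V := (T : V →ₗ[F] V) - LinearMap.id
  have hcard : Nat.card {d : V // T d = d} = Fintype.card F ^ (Module.finrank F V - rk T) := by
    rw [show Module.finrank F V - rk T = Module.finrank F (fixS T) from by
      have := rk_add T; omega]
    rw [Nat.card_congr (Equiv.subtypeEquivRight fun d => (mem_fixS (g := T) (x := d)).symm),
      Module.natCard_eq_pow_finrank (K := F) (V := fixS T), Nat.card_eq_fintype_card]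
  refine ⟨hcard, fun hne => ?_, fun hall => ?_⟩
  · obtain ⟨v, hv⟩ := hne
    obtain ⟨a, ha⟩ := exists_chi_neg (F := F)
    obtain ⟨c, hc⟩ : IsSquare (a / Q (T v - v)) := FiniteField.isSquare_of_char_two (ringChar.eq F 2) _
    have hTN : T (N v) = N v := (hN0 _).1 (hN2 v)
    have hQd : Q (c • N v) = a := by
      rw [QuadraticMap.map_smul, ← hc, smul_eq_mul, show N v = T v - v from rfl, div_mul_cancel₀ _ hv]
    have hpol : ∀ d, T d = d → QuadraticMap.polar Q d (c • N v) = 0 := fun d hd => by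
      have := hN d v
      rw [(hN0 d).2 hd, map_zero, LinearMap.zero_apply] at this
      rw [QuadraticMap.polar_smul_right, ← QuadraticMap.polarBilin_apply_apply, ← this, smul_zero]
    have hsum : ∑ d : {d : V // T d = d}, chi (Q d.1) = 0 := by
      let r : {d : V // T d = d} ≃ {d : V // T d = d} := (Equiv.addRight (c • N v)).subtypeEquiv fun d => by
        simp [map_add, map_smul, hTN]
      have e := Equiv.sum_comp r (fun d : {d : V // T d = d} => chi (Q d.1))
      have e2 : ∀ d : {d : V // T d = d}, chi (Q (r d).1) = - chi (Q d.1) := fun d => by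
        show chi (Q (d.1 + c • N v)) = _
        rw [quad_add, hQd, hpol d.1 d.2, add_zero, chi_add, ha, mul_neg_one]
      simp only [e2, Finset.sum_neg_distrib] at e
      omega
    have h := two_mul_card_fixed (Q := Q) T
    rw [hsum, hcard, add_zero] at h
    exact_mod_cast h
  · have h := two_mul_card_fixed (Q := Q) T
    rw [hcard, Nat.cast_pow] at h
    rw [h]
    congr 1
    rw [← sum_chi_perp (Q := Q) (LinearMap.range N) (by rintro _ ⟨w, rfl⟩; exact hall w)]
    refine Fintype.sum_equiv (Equiv.subtypeEquivRight fun d => ?_) _ _ fun d => rfl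
    rw [← hN0]
    constructor
    · rintro hd _ ⟨w, rfl⟩
      rw [← QuadraticMap.polarBilin_apply_apply, ← hN, hd, map_zero, LinearMap.zero_apply]
    · intro hd
      refine hQ.1 _ fun w => ?_
      rw [hN]
      exact hd _ ⟨w, rfl⟩

end abstract

/-- The character sum of the hyperbolic form. -/
theorem sum_chi_plus {F : Type*} [Field F] [Fintype F] [CharP F 2] (m : ℕ) :
    ∑ v : Fin m ⊕ Fin m → F, chi (Cfsg.quadFormPlus m F v) = (Fintype.card F : ℤ) ^ m := by
  classical
  rw [← Equiv.sum_comp (Equiv.sumArrowEquivProdArrow (Fin m) (Fin m) F).symm, Fintype.sum_prod_type]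
  have hq : ∀ x y : Fin m → F,
      Cfsg.quadFormPlus m F ((Equiv.sumArrowEquivProdArrow (Fin m) (Fin m) F).symm (x, y)) = x ⬝ᵥ y := fun x y => by
    simp [Cfsg.quadFormPlus, dotProduct, Equiv.sumArrowEquivProdArrow]
  simp only [hq]
  rw [Finset.sum_eq_single (0 : Fin m → F)]
  · simp [chi_zero, Fintype.card_pi]
  · intro x _ hx
    obtain ⟨i, hi⟩ : ∃ i, x i ≠ 0 := Function.ne_iff.1 hx
    obtain ⟨a, ha⟩ := exists_chi_neg (F := F)
    have e := Equiv.sum_comp (Equiv.addRight (Pi.single i (a / x i) : Fin m → F)) (fun y => chi (x ⬝ᵥ y))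
    simp only [Equiv.coe_addRight, dotProduct_add, dotProduct_single, mul_div_cancel₀ _ hi, chi_add, ha, mul_neg,
      mul_one, Finset.sum_neg_distrib] at e
    omega
  · simp

/-- The character sum of the elliptic form. -/
theorem sum_chi_minus {F : Type*} [Field F] [Fintype F] [CharP F 2] (k : ℕ) (a b : F)
    (hab : ∀ z₁ z₂ : F, z₁ ^ 2 + a * z₁ * z₂ + b * z₂ ^ 2 = 0 → z₁ = 0 ∧ z₂ = 0) :
    ∑ v : (Fin k ⊕ Fin k) ⊕ Fin 2 → F, chi (Cfsg.quadFormMinus k F a b v) = -(Fintype.card F : ℤ) ^ (k + 1) := by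
  classical
  have h2 : (2 : F) = 0 := CharTwo.two_eq_zero
  have ha : a ≠ 0 := by
    intro h0
    obtain ⟨c, hc⟩ : IsSquare b := FiniteField.isSquare_of_char_two (ringChar.eq F 2) _
    have := (hab c 1 (by rw [h0, hc]; linear_combination (c * c) * h2)).2
    exact one_ne_zero this
  have hbin : ∑ z : Fin 2 → F, chi (z 0 ^ 2 + a * z 0 * z 1 + b * z 1 ^ 2) = -(Fintype.card F : ℤ) := by
    rw [← Equiv.sum_comp (finTwoArrowEquiv F).symm, Fintype.sum_prod_type]
    simp only [finTwoArrowEquiv, piFinTwoEquiv, Equiv.coe_fn_symm_mk, Fin.cons_zero, Fin.cons_one, Matrix.cons_val_zero,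
      Matrix.cons_val_one, Matrix.cons_val_fin_one]
    rw [Finset.sum_comm, ← Finset.sum_erase_add _ _ (Finset.mem_univ (0 : F))]
    have h0 : ∑ z : F, chi (z ^ 2 + a * z * 0 + b * 0 ^ 2) = 0 := by
      obtain ⟨c, hc⟩ := exists_chi_neg (F := F)
      have e := Equiv.sum_comp (Equiv.addRight c) (fun z : F => chi z)
      simp only [Equiv.coe_addRight, chi_add, hc, mul_neg, mul_one, Finset.sum_neg_distrib] at e
      simp [chi_sq]
      omega
    rw [h0, add_zero]
    have h1 : ∀ w ∈ (Finset.univ : Finset F).erase 0, ∑ z : F, chi (z ^ 2 + a * z * w + b * w ^ 2) =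
        ∑ u : F, chi (a ^ 2 * (u ^ 2 + u + b / a ^ 2) * w ^ 2) := by
      intro w hw
      have hw0 := Finset.ne_of_mem_erase hw
      rw [← Equiv.sum_comp (Equiv.mulLeft₀ (a * w) (mul_ne_zero ha hw0))]
      refine Finset.sum_congr rfl fun u _ => congrArg chi ?_
      show (a * w * u) ^ 2 + a * (a * w * u) * w + b * w ^ 2 = _
      field_simp
    rw [Finset.sum_congr rfl h1, Finset.sum_comm]
    have h3 : ∀ u : F, ∑ w ∈ (Finset.univ : Finset F).erase 0, chi (a ^ 2 * (u ^ 2 + u + b / a ^ 2) * w ^ 2) = -1 := by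
      intro u
      have hr : a ^ 2 * (u ^ 2 + u + b / a ^ 2) ≠ 0 := by
        intro h0
        have := (hab (a * u) 1 (by field_simp at h0; linear_combination h0)).2
        exact one_ne_zero this
      obtain ⟨c, hc⟩ : IsSquare (a ^ 2 * (u ^ 2 + u + b / a ^ 2)) := FiniteField.isSquare_of_char_two (ringChar.eq F 2) _
      have hc0 : c ≠ 0 := fun h0 => hr (by rw [hc, h0, mul_zero])
      have hall : ∑ w : F, chi (a ^ 2 * (u ^ 2 + u + b / a ^ 2) * w ^ 2) = 0 := by
        obtain ⟨e₀, he₀⟩ := exists_chi_neg (F := F)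
        have e := Equiv.sum_comp (Equiv.addRight e₀) (fun z : F => chi z)
        simp only [Equiv.coe_addRight, chi_add, he₀, mul_neg, mul_one, Finset.sum_neg_distrib] at e
        rw [Finset.sum_congr rfl fun w _ => show chi (a ^ 2 * (u ^ 2 + u + b / a ^ 2) * w ^ 2) = chi (c * w) by
          rw [hc, ← chi_sq (c * w)]; congr 1; ring]
        rw [show ∑ w : F, chi (c * w) = ∑ w : F, chi w from Equiv.sum_comp (Equiv.mulLeft₀ c hc0) chi]
        omega
      rw [← Finset.sum_erase_add _ _ (Finset.mem_univ (0 : F))] at hall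
      rw [show chi (a ^ 2 * (u ^ 2 + u + b / a ^ 2) * (0 : F) ^ 2) = 1 from by rw [zero_pow two_ne_zero, mul_zero, chi_zero]] at hall
      linarith
    simp [h3]
  rw [← Equiv.sum_comp (Equiv.sumArrowEquivProdArrow (Fin k ⊕ Fin k) (Fin 2) F).symm, Fintype.sum_prod_type]
  have hq : ∀ (x : Fin k ⊕ Fin k → F) (z : Fin 2 → F),
      Cfsg.quadFormMinus k F a b ((Equiv.sumArrowEquivProdArrow (Fin k ⊕ Fin k) (Fin 2) F).symm (x, z)) =
        Cfsg.quadFormPlus k F x + (z 0 ^ 2 + a * z 0 * z 1 + b * z 1 ^ 2) := fun x z => by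
    simp [Cfsg.quadFormMinus, Cfsg.quadFormPlus, Equiv.sumArrowEquivProdArrow]
  simp only [hq, chi_add, ← Finset.mul_sum, ← Finset.sum_mul]
  simp only [← chi_add, hbin]
  rw [sum_chi_plus]
  ring

section matrices

variable {F : Type*} [Field F] [Fintype F] [CharP F 2] {ι : Type} [Fintype ι] [DecidableEq ι]
  {Q : QuadraticForm F (ι → F)}

open Matrix

omit [Fintype F] [CharP F 2] in
theorem oEquiv_sub_apply (t : Cfsg.isometryGroup F ⇑Q) (v : ι → F) :
    (oEquiv Q t).1 v - v = ((t.1 : Matrix ι ι F) - 1) *ᵥ v := by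
  rw [oEquiv_apply, Matrix.sub_mulVec, Matrix.one_mulVec]

omit [Fintype F] [CharP F 2] in
theorem oEquiv_invol {t : Cfsg.isometryGroup F ⇑Q} (ht : t * t = 1) (v : ι → F) :
    (oEquiv Q t).1 ((oEquiv Q t).1 v) = v := by
  show ((oEquiv Q t) * (oEquiv Q t)).1 v = v
  rw [← map_mul, ht, map_one]
  rfl

variable (hQ : (QuadraticMap.polarBilin Q).Nondegenerate)
include hQ

/-- The centralizer of an orthogonal involution in the polar symplectic group, with the corresponding
symplectic involution in standard coordinates. -/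
theorem exists_transport {m : ℕ} (hm : Fintype.card ι = 2 * m) (t : Cfsg.isometryGroup F ⇑Q) (ht : t * t = 1) :
    ∃ t' : Matrix.symplecticGroup (Fin m) F, t' ^ 2 = 1 ∧
      ((t' : Matrix (Fin m ⊕ Fin m) (Fin m ⊕ Fin m) F) - 1).rank = ((t.1 : Matrix ι ι F) - 1).rank ∧
      ((∀ v, spB m F (((t' : Matrix (Fin m ⊕ Fin m) (Fin m ⊕ Fin m) F) - 1) *ᵥ v) v = 0) ↔
        ∀ v, Q (((t.1 : Matrix ι ι F) - 1) *ᵥ v) = 0) ∧
      Nat.card {g : isoSub (QuadraticMap.polarBilin Q) // g.1 * (oEquiv Q t).1 = (oEquiv Q t).1 * g.1} =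
        Nat.card (Subgroup.centralizer ({t'} : Set (Matrix.symplecticGroup (Fin m) F))) := by
  obtain ⟨e, he⟩ := exists_symp_coords (polar_alt (Q := Q)) hQ.1 (m := m)
    (by rw [Module.finrank_fintype_fun_eq_card, hm])
  set T := (oEquiv Q t).1 with hT
  have hTO : T ∈ oGroup Q := (oEquiv Q t).2
  have hT2 := oEquiv_invol ht
  obtain ⟨-, -, hQN, -⟩ := invol_props hTO hT2
  let Ti : isoSub (QuadraticMap.polarBilin Q) := ⟨T, fun u v => polar_of_mem hTO u v⟩
  let Φ : Matrix.symplecticGroup (Fin m) F ≃* isoSub (QuadraticMap.polarBilin Q) :=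
    (spEquiv m F).trans ((MulEquiv.subgroupCongr (isoGroup_eq _)).trans (isoSubCongr e he))
  have hΦ : ∀ A v, (Φ A).1 (e v) = e (A.1 *ᵥ v) := fun A v => by
    show e (((spEquiv m F) A).1 (e.symm (e v))) = _
    rw [e.symm_apply_apply, spEquiv_apply]
  set t' := Φ.symm Ti with ht'
  have hTe : ∀ v, e (t'.1 *ᵥ v) = T (e v) := fun v => by
    rw [← hΦ, ht', MulEquiv.apply_symm_apply]
  refine ⟨t', ?_, ?_, ?_, ?_⟩
  · apply Φ.injective
    rw [map_pow, map_one, ht', MulEquiv.apply_symm_apply, pow_two]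
    exact Subtype.ext (LinearEquiv.ext hT2)
  · have e1 : Submodule.map (e : (Fin m ⊕ Fin m → F) →ₗ[F] (ι → F)) (LinearMap.range (t'.1 - 1).mulVecLin) =
        Spinor.mov T := by
      rw [Spinor.mov, ← LinearMap.range_comp, show (e : (Fin m ⊕ Fin m → F) →ₗ[F] (ι → F)).comp ((t'.1 - 1).mulVecLin) =
        ((T : (ι → F) →ₗ[F] _) - LinearMap.id).comp (e : (Fin m ⊕ Fin m → F) →ₗ[F] (ι → F)) from LinearMap.ext fun v => by
          simp [Matrix.sub_mulVec, hTe]]
      exact LinearMap.range_comp_of_range_eq_top _ (LinearEquiv.range e)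
    have e2 := LinearEquiv.finrank_map_eq e (LinearMap.range (t'.1 - 1).mulVecLin)
    rw [← rk_eq_rank t, Spinor.rk, ← hT, ← e1]
    exact e2.symm
  · have key : ∀ v, spB m F ((t'.1 - 1) *ᵥ v) v = Q (((t.1 : Matrix ι ι F) - 1) *ᵥ e v) := fun v => by
      rw [← he, ← oEquiv_sub_apply t, Matrix.sub_mulVec, Matrix.one_mulVec, map_sub e, hTe]
      exact (hQN (e v)).symm
    refine ⟨fun h v => ?_, fun h v => by rw [key]; exact h _⟩
    obtain ⟨w, rfl⟩ := e.surjective v
    rw [← key]
    exact h w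
  · refine (Nat.card_congr (Φ.toEquiv.subtypeEquiv fun A => ?_)).symm
    rw [Subgroup.mem_centralizer_singleton_iff, ← Φ.injective.eq_iff, map_mul, map_mul, ht',
      MulEquiv.apply_symm_apply, Subtype.ext_iff]
    rfl

/-- The centralizer in the orthogonal group, through the one in the symplectic group. -/
theorem card_centralizer_mul [Fintype (ι → F)] {m : ℕ} (hm : Fintype.card ι = 2 * m) (t : Cfsg.isometryGroup F ⇑Q)
    (ht : t * t = 1) :
    ∃ t' : Matrix.symplecticGroup (Fin m) F, t' ^ 2 = 1 ∧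
      ((t' : Matrix (Fin m ⊕ Fin m) (Fin m ⊕ Fin m) F) - 1).rank = ((t.1 : Matrix ι ι F) - 1).rank ∧
      ((∀ v, spB m F (((t' : Matrix (Fin m ⊕ Fin m) (Fin m ⊕ Fin m) F) - 1) *ᵥ v) v = 0) ↔
        ∀ v, Q (((t.1 : Matrix ι ι F) - 1) *ᵥ v) = 0) ∧
      ∃ D : ℕ, Nat.card (Subgroup.centralizer ({t'} : Set (Matrix.symplecticGroup (Fin m) F))) =
          Nat.card (Subgroup.centralizer ({t} : Set (Cfsg.isometryGroup F ⇑Q))) * D ∧
        ((∃ v, Q (((t.1 : Matrix ι ι F) - 1) *ᵥ v) ≠ 0) →
          2 * D = Fintype.card F ^ (2 * m - ((t.1 : Matrix ι ι F) - 1).rank)) ∧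
        ((∀ v, Q (((t.1 : Matrix ι ι F) - 1) *ᵥ v) = 0) →
          2 * (D : ℤ) = (Fintype.card F : ℤ) ^ (2 * m - ((t.1 : Matrix ι ι F) - 1).rank) + ∑ v : ι → F, chi (Q v)) := by
  obtain ⟨t', h1, h2, h3, h4⟩ := exists_transport hQ hm t ht
  obtain ⟨-, h5, h6⟩ := card_fixed hQ (oEquiv Q t).2 (oEquiv_invol ht)
  refine ⟨t', h1, h2, h3, Nat.card {d : ι → F // (oEquiv Q t).1 d = d ∧ chi (Q d) = 1}, ?_, ?_, ?_⟩
  · rw [← h4, card_cent_polar hQ (oEquiv Q t).2]
    congr 1
    refine (Nat.card_congr ((oEquiv Q).toEquiv.subtypeEquiv fun A => ?_)).symm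
    rw [Subgroup.mem_centralizer_singleton_iff, ← (oEquiv Q).injective.eq_iff, map_mul, map_mul, Subtype.ext_iff]
    rfl
  · simp only [oEquiv_sub_apply, Module.finrank_fintype_fun_eq_card, hm, rk_eq_rank] at h5
    exact h5
  · simp only [oEquiv_sub_apply, Module.finrank_fintype_fun_eq_card, hm, rk_eq_rank] at h6
    exact h6

omit hQ in
/-- The centralizer in `Ω` is of index two unless every centralizing element lies in `Ω`. -/
theorem card_omega_cent (hQ : (QuadraticMap.polarBilin Q).Nondegenerate)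
    (hexc : Fintype.card F ≠ 2 ∨ Fintype.card ι ≠ 4) {m : ℕ} (hm : Fintype.card ι = 2 * m)
    (t : Cfsg.isometryGroup F ⇑Q) (ht : t * t = 1) :
    (¬ (((t.1 : Matrix ι ι F) - 1).rank = m ∧ ∀ v, Q (((t.1 : Matrix ι ι F) - 1) *ᵥ v) = 0) →
      2 * Nat.card {g : ↥(Cfsg.Omega F ⇑Q) // (g : Cfsg.isometryGroup F ⇑Q) * t = t * g} =
        Nat.card (Subgroup.centralizer ({t} : Set (Cfsg.isometryGroup F ⇑Q)))) ∧
    (((t.1 : Matrix ι ι F) - 1).rank = m → (∀ v, Q (((t.1 : Matrix ι ι F) - 1) *ᵥ v) = 0) → Even m →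
      Nat.card {g : ↥(Cfsg.Omega F ⇑Q) // (g : Cfsg.isometryGroup F ⇑Q) * t = t * g} =
        Nat.card (Subgroup.centralizer ({t} : Set (Cfsg.isometryGroup F ⇑Q)))) := by
  classical
  set C := Subgroup.centralizer ({t} : Set (Cfsg.isometryGroup F ⇑Q))
  let χ : C →* ℤˣ := (OrthRows.dk hQ hexc).comp C.subtype
  have hker : Nat.card {g : ↥(Cfsg.Omega F ⇑Q) // (g : Cfsg.isometryGroup F ⇑Q) * t = t * g} = Nat.card χ.ker :=
    Nat.card_congr
      { toFun := fun g => ⟨⟨g.1.1, Subgroup.mem_centralizer_singleton_iff.2 g.2⟩, (mem_omega_iff_dk hQ hexc).1 g.1.2⟩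
        invFun := fun g => ⟨⟨g.1.1, (mem_omega_iff_dk hQ hexc).2 g.2⟩, Subgroup.mem_centralizer_singleton_iff.1 g.1.2⟩
        left_inv := fun g => rfl
        right_inv := fun g => rfl }
  have hsub : ∀ v, v + (t.1 : Matrix ι ι F) *ᵥ v = ((t.1 : Matrix ι ι F) - 1) *ᵥ v := fun v => by
    rw [Matrix.sub_mulVec, Matrix.one_mulVec, sub_eq_add_neg, add_comm]
    congr 1
    funext i
    exact (CharTwo.neg_eq (v i)).symm
  refine ⟨fun h => ?_, fun hr hs hev => ?_⟩
  · obtain ⟨v, hv, htv⟩ := exists_fixed_nonsingular hQ hm t ht (by simpa only [hsub] using h)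
    have hc : OrthRows.rf Q v hv * t = t * OrthRows.rf Q v hv := by
      apply (oEquiv Q).injective
      rw [map_mul, map_mul, OrthRows.rf, MulEquiv.apply_symm_apply]
      have h := oRefl_conj hv (oEquiv Q t)
      rw [oRefl_congr _ hv (show (oEquiv Q t).1 v = v from htv)] at h
      exact (mul_inv_eq_iff_eq_mul.1 h).symm
    have hsurj : Function.Surjective χ := by
      intro u
      rcases Int.units_eq_one_or u with rfl | rfl
      · exact ⟨1, map_one _⟩
      · exact ⟨⟨_, Subgroup.mem_centralizer_singleton_iff.2 hc⟩, OrthRows.dk_rf hQ hexc hv⟩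
    rw [hker, ← Subgroup.card_mul_index χ.ker, Subgroup.index_ker, MonoidHom.range_eq_top.2 hsurj,
      Subgroup.card_top, mul_comm]
    congr 1
    simp
  · have hall : ∀ g : C, χ g = 1 := by
      intro g
      set U := mov (oEquiv Q t).1 with hUdef
      have hUs : ∀ x ∈ U, Q x = 0 := by
        intro x hx
        obtain ⟨y, rfl⟩ := mem_mov.1 hx
        rw [oEquiv_sub_apply]
        exact hs y
      have hUd : Module.finrank F U = m := by rw [← hr, ← rk_eq_rank]; rfl
      have hW : U.map ((oEquiv Q g.1).1 : (ι → F) →ₗ[F] (ι → F)) = U := by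
        rw [hUdef, mov, ← LinearMap.range_comp]
        have hcomm : ∀ x, (oEquiv Q g.1).1 ((oEquiv Q t).1 x) = (oEquiv Q t).1 ((oEquiv Q g.1).1 x) := fun x => by
          show (oEquiv Q g.1 * oEquiv Q t).1 x = (oEquiv Q t * oEquiv Q g.1).1 x
          rw [← map_mul, ← map_mul, Subgroup.mem_centralizer_singleton_iff.1 g.2]
        rw [show ((oEquiv Q g.1).1 : (ι → F) →ₗ[F] (ι → F)).comp (((oEquiv Q t).1 : (ι → F) →ₗ[F] (ι → F)) - LinearMap.id) =
            (((oEquiv Q t).1 : (ι → F) →ₗ[F] (ι → F)) - LinearMap.id).comp ((oEquiv Q g.1).1 : (ι → F) →ₗ[F] (ι → F)) from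
            LinearMap.ext fun x => by simp [map_sub, hcomm]]
        exact LinearMap.range_comp_of_range_eq_top _ (LinearEquiv.range _)
      show dick (oEquiv Q g.1) = 1
      rw [dick_eq_one_iff_even hQ (OrthRows.gen_top hQ hexc) (by rw [Module.finrank_fintype_fun_eq_card, hm])
        (oEquiv Q g.1) hUs hUd hW, inf_idem, hUd, Nat.sub_self]
      exact Even.zero
    rw [hker]
    exact Nat.card_congr (Equiv.subtypeUnivEquiv hall)

end matrices

end Cfsg.Agent.OrthChar2

namespace Cfsg.Agent.OrthChar2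

/-- The last factor of the plus type. -/
theorem plus_factor (q d : ℕ) :
    (q ^ ((d + 1) * d) * (q ^ (d + 1) - 1) * ∏ i : Fin d, (q ^ (2 * ((i : ℕ) + 1)) - 1)) *
      (q ^ (d + 1) * (q ^ (d + 1) + 1)) =
      q ^ ((d + 1) ^ 2) * ∏ i : Fin (d + 1), (q ^ (2 * ((i : ℕ) + 1)) - 1) := by
  rw [Fin.prod_univ_castSucc]
  simp only [Fin.val_castSucc, Fin.val_last]
  have e : q ^ (2 * (d + 1)) - 1 = (q ^ (d + 1) + 1) * (q ^ (d + 1) - 1) := by
    rw [← Nat.sq_sub_sq, one_pow, ← pow_mul, mul_comm]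
  rw [e, show (d + 1) ^ 2 = (d + 1) * d + (d + 1) by ring, pow_add]
  ring

end Cfsg.Agent.OrthChar2
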