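import Cfsg.Agent.Lib.Spinor.Char2InvolCent

/-!
Counting the classes of involutions in orthogonal groups in characteristic two, and in their
commutator subgroups.
-/

set_option autoImplicit false

namespace Cfsg.Agent.OrthChar2

open Cfsg.Agent.FormsLib Cfsg.Agent.Spinor

section abstract

variable {F V : Type*} [Field F] [Fintype F] [CharP F 2] [AddCommGroup V] [Module F V] [FiniteDimensional F V]
  {Q : QuadraticForm F V}

/-- Involutive isometries of the same type are conjugate. -/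
theorem exists_conj_of_type (hQ : (QuadraticMap.polarBilin Q).Nondegenerate) {T S : V ≃ₗ[F] V}
    (hT : T ∈ oGroup Q) (hT2 : ∀ v, T (T v) = v) (hS : S ∈ oGroup Q) (hS2 : ∀ v, S (S v) = v)
    (hrk : rk T = rk S) (htype : (∀ v, Q (T v - v) = 0) ↔ ∀ v, Q (S v - v) = 0) :
    ∃ h : oGroup Q, ∀ x, h.1 (T x) = S (h.1 x) := by
  classical
  obtain ⟨haN, haN2, haQ, -⟩ := invol_props hT hT2
  obtain ⟨hbN, hbN2, hbQ, -⟩ := invol_props hS hS2
  set Na : Module.End F V := (T : V →ₗ[F] V) - LinearMap.id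
  set Nb : Module.End F V := (S : V →ₗ[F] V) - LinearMap.id
  have htr : IsTraceForm (RingHom.id F) (-1) (QuadraticMap.polarBilin Q) := isTraceForm_of_isAlt polar_alt hQ
  have hda := SpInvolTwo.exists_data polar_alt hQ haN (rk T) rfl
  have hdb := SpInvolTwo.exists_data polar_alt hQ hbN (rk T) (by rw [hrk]; rfl)
  have witt : ∀ (X : Submodule F V) (φ : X →ₗ[F] V), Function.Injective φ →
      (∀ x y, (QuadraticMap.polarBilin Q) (φ x) (φ y) = (QuadraticMap.polarBilin Q) (x : V) (y : V)) →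
      ∃ g : V ≃ₗ[F] V, (∀ u v, (QuadraticMap.polarBilin Q) (g u) (g v) = (QuadraticMap.polarBilin Q) u v) ∧
        ∀ x : X, g x = φ x := by
    intro X φ h1 h2
    obtain ⟨g, hg, hgx⟩ := htr.witt X φ h1 h2
    exact ⟨g, hg, hgx⟩
  suffices h : ∃ g : V ≃ₗ[F] V, (∀ u v, (QuadraticMap.polarBilin Q) (g u) (g v) = (QuadraticMap.polarBilin Q) u v) ∧
      ∀ v, g (Na v) = Nb (g v) by
    obtain ⟨g, hg, hgN⟩ := h
    refine exists_conj_of_polar hQ hT hS g hg fun x => ?_
    have h1 := hgN x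
    simp only [Na, Nb, LinearMap.sub_apply, LinearEquiv.coe_coe, LinearMap.id_apply, map_sub, sub_left_inj] at h1
    exact h1
  by_cases hcase : ∀ v, Q (T v - v) = 0
  · obtain ⟨k, x, hk, hx, hsx⟩ := hda.2 fun v => (haQ v).symm.trans (hcase v)
    obtain ⟨k', y, hk', hy, hsy⟩ := hdb.2 fun v => (hbQ v).symm.trans (htype.1 hcase v)
    obtain rfl : k = k' := by omega
    set σ := finSumFinEquiv (m := k) (n := k)
    refine SpInvolTwo.exists_intertwine polar_alt hQ haN haN2 hbN hbN2 (x ∘ σ.symm) (y ∘ σ.symm)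
      ((Matrix.fromBlocks (0 : Matrix (Fin k) (Fin k) F) 1 1 0).submatrix σ.symm σ.symm) ?_
      (fun i j => hx _ _) (fun i j => hy _ _) (fun v => ?_) (fun v => ?_) witt
    · rw [Matrix.submatrix_mul_equiv, Matrix.fromBlocks_multiply]
      simp
    · obtain ⟨c, hc⟩ := hsx v
      exact ⟨c ∘ σ.symm, hc.trans (Fintype.sum_equiv σ _ _ fun i => by simp)⟩
    · obtain ⟨c, hc⟩ := hsy v
      exact ⟨c ∘ σ.symm, hc.trans (Fintype.sum_equiv σ _ _ fun i => by simp)⟩
  · obtain ⟨v, hv⟩ := not_forall.1 hcase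
    obtain ⟨w, hw⟩ := not_forall.1 fun h => hcase (htype.2 h)
    obtain ⟨x, hx, hsx⟩ := hda.1 ⟨v, fun h => hv ((haQ v).trans h)⟩
    obtain ⟨y, hy, hsy⟩ := hdb.1 ⟨w, fun h => hw ((hbQ w).trans h)⟩
    exact SpInvolTwo.exists_intertwine polar_alt hQ haN haN2 hbN hbN2 x y 1 (mul_one 1)
      (fun i j => by rw [hx, Matrix.one_apply]) (fun i j => by rw [hy, Matrix.one_apply]) hsx hsy witt

end abstract

section matrices

open Matrix

variable {F : Type*} [Field F] [Fintype F] [CharP F 2] {ι : Type} [Fintype ι] [DecidableEq ι]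
  {Q : QuadraticForm F (ι → F)}

omit [Fintype F] [CharP F 2] in
/-- The rank and type of conjugate elements agree. -/
theorem type_of_isConj {t s : Cfsg.isometryGroup F ⇑Q} (h : IsConj t s) :
    ((t.1 : Matrix ι ι F) - 1).rank = ((s.1 : Matrix ι ι F) - 1).rank ∧
      ((∀ v, Q (((t.1 : Matrix ι ι F) - 1) *ᵥ v) = 0) ↔ ∀ v, Q (((s.1 : Matrix ι ι F) - 1) *ᵥ v) = 0) := by
  obtain ⟨g, hg⟩ := isConj_iff.1 h
  have hcomm : ∀ x, (oEquiv Q g).1 ((oEquiv Q t).1 x) = (oEquiv Q s).1 ((oEquiv Q g).1 x) := fun x => by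
    show (oEquiv Q g * oEquiv Q t).1 x = (oEquiv Q s * oEquiv Q g).1 x
    rw [← map_mul, ← map_mul, mul_inv_eq_iff_eq_mul.1 hg]
  refine ⟨?_, ?_⟩
  · rw [← rk_eq_rank, ← rk_eq_rank, rk, rk, ← LinearEquiv.finrank_map_eq (oEquiv Q g).1 (mov (oEquiv Q t).1)]
    have e : (mov (oEquiv Q t).1).map ((oEquiv Q g).1 : (ι → F) →ₗ[F] (ι → F)) = mov (oEquiv Q s).1 := by
      rw [mov, mov, ← LinearMap.range_comp,
        show ((oEquiv Q g).1 : (ι → F) →ₗ[F] (ι → F)).comp (((oEquiv Q t).1 : (ι → F) →ₗ[F] (ι → F)) - LinearMap.id) =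
          (((oEquiv Q s).1 : (ι → F) →ₗ[F] (ι → F)) - LinearMap.id).comp ((oEquiv Q g).1 : (ι → F) →ₗ[F] (ι → F)) from
          LinearMap.ext fun x => by simp [map_sub, hcomm]]
      exact LinearMap.range_comp_of_range_eq_top _ (LinearEquiv.range _)
    rw [← e]
  · simp only [← oEquiv_sub_apply]
    refine ⟨fun h1 v => ?_, fun h1 v => ?_⟩
    · obtain ⟨w, rfl⟩ := (oEquiv Q g).1.surjective v
      rw [← hcomm, ← map_sub, (oEquiv Q g).2]
      exact h1 w
    · rw [← (oEquiv Q g).2, map_sub, hcomm]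
      exact h1 _

variable (hQ : (QuadraticMap.polarBilin Q).Nondegenerate)
include hQ

/-- Involutions of the same type are conjugate. -/
theorem isConj_of_type {t s : Cfsg.isometryGroup F ⇑Q} (ht : t * t = 1) (hs : s * s = 1)
    (hrank : ((t.1 : Matrix ι ι F) - 1).rank = ((s.1 : Matrix ι ι F) - 1).rank)
    (htype : (∀ v, Q (((t.1 : Matrix ι ι F) - 1) *ᵥ v) = 0) ↔ ∀ v, Q (((s.1 : Matrix ι ι F) - 1) *ᵥ v) = 0) :
    IsConj t s := by
  obtain ⟨h, hh⟩ := exists_conj_of_type hQ (oEquiv Q t).2 (oEquiv_invol ht) (oEquiv Q s).2 (oEquiv_invol hs)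
    (by rw [rk_eq_rank, rk_eq_rank, hrank]) (by simpa only [oEquiv_sub_apply] using htype)
  refine isConj_iff.2 ⟨(oEquiv Q).symm h, mul_inv_eq_iff_eq_mul.2 ((oEquiv Q).injective ?_)⟩
  rw [map_mul, map_mul, MulEquiv.apply_symm_apply]
  exact Subtype.ext (LinearEquiv.ext hh)

/-- The possible ranks. -/
theorem rank_bounds [Fintype (ι → F)] {m : ℕ} (hm : Fintype.card ι = 2 * m) {t : Cfsg.isometryGroup F ⇑Q}
    (ht : orderOf t = 2) :
    0 < ((t.1 : Matrix ι ι F) - 1).rank ∧ ((t.1 : Matrix ι ι F) - 1).rank ≤ m ∧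
      ((∀ v, Q (((t.1 : Matrix ι ι F) - 1) *ᵥ v) = 0) → Even ((t.1 : Matrix ι ι F) - 1).rank ∧
        ((∑ v : ι → F, chi (Q v)) < 0 → ((t.1 : Matrix ι ι F) - 1).rank ≠ m ∨
          (∑ v : ι → F, chi (Q v)) ≠ -(Fintype.card F : ℤ) ^ m)) := by
  have ht2 : t * t = 1 := by rw [← pow_two, ← ht, pow_orderOf_eq_one]
  obtain ⟨t', h1, h2, h3, D, hCD, -, hD⟩ := card_centralizer_mul hQ hm t ht2
  refine ⟨Nat.pos_of_ne_zero fun h0 => ?_, ?_, fun hall => ⟨?_, fun _ => ?_⟩⟩
  · have h0' : ((t.1 : Matrix ι ι F) - 1).mulVecLin = 0 :=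
      LinearMap.range_eq_bot.1 (Submodule.finrank_eq_zero.1 h0)
    have : t = 1 := (oEquiv Q).injective (Subtype.ext (LinearEquiv.ext fun v => by
      have h1 := LinearMap.congr_fun h0' v
      rw [Matrix.mulVecLin_apply, ← oEquiv_sub_apply, LinearMap.zero_apply, sub_eq_zero] at h1
      rw [h1, map_one]
      rfl))
    rw [this, orderOf_one] at ht
    omega
  · by_cases hall : ∀ v, Q (((t.1 : Matrix ι ι F) - 1) *ᵥ v) = 0
    · exact (SpInvolCent.card_of_alt t' h1 h2 (h3.2 hall)).1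
    · exact (SpInvolCent.card_of_nonalt t' h1 h2 (not_forall.1 fun h => hall (h3.1 h))).1
  · exact (SpInvolCent.card_of_alt t' h1 h2 (h3.2 hall)).2.1
  · by_contra hno
    push Not at hno
    have h := hD hall
    rw [hno.2, hno.1, show 2 * m - m = m by omega, add_neg_cancel] at h
    have : D = 0 := by exact_mod_cast (mul_eq_zero.1 h).resolve_left two_ne_zero
    rw [this, mul_zero] at hCD
    exact Nat.card_pos.ne' hCD

/-- Counting the classes from representatives. -/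
theorem card_classes {m A : ℕ} (hm : Fintype.card ι = 2 * m) (hA : 2 * A ≤ m)
    (rep : Fin m ⊕ Fin A → Cfsg.isometryGroup F ⇑Q) (hord : ∀ i, orderOf (rep i) = 2)
    (hrank : ∀ i, (((rep i).1 : Matrix ι ι F) - 1).rank =
      Sum.elim (fun a : Fin m => (a : ℕ) + 1) (fun b : Fin A => 2 * ((b : ℕ) + 1)) i)
    (htype : ∀ i, (∀ v, Q ((((rep i).1 : Matrix ι ι F) - 1) *ᵥ v) = 0) ↔ i.isRight = true)
    (hmax : ∀ t : Cfsg.isometryGroup F ⇑Q, orderOf t = 2 → (∀ v, Q (((t.1 : Matrix ι ι F) - 1) *ᵥ v) = 0) →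
      ((t.1 : Matrix ι ι F) - 1).rank ≤ 2 * A) :
    Nat.card {C : ConjClasses ↥(Cfsg.isometryGroup F ⇑Q) //
      ∃ g : ↥(Cfsg.isometryGroup F ⇑Q), ConjClasses.mk g = C ∧ orderOf g = 2} = m + A := by
  classical
  let f : Fin m ⊕ Fin A → {C : ConjClasses ↥(Cfsg.isometryGroup F ⇑Q) //
      ∃ g : ↥(Cfsg.isometryGroup F ⇑Q), ConjClasses.mk g = C ∧ orderOf g = 2} :=
    fun i => ⟨ConjClasses.mk (rep i), rep i, rfl, hord i⟩
  have hinj : Function.Injective f := by
    intro i j h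
    obtain ⟨h1, h2⟩ := type_of_isConj (ConjClasses.mk_eq_mk_iff_isConj.1 (congrArg Subtype.val h))
    rw [htype, htype] at h2
    rw [hrank, hrank] at h1
    rcases i with i | i <;> rcases j with j | j <;> simp at h1 h2
    · exact congrArg Sum.inl (Fin.ext h1)
    · exact congrArg Sum.inr (Fin.ext h1)
  have hsurj : Function.Surjective f := by
    rintro ⟨C, g, rfl, hg⟩
    obtain ⟨hpos, hle, halt⟩ := rank_bounds hQ hm hg
    have h2 : ∀ x : Cfsg.isometryGroup F ⇑Q, orderOf x = 2 → x * x = 1 := fun x hx => by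
      rw [← pow_two, ← hx, pow_orderOf_eq_one]
    have hfin : ∀ i, (((rep i).1 : Matrix ι ι F) - 1).rank = ((g.1 : Matrix ι ι F) - 1).rank →
        ((i.isRight = true) ↔ ∀ v, Q (((g.1 : Matrix ι ι F) - 1) *ᵥ v) = 0) → ∃ i, f i = ⟨_, g, rfl, hg⟩ :=
      fun i h1 h' => ⟨i, Subtype.ext (ConjClasses.mk_eq_mk_iff_isConj.2
        (isConj_of_type hQ (h2 _ (hord i)) (h2 _ hg) h1 ((htype i).trans h')))⟩
    by_cases hall : ∀ v, Q (((g.1 : Matrix ι ι F) - 1) *ᵥ v) = 0
    · obtain ⟨⟨k, hk⟩, -⟩ := halt hall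
      have := hmax g hg hall
      exact hfin (.inr ⟨k - 1, by omega⟩) (by rw [hrank]; simp; omega) (by simp [hall])
    · exact hfin (.inl ⟨((g.1 : Matrix ι ι F) - 1).rank - 1, by omega⟩) (by rw [hrank]; simp; omega) (by simp [hall])
  rw [← Nat.card_congr (Equiv.ofBijective f ⟨hinj, hsurj⟩)]
  simp

/-- Counting the classes of the commutator subgroup from representatives: a representative may split only if
it has no fixed non-singular vector. -/
theorem card_omega_classes (hexc : Fintype.card F ≠ 2 ∨ Fintype.card ι ≠ 4) {m A : ℕ}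
    (hm : Fintype.card ι = 2 * m) (hA : 2 * A ≤ m)
    (rep : Fin m ⊕ Fin A → Cfsg.isometryGroup F ⇑Q) (hord : ∀ i, orderOf (rep i) = 2)
    (hrank : ∀ i, (((rep i).1 : Matrix ι ι F) - 1).rank =
      Sum.elim (fun a : Fin m => (a : ℕ) + 1) (fun b : Fin A => 2 * ((b : ℕ) + 1)) i)
    (htype : ∀ i, (∀ v, Q ((((rep i).1 : Matrix ι ι F) - 1) *ᵥ v) = 0) ↔ i.isRight = true)
    (hmax : ∀ t : Cfsg.isometryGroup F ⇑Q, orderOf t = 2 → (∀ v, Q (((t.1 : Matrix ι ι F) - 1) *ᵥ v) = 0) →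
      ((t.1 : Matrix ι ι F) - 1).rank ≤ 2 * A)
    (hv : 0 < m → ∃ v, Q v ≠ 0) :
    Nat.card {C : ConjClasses ↥(Cfsg.Omega F ⇑Q) //
      ∃ g : ↥(Cfsg.Omega F ⇑Q), ConjClasses.mk g = C ∧ orderOf g = 2} =
      m / 2 + A + (if 2 * A = m ∧ 0 < m then 1 else 0) := by
  classical
  have h2 : ∀ x : Cfsg.isometryGroup F ⇑Q, orderOf x = 2 → x * x = 1 := fun x hx => by
    rw [← pow_two, ← hx, pow_orderOf_eq_one]
  have hmem : ∀ i, rep i ∈ Cfsg.Omega F ⇑Q ↔
      Even (Sum.elim (fun a : Fin m => (a : ℕ) + 1) (fun b : Fin A => 2 * ((b : ℕ) + 1)) i) := fun i => by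
    rw [mem_omega_iff_even hQ hexc, hrank]
  let idx : Fin (m / 2) ⊕ Fin A → Fin m ⊕ Fin A :=
    Sum.map (fun b => ⟨2 * (b : ℕ) + 1, by omega⟩) id
  have hidx : ∀ i, rep (idx i) ∈ Cfsg.Omega F ⇑Q := by
    intro i
    rw [hmem]
    rcases i with b | b
    · exact ⟨(b : ℕ) + 1, by simp [idx]; omega⟩
    · exact ⟨(b : ℕ) + 1, by simp [idx]; omega⟩
  -- the second class in the split case
  have hextra : ∀ _ : PLift (2 * A = m ∧ 0 < m), ∃ u : Cfsg.isometryGroup F ⇑Q,
      u ∈ Cfsg.Omega F ⇑Q ∧ IsConj (rep (.inr ⟨A - 1, by obtain ⟨h⟩ := ‹PLift _›; omega⟩)) u ∧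
        ¬ ∃ g ∈ Cfsg.Omega F ⇑Q, g * rep (.inr ⟨A - 1, by obtain ⟨h⟩ := ‹PLift _›; omega⟩) * g⁻¹ = u := by
    rintro ⟨hA', hm0⟩
    obtain ⟨v, hv⟩ := hv hm0
    have hlt : A - 1 < A := by omega
    set t := rep (.inr ⟨A - 1, hlt⟩) with ht
    set r := OrthRows.rf Q v hv
    refine ⟨r * t * r⁻¹, ?_, isConj_iff.2 ⟨r, rfl⟩, ?_⟩
    · exact (inferInstance : (Cfsg.Omega F ⇑Q).Normal).conj_mem _ (hidx (.inr ⟨A - 1, hlt⟩)) r
    · rintro ⟨g, hgO, hg⟩
      have hall : ∀ w, Q (((t.1 : Matrix ι ι F) - 1) *ᵥ w) = 0 := (htype _).2 rfl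
      have hr : ((t.1 : Matrix ι ι F) - 1).rank = m := by rw [ht, hrank]; simp; omega
      have heq := (card_omega_cent hQ hexc hm t (h2 _ (hord _))).2 hr hall ⟨A, by omega⟩
      have hbij := (Function.Injective.bijective_of_nat_card_le
        (f := fun g : {g : ↥(Cfsg.Omega F ⇑Q) // (g : Cfsg.isometryGroup F ⇑Q) * t = t * g} =>
          (⟨g.1.1, Subgroup.mem_centralizer_singleton_iff.2 g.2⟩ :
            Subgroup.centralizer ({t} : Set (Cfsg.isometryGroup F ⇑Q))))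
        (fun a b h => Subtype.ext (Subtype.ext (congrArg Subtype.val h :)))
        heq.ge).2
      have hc : r⁻¹ * g ∈ Subgroup.centralizer ({t} : Set (Cfsg.isometryGroup F ⇑Q)) := by
        rw [Subgroup.mem_centralizer_singleton_iff]
        calc r⁻¹ * g * t = r⁻¹ * (g * t * g⁻¹) * g := by group
          _ = t * (r⁻¹ * g) := by rw [hg]; group
      obtain ⟨z, hz⟩ := hbij ⟨_, hc⟩
      have h1 : OrthRows.dk hQ hexc (r⁻¹ * g) = 1 := by
        rw [show r⁻¹ * g = z.1.1 from (congrArg Subtype.val hz).symm]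
        exact (mem_omega_iff_dk hQ hexc).1 z.1.2
      rw [map_mul, map_inv, OrthRows.dk_rf, (mem_omega_iff_dk hQ hexc).1 hgO] at h1
      simp at h1
  choose extra hxmem hxconj hxnot using hextra
  let repO : (Fin (m / 2) ⊕ Fin A) ⊕ PLift (2 * A = m ∧ 0 < m) → Cfsg.Omega F ⇑Q :=
    Sum.elim (fun i => ⟨rep (idx i), hidx i⟩) (fun h => ⟨extra h, hxmem h⟩)
  have hordO : ∀ i, orderOf (repO i) = 2 := by
    intro i
    rw [← Subgroup.orderOf_coe]
    rcases i with i | h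
    · exact hord _
    · obtain ⟨g, hg⟩ := isConj_iff.1 (hxconj h)
      refine orderOf_eq_prime ?_ fun h1 => ?_
      · show extra h ^ 2 = 1
        have h1 := pow_orderOf_eq_one (rep (.inr ⟨A - 1, by obtain ⟨h'⟩ := h; omega⟩))
        rw [hord] at h1
        rw [← hg, conj_pow, h1, mul_one, mul_inv_cancel]
      · have h1' : extra h = 1 := h1
        rw [← hg, conj_eq_one_iff] at h1'
        have := hord (.inr ⟨A - 1, by obtain ⟨h'⟩ := h; omega⟩)
        rw [h1', orderOf_one] at this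
        omega
  let f : (Fin (m / 2) ⊕ Fin A) ⊕ PLift (2 * A = m ∧ 0 < m) → {C : ConjClasses ↥(Cfsg.Omega F ⇑Q) //
      ∃ g : ↥(Cfsg.Omega F ⇑Q), ConjClasses.mk g = C ∧ orderOf g = 2} :=
    fun i => ⟨ConjClasses.mk (repO i), repO i, rfl, hordO i⟩
  -- the class in the full group
  let base : (Fin (m / 2) ⊕ Fin A) ⊕ PLift (2 * A = m ∧ 0 < m) → Fin m ⊕ Fin A :=
    Sum.elim idx (fun h => .inr ⟨A - 1, by obtain ⟨h'⟩ := h; omega⟩)
  have hbase : ∀ i, IsConj (rep (base i)) (repO i).1 := by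
    rintro (i | h)
    · exact IsConj.refl _
    · exact hxconj h
  have hrepinj : ∀ i j, IsConj (rep i) (rep j) → i = j := by
    intro i j h
    obtain ⟨h1, h2⟩ := type_of_isConj h
    rw [htype, htype] at h2
    rw [hrank, hrank] at h1
    rcases i with i | i <;> rcases j with j | j <;> simp at h1 h2
    · exact congrArg Sum.inl (Fin.ext h1)
    · exact congrArg Sum.inr (Fin.ext h1)
  have hinj : Function.Injective f := by
    intro i j h
    have hO : IsConj (repO i) (repO j) := ConjClasses.mk_eq_mk_iff_isConj.1 (congrArg Subtype.val h)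
    obtain ⟨g, hg⟩ := isConj_iff.1 hO
    have hO' : IsConj (repO i).1 (repO j).1 := isConj_iff.2 ⟨g.1, congrArg Subtype.val hg⟩
    have hb : base i = base j := hrepinj _ _ ((hbase i).trans (hO'.trans (hbase j).symm))
    rcases i with i | hi <;> rcases j with j | hj
    · have : idx i = idx j := hb
      rcases i with a | a <;> rcases j with b | b <;> simp [idx, Fin.ext_iff] at this
      · exact congrArg Sum.inl (congrArg Sum.inl (Fin.ext (by omega)))
      · exact congrArg Sum.inl (congrArg Sum.inr (Fin.ext this))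
    · refine absurd ⟨g.1, g.2, ?_⟩ (hxnot hj)
      have e : idx i = .inr ⟨A - 1, by obtain ⟨h'⟩ := hj; omega⟩ := hb
      rw [← e]
      exact congrArg Subtype.val hg
    · refine absurd ⟨g.1⁻¹, inv_mem g.2, ?_⟩ (hxnot hi)
      have e : idx j = .inr ⟨A - 1, by obtain ⟨h'⟩ := hi; omega⟩ := hb.symm
      rw [← e]
      have := congrArg Subtype.val hg
      simp only [Subgroup.coe_mul, Subgroup.coe_inv] at this
      show (g.1)⁻¹ * (repO (.inl j)).1 * (g.1⁻¹)⁻¹ = (repO (.inr hi)).1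
      rw [← this]
      group
    · rw [Subsingleton.elim hi hj]
  have hsurj : Function.Surjective f := by
    rintro ⟨C, g, rfl, hg⟩
    have hgO : orderOf g.1 = 2 := by rw [Subgroup.orderOf_coe]; exact hg
    obtain ⟨hpos, hle, halt⟩ := rank_bounds hQ hm hgO
    obtain ⟨k, hk⟩ := (mem_omega_iff_even hQ hexc).1 g.2
    obtain ⟨i, hi⟩ : ∃ i : Fin (m / 2) ⊕ Fin A, IsConj (rep (idx i)) g.1 := by
      by_cases hall : ∀ v, Q (((g.1.1 : Matrix ι ι F) - 1) *ᵥ v) = 0
      · have := hmax g.1 hgO hall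
        refine ⟨.inr ⟨k - 1, by omega⟩, isConj_of_type hQ (h2 _ (hord _)) (h2 _ hgO) ?_ ?_⟩
        · rw [hrank]; simp [idx]; omega
        · rw [htype]; simp [idx, hall]
      · refine ⟨.inl ⟨k - 1, by omega⟩, isConj_of_type hQ (h2 _ (hord _)) (h2 _ hgO) ?_ ?_⟩
        · rw [hrank]; simp [idx]; omega
        · rw [htype]; simp [idx, hall]
    have fin : ∀ j, (∃ x ∈ Cfsg.Omega F ⇑Q, x * (repO j).1 * x⁻¹ = g.1) → ∃ i, f i = ⟨_, g, rfl, hg⟩ := by
      rintro j ⟨x, hxO, hx⟩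
      exact ⟨j, Subtype.ext (ConjClasses.mk_eq_mk_iff_isConj.2 (isConj_iff.2 ⟨⟨x, hxO⟩, Subtype.ext hx⟩))⟩
    by_cases hfix : ((((rep (idx i)).1 : Matrix ι ι F) - 1).rank = m ∧
        ∀ v, Q (v + ((rep (idx i)).1 : Matrix ι ι F) *ᵥ v) = 0)
    · obtain ⟨hr, hs⟩ := hfix
      have hall : ∀ v, Q ((((rep (idx i)).1 : Matrix ι ι F) - 1) *ᵥ v) = 0 := fun v => by
        rw [← hs v, Matrix.sub_mulVec, Matrix.one_mulVec, sub_eq_add_neg, add_comm]
        congr 2
        funext j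
        exact CharTwo.neg_eq (v j)
      rcases i with a | a
      · exact absurd ((htype _).1 hall) (by simp [idx])
      have hAm : 2 * A = m ∧ 0 < m := by
        rw [hrank] at hr
        simp [idx] at hr
        omega
      obtain ⟨x, hx⟩ := isConj_iff.1 hi
      rcases Int.units_eq_one_or (OrthRows.dk hQ hexc x) with e | e
      · exact fin (.inl (.inr a)) ⟨x, (mem_omega_iff_dk hQ hexc).2 e, hx⟩
      · obtain ⟨y, hy⟩ := isConj_iff.1 (hxconj ⟨hAm⟩)
        have hlast : idx (.inr a) = .inr ⟨A - 1, by omega⟩ := by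
          rw [hrank] at hr
          simp [idx, Fin.ext_iff] at hr ⊢
          omega
        rcases Int.units_eq_one_or (OrthRows.dk hQ hexc y) with e' | e'
        · exact absurd ⟨y, (mem_omega_iff_dk hQ hexc).2 e', hy⟩ (hxnot ⟨hAm⟩)
        refine fin (.inr ⟨hAm⟩) ⟨x * y⁻¹, (mem_omega_iff_dk hQ hexc).2 (by rw [map_mul, map_inv, e, e']; simp), ?_⟩
        show x * y⁻¹ * extra ⟨hAm⟩ * (x * y⁻¹)⁻¹ = g.1
        rw [← hy, ← hx, hlast]
        group
    · obtain ⟨v, hv, htv⟩ := exists_fixed_nonsingular hQ hm _ (h2 _ (hord _)) hfix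
      exact fin (.inl i) (exists_omega_conj hQ hexc hi hv htv)
  rw [← Nat.card_congr (Equiv.ofBijective f ⟨hinj, hsurj⟩), Nat.card_sum, Nat.card_sum, Nat.card_fin, Nat.card_fin]
  congr 1
  split_ifs with h
  · have : Unique (PLift (2 * A = m ∧ 0 < m)) := ⟨⟨⟨h⟩⟩, fun _ => rfl⟩
    exact Nat.card_unique
  · have : IsEmpty (PLift (2 * A = m ∧ 0 < m)) := ⟨fun x => h x.down⟩
    exact Nat.card_of_isEmpty

end matrices

section models

variable {F : Type*} [Field F] [Fintype F] [CharP F 2]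

open Matrix

omit [Fintype F] in
/-- Models of the involution types of the hyperbolic form. -/
theorem exists_plus_models (m : ℕ) :
    (∀ s, s ≤ m → ∃ T : (Fin m ⊕ Fin m → F) ≃ₗ[F] (Fin m ⊕ Fin m → F), (∀ v, Cfsg.quadFormPlus m F (T v) = Cfsg.quadFormPlus m F v) ∧
      (∀ v, T (T v) = v) ∧ rk T = s ∧ (0 < s → ∃ v, Cfsg.quadFormPlus m F (T v - v) ≠ 0)) ∧
    ∀ k, 2 * k ≤ m → ∃ T : (Fin m ⊕ Fin m → F) ≃ₗ[F] (Fin m ⊕ Fin m → F), (∀ v, Cfsg.quadFormPlus m F (T v) = Cfsg.quadFormPlus m F v) ∧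
      (∀ v, T (T v) = v) ∧ rk T = 2 * k ∧ ∀ v, Cfsg.quadFormPlus m F (T v - v) = 0 := by
  classical
  have h2 : (2 : F) = 0 := CharTwo.two_eq_zero
  refine ⟨fun s hs => ?_, fun k hk => ?_⟩
  · let sw : Fin m ⊕ Fin m → Fin m ⊕ Fin m :=
      Sum.elim (fun i => if (i : ℕ) < s then .inr i else .inl i) (fun i => if (i : ℕ) < s then .inl i else .inr i)
    have hsw : Function.Involutive sw := by
      rintro (i | i) <;> by_cases h : (i : ℕ) < s <;> simp [sw, h]
    let T : (Fin m ⊕ Fin m → F) ≃ₗ[F] (Fin m ⊕ Fin m → F) :=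
      LinearEquiv.ofInvolutive (LinearMap.funLeft F F sw) fun v => funext fun i => by
        simp [LinearMap.funLeft_apply, hsw i]
    have hT : ∀ v i, T v i = v (sw i) := fun v i => rfl
    refine ⟨T, fun v => ?_, fun v => funext fun i => by rw [hT, hT, hsw], ?_, fun hs0 => ?_⟩
    · simp only [Cfsg.quadFormPlus, hT]
      refine Finset.sum_congr rfl fun i _ => ?_
      by_cases h : (i : ℕ) < s <;> simp [sw, h, mul_comm]
    · let L : (Fin s → F) →ₗ[F] (Fin m ⊕ Fin m → F) := LinearMap.pi fun i =>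
        if h : (Sum.elim (fun a : Fin m => (a : ℕ)) (fun a : Fin m => (a : ℕ)) i) < s then LinearMap.proj ⟨_, h⟩ else 0
      have hL : ∀ c i, L c i = if h : (Sum.elim (fun a : Fin m => (a : ℕ)) (fun a : Fin m => (a : ℕ)) i) < s then c ⟨_, h⟩ else 0 := fun c i => by
        simp only [L, LinearMap.pi_apply]
        split_ifs <;> rfl
      have hLl : ∀ c (i : Fin m), L c (.inl i) = if h : (i : ℕ) < s then c ⟨i, h⟩ else 0 := fun c i => hL c (.inl i)
      have hLr : ∀ c (i : Fin m), L c (.inr i) = if h : (i : ℕ) < s then c ⟨i, h⟩ else 0 := fun c i => hL c (.inr i)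
      have hLinj : Function.Injective L := fun c c' h => funext fun i => by
        have := congrFun h (.inl ⟨i, lt_of_lt_of_le i.2 hs⟩)
        simpa [hLl] using this
      have e : mov T = LinearMap.range L := by
        refine le_antisymm ?_ ?_
        · intro v hv
          obtain ⟨y, rfl⟩ := mem_mov.1 hv
          refine ⟨fun i => y (.inl ⟨i, lt_of_lt_of_le i.2 hs⟩) + y (.inr ⟨i, lt_of_lt_of_le i.2 hs⟩), funext fun i => ?_⟩
          rcases i with i | i
          · rw [hLl, Pi.sub_apply, hT]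
            by_cases h : (i : ℕ) < s
            · simp only [sw, Sum.elim_inl, dif_pos h, if_pos h, Fin.eta]
              linear_combination (y (.inl i)) * h2
            · simp [sw, h]
          · rw [hLr, Pi.sub_apply, hT]
            by_cases h : (i : ℕ) < s
            · simp only [sw, Sum.elim_inr, dif_pos h, if_pos h, Fin.eta]
              linear_combination (y (.inr i)) * h2
            · simp [sw, h]
        · rintro v ⟨c, rfl⟩
          refine mem_mov.2 ⟨Sum.elim (fun i : Fin m => L c (.inl i)) 0, funext fun i => ?_⟩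
          rcases i with i | i
          · rw [Pi.sub_apply, hT]
            by_cases h : (i : ℕ) < s <;> simp [sw, h, hLl, CharTwo.neg_eq]
          · rw [Pi.sub_apply, hT]
            by_cases h : (i : ℕ) < s <;> simp [sw, h, hLl, hLr]
      rw [rk, e, LinearMap.finrank_range_of_inj hLinj, Module.finrank_fin_fun]
    · let a : Fin m := ⟨0, by omega⟩
      refine ⟨Pi.single (.inl a) 1, ?_⟩
      rw [Cfsg.quadFormPlus, Finset.sum_eq_single a]
      · simp [hT, sw, a, hs0]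
      · intro i _ hi
        by_cases h : (i : ℕ) < s <;> simp [hT, sw, h, hi]
      · simp
  · set s := 2 * k
    let σf : Fin m → Fin m := fun i => if h : (i : ℕ) < s then
      ⟨if (i : ℕ) % 2 = 0 then i + 1 else i - 1, by split_ifs <;> omega⟩ else i
    have hσ : Function.Involutive σf := fun i => by
      by_cases h : (i : ℕ) < s
      · apply Fin.ext
        simp only [σf, dif_pos h]
        have h' : (if (i : ℕ) % 2 = 0 then (i : ℕ) + 1 else (i : ℕ) - 1) < s := by split_ifs <;> omega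
        rw [dif_pos h']
        simp only
        split_ifs <;> omega
      · simp only [σf, dif_neg h]
    have hlt : ∀ i : Fin m, (σf i : ℕ) < s ↔ (i : ℕ) < s := fun i => by
      by_cases h : (i : ℕ) < s
      · simp only [σf, dif_pos h]; split_ifs <;> omega
      · simp only [σf, dif_neg h]
    have hfix : ∀ i : Fin m, (i : ℕ) < s → σf i ≠ i := fun i h he => by
      have := congrArg Fin.val he
      simp only [σf, dif_pos h] at this
      split_ifs at this <;> omega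
    let P : Fin m ⊕ Fin m → ((Fin m ⊕ Fin m → F) →ₗ[F] F) := fun i => LinearMap.proj i
    let L : (Fin m ⊕ Fin m → F) →ₗ[F] (Fin m ⊕ Fin m → F) := LinearMap.pi
      (Sum.elim (fun a : Fin m => P (Sum.inl a) + if (a : ℕ) < s then P (Sum.inr (σf a)) else 0)
        (fun a : Fin m => P (Sum.inr a)))
    have hLl : ∀ v a, L v (.inl a) = v (.inl a) + if (a : ℕ) < s then v (.inr (σf a)) else 0 := fun v a => by
      simp only [L, LinearMap.pi_apply, Sum.elim_inl, LinearMap.add_apply]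
      split_ifs <;> rfl
    have hLr : ∀ v a, L v (.inr a) = v (.inr a) := fun v a => rfl
    have hinv : ∀ v, L (L v) = v := fun v => funext fun i => by
      rcases i with a | a
      · rw [hLl, hLl]
        split_ifs with h
        · rw [hLr]; linear_combination (v (.inr (σf a))) * h2
        · simp
      · rw [hLr, hLr]
    let T : (Fin m ⊕ Fin m → F) ≃ₗ[F] (Fin m ⊕ Fin m → F) := LinearEquiv.ofInvolutive L hinv
    have hT : ∀ v, T v = L v := fun v => rfl
    refine ⟨T, fun v => ?_, hinv, ?_, fun v => ?_⟩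
    · simp only [Cfsg.quadFormPlus, hT, hLl, hLr, add_mul, Finset.sum_add_distrib]
      rw [add_eq_left]
      refine Finset.sum_involution (fun i _ => σf i) (fun i _ => ?_) (fun i _ hi => ?_) (fun i _ => Finset.mem_univ _)
        (fun i _ => hσ i)
      · by_cases h : (i : ℕ) < s
        · rw [if_pos h, if_pos ((hlt i).2 h), hσ i, mul_comm (v (.inr i)), CharTwo.add_self_eq_zero]
        · rw [if_neg h, if_neg (mt (hlt i).1 h)]; simp
      · by_cases h : (i : ℕ) < s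
        · exact hfix i h
        · simp [h] at hi
    · let M : (Fin s → F) →ₗ[F] (Fin m ⊕ Fin m → F) := LinearMap.pi fun i =>
        Sum.elim (fun a : Fin m => if h : (a : ℕ) < s then LinearMap.proj ⟨_, h⟩ else 0) (fun _ => 0) i
      have hMl : ∀ c a, M c (.inl a) = if h : (a : ℕ) < s then c ⟨_, h⟩ else 0 := fun c a => by
        simp only [M, LinearMap.pi_apply, Sum.elim_inl]
        split_ifs <;> rfl
      have hMr : ∀ c a, M c (.inr a) = 0 := fun c a => rfl
      have hMinj : Function.Injective M := fun c c' h => funext fun i => by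
        have := congrFun h (.inl ⟨i, lt_of_lt_of_le i.2 hk⟩)
        simpa [hMl] using this
      have e : mov T = LinearMap.range M := by
        refine le_antisymm ?_ ?_
        · intro v hv
          obtain ⟨y, rfl⟩ := mem_mov.1 hv
          refine ⟨fun i => y (.inr (σf ⟨i, lt_of_lt_of_le i.2 hk⟩)), funext fun i => ?_⟩
          rcases i with a | a
          · rw [hMl, Pi.sub_apply, hT, hLl]
            by_cases h : (a : ℕ) < s <;> simp [h]
          · rw [hMr, Pi.sub_apply, hT, hLr, sub_self]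
        · rintro v ⟨c, rfl⟩
          refine mem_mov.2 ⟨Sum.elim 0 (fun a : Fin m => M c (.inl (σf a))), funext fun i => ?_⟩
          rcases i with a | a
          · rw [Pi.sub_apply, hT, hLl, Sum.elim_inl, Sum.elim_inr, hσ a, hMl]
            by_cases h : (a : ℕ) < s <;> simp [h]
          · rw [Pi.sub_apply, hT, hLr, sub_self, hMr]
      rw [rk, e, LinearMap.finrank_range_of_inj hMinj, Module.finrank_fin_fun]
    · rw [Cfsg.quadFormPlus]
      exact Finset.sum_eq_zero fun i _ => by rw [Pi.sub_apply, Pi.sub_apply, hT, hLr, sub_self, mul_zero]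

omit [Fintype F] [CharP F 2] in
/-- Linear maps on a product. -/
theorem rk_prod {V W : Type*} [AddCommGroup V] [Module F V] [FiniteDimensional F V] [AddCommGroup W] [Module F W]
    [FiniteDimensional F W] {U : Type*} [AddCommGroup U] [Module F U] [FiniteDimensional F U]
    (L : U ≃ₗ[F] V × W) (g : V ≃ₗ[F] V) (h : W ≃ₗ[F] W) :
    rk ((L.trans (g.prodCongr h)).trans L.symm) = rk g + rk h := by
  have e : (mov ((L.trans (g.prodCongr h)).trans L.symm)).map (L : U →ₗ[F] V × W) = (mov g).prod (mov h) := by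
    rw [mov, mov, mov, ← LinearMap.range_comp, ← LinearMap.range_prodMap,
      show (L : U →ₗ[F] V × W).comp ((((L.trans (g.prodCongr h)).trans L.symm) : U →ₗ[F] U) - LinearMap.id) =
        (((g : V →ₗ[F] V) - LinearMap.id).prodMap ((h : W →ₗ[F] W) - LinearMap.id)).comp (L : U →ₗ[F] V × W) from
        LinearMap.ext fun x => by simp [map_sub, Prod.ext_iff]]
    exact LinearMap.range_comp_of_range_eq_top _ (LinearEquiv.range L)
  rw [rk, rk, rk, ← LinearEquiv.finrank_map_eq L (mov ((L.trans (g.prodCongr h)).trans L.symm))]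
  rw [show (mov ((L.trans (g.prodCongr h)).trans L.symm)).map (L : U →ₗ[F] V × W) = (mov g).prod (mov h) from e]
  let eP : ((mov g).prod (mov h)) ≃ₗ[F] (mov g) × (mov h) :=
    { toFun := fun x => (⟨x.1.1, x.2.1⟩, ⟨x.1.2, x.2.2⟩)
      map_add' := fun x y => rfl
      map_smul' := fun c x => rfl
      invFun := fun p => ⟨(p.1.1, p.2.1), p.1.2, p.2.2⟩
      left_inv := fun x => rfl
      right_inv := fun p => rfl }
  rw [eP.finrank_eq, Module.finrank_prod]

/-- Models of the involution types of the elliptic form. -/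
theorem exists_minus_models (k : ℕ) (a b : F)
    (hab : ∀ z₁ z₂ : F, z₁ ^ 2 + a * z₁ * z₂ + b * z₂ ^ 2 = 0 → z₁ = 0 ∧ z₂ = 0) :
    (∀ s, 0 < s → s ≤ k + 1 → ∃ T : ((Fin k ⊕ Fin k) ⊕ Fin 2 → F) ≃ₗ[F] ((Fin k ⊕ Fin k) ⊕ Fin 2 → F),
      (∀ v, Cfsg.quadFormMinus k F a b (T v) = Cfsg.quadFormMinus k F a b v) ∧
      (∀ v, T (T v) = v) ∧ rk T = s ∧ ∃ v, Cfsg.quadFormMinus k F a b (T v - v) ≠ 0) ∧
    ∀ j, 2 * j ≤ k → ∃ T : ((Fin k ⊕ Fin k) ⊕ Fin 2 → F) ≃ₗ[F] ((Fin k ⊕ Fin k) ⊕ Fin 2 → F),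
      (∀ v, Cfsg.quadFormMinus k F a b (T v) = Cfsg.quadFormMinus k F a b v) ∧
      (∀ v, T (T v) = v) ∧ rk T = 2 * j ∧ ∀ v, Cfsg.quadFormMinus k F a b (T v - v) = 0 := by
  classical
  have h2 : (2 : F) = 0 := CharTwo.two_eq_zero
  have ha : a ≠ 0 := by
    intro h0
    obtain ⟨c, hc⟩ : IsSquare b := FiniteField.isSquare_of_char_two (ringChar.eq F 2) _
    have := (hab c 1 (by rw [h0, hc]; linear_combination (c * c) * h2)).2
    exact one_ne_zero this
  let L : ((Fin k ⊕ Fin k) ⊕ Fin 2 → F) ≃ₗ[F] (Fin k ⊕ Fin k → F) × (Fin 2 → F) :=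
    LinearEquiv.sumArrowLequivProdArrow _ _ F F
  let B : (Fin 2 → F) → F := fun z => z 0 ^ 2 + a * z 0 * z 1 + b * z 1 ^ 2
  have hq : ∀ v, Cfsg.quadFormMinus k F a b v = Cfsg.quadFormPlus k F (L v).1 + B (L v).2 := fun v => rfl
  -- the reflection of the anisotropic plane
  let R₀ : (Fin 2 → F) →ₗ[F] (Fin 2 → F) := LinearMap.pi fun i =>
    if i = 0 then LinearMap.proj 0 + a • LinearMap.proj 1 else LinearMap.proj 1
  have hR0 : ∀ z, R₀ z 0 = z 0 + a * z 1 := fun z => by simp [R₀]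
  have hR1 : ∀ z, R₀ z 1 = z 1 := fun z => by simp [R₀]
  have hRinv : ∀ z, R₀ (R₀ z) = z := fun z => funext fun i => by
    fin_cases i
    · show R₀ (R₀ z) 0 = z 0
      rw [hR0, hR0, hR1]; linear_combination (a * z 1) * h2
    · show R₀ (R₀ z) 1 = z 1
      rw [hR1, hR1]
  let R : (Fin 2 → F) ≃ₗ[F] (Fin 2 → F) := LinearEquiv.ofInvolutive R₀ hRinv
  have hR : ∀ z, R z = R₀ z := fun z => rfl
  have hRB : ∀ z, B (R z) = B z := fun z => by
    simp only [B, hR, hR0, hR1]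
    linear_combination (a ^ 2 * z 1 ^ 2 + a * z 0 * z 1) * h2
  have hRrk : rk R = 1 := by
    have e : mov R = F ∙ (Pi.single 0 1 : Fin 2 → F) := by
      refine le_antisymm ?_ (Submodule.span_le.2 (Set.singleton_subset_iff.2 ?_))
      · intro v hv
        obtain ⟨y, rfl⟩ := mem_mov.1 hv
        refine Submodule.mem_span_singleton.2 ⟨a * y 1, funext fun i => ?_⟩
        fin_cases i <;> simp [hR, hR0, hR1]
      · refine mem_mov.2 ⟨Pi.single 1 a⁻¹, funext fun i => ?_⟩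
        fin_cases i <;> simp [hR, hR0, hR1, ha]
    rw [rk, e, finrank_span_singleton]
    intro h
    simpa using congrFun h 0
  have h1rk : rk (1 : (Fin 2 → F) ≃ₗ[F] (Fin 2 → F)) = 0 := by
    rw [rk, Submodule.finrank_eq_zero, eq_bot_iff]
    intro v hv
    obtain ⟨y, rfl⟩ := mem_mov.1 hv
    simp
  have build : ∀ (g : (Fin k ⊕ Fin k → F) ≃ₗ[F] (Fin k ⊕ Fin k → F)) (h : (Fin 2 → F) ≃ₗ[F] (Fin 2 → F)),
      (∀ v, Cfsg.quadFormPlus k F (g v) = Cfsg.quadFormPlus k F v) → (∀ v, g (g v) = v) →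
      (∀ z, B (h z) = B z) → (∀ z, h (h z) = z) →
      ∃ T : ((Fin k ⊕ Fin k) ⊕ Fin 2 → F) ≃ₗ[F] ((Fin k ⊕ Fin k) ⊕ Fin 2 → F),
        (∀ v, Cfsg.quadFormMinus k F a b (T v) = Cfsg.quadFormMinus k F a b v) ∧ (∀ v, T (T v) = v) ∧
        rk T = rk g + rk h ∧ ∀ v, Cfsg.quadFormMinus k F a b (T v - v) =
          Cfsg.quadFormPlus k F (g (L v).1 - (L v).1) + B (h (L v).2 - (L v).2) := by
    intro g h hg hg2 hh hh2
    refine ⟨(L.trans (g.prodCongr h)).trans L.symm, fun v => ?_, fun v => ?_, rk_prod L g h, fun v => ?_⟩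
    · rw [hq, hq, LinearEquiv.trans_apply, L.apply_symm_apply]
      simp [hg, hh]
    · apply L.injective
      simp [hg2, hh2]
    · rw [hq, map_sub, LinearEquiv.trans_apply, L.apply_symm_apply]
      simp
  obtain ⟨hb, halt⟩ := exists_plus_models (F := F) k
  refine ⟨fun s hs0 hs => ?_, fun j hj => ?_⟩
  · obtain ⟨g, hg, hg2, hgrk, -⟩ := hb (s - 1) (by omega)
    obtain ⟨T, hT, hT2, hTrk, hTq⟩ := build g R hg hg2 hRB hRinv
    refine ⟨T, hT, hT2, by rw [hTrk, hgrk, hRrk]; omega, L.symm (0, Pi.single 1 1), ?_⟩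
    rw [hTq, L.apply_symm_apply]
    simp [Cfsg.quadFormPlus, B, hR, hR0, hR1, ha]
  · obtain ⟨g, hg, hg2, hgrk, hgall⟩ := halt j hj
    obtain ⟨T, hT, hT2, hTrk, hTq⟩ := build g 1 hg hg2 (fun z => rfl) (fun z => rfl)
    refine ⟨T, hT, hT2, by rw [hTrk, hgrk, h1rk, add_zero], fun v => ?_⟩
    rw [hTq, hgall]
    simp [B]

end models

section reps

open Matrix

variable {F : Type*} [Field F] [Fintype F] [CharP F 2] {ι : Type} [Fintype ι] [DecidableEq ι]
  {Q : QuadraticForm F (ι → F)}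

omit [Fintype F] [CharP F 2] in
/-- An involutive isometry gives an element of the matrix group. -/
theorem exists_rep (T : (ι → F) ≃ₗ[F] (ι → F)) (hT : ∀ v, Q (T v) = Q v) (hT2 : ∀ v, T (T v) = v) (h0 : 0 < rk T) :
    ∃ t : Cfsg.isometryGroup F ⇑Q, orderOf t = 2 ∧ ((t.1 : Matrix ι ι F) - 1).rank = rk T ∧
      ∀ v, ((t.1 : Matrix ι ι F) - 1) *ᵥ v = T v - v := by
  refine ⟨(oEquiv Q).symm ⟨T, hT⟩, ?_, ?_, fun v => ?_⟩
  · refine orderOf_eq_prime ?_ fun h1 => ?_
    · apply (oEquiv Q).injective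
      rw [map_pow, MulEquiv.apply_symm_apply, map_one, pow_two]
      exact Subtype.ext (LinearEquiv.ext hT2)
    · have h := congrArg (fun x => rk (oEquiv Q x).1) h1
      simp only [MulEquiv.apply_symm_apply, map_one] at h
      have hz : rk (1 : (ι → F) ≃ₗ[F] (ι → F)) = 0 := by
        rw [rk, Submodule.finrank_eq_zero, eq_bot_iff]
        intro v hv
        obtain ⟨y, rfl⟩ := mem_mov.1 hv
        simp
      rw [show ((1 : oGroup Q) : (ι → F) ≃ₗ[F] (ι → F)) = 1 from rfl, hz] at h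
      omega
  · rw [← rk_eq_rank, MulEquiv.apply_symm_apply]
  · rw [← oEquiv_sub_apply, MulEquiv.apply_symm_apply]

end reps

end Cfsg.Agent.OrthChar2

namespace Cfsg.Agent.OrthChar2

open Matrix Cfsg.Agent.FormsLib Cfsg.Agent.Spinor

variable {F : Type*} [Field F] [Fintype F] [CharP F 2]

/-- Representatives of the classes of involutions for the hyperbolic form. -/
theorem exists_plus_reps (m : ℕ) :
    ∃ rep : Fin m ⊕ Fin (m / 2) → Cfsg.isometryGroup F ⇑(OrthOrder.qPlus m F),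
      (∀ i, orderOf (rep i) = 2) ∧
      (∀ i, (((rep i).1 : Matrix (Fin m ⊕ Fin m) (Fin m ⊕ Fin m) F) - 1).rank =
        Sum.elim (fun a : Fin m => (a : ℕ) + 1) (fun b : Fin (m / 2) => 2 * ((b : ℕ) + 1)) i) ∧
      ∀ i, (∀ v, OrthOrder.qPlus m F ((((rep i).1 : Matrix (Fin m ⊕ Fin m) (Fin m ⊕ Fin m) F) - 1) *ᵥ v) = 0) ↔ i.isRight = true := by
  classical
  have hq : ∀ v, OrthOrder.qPlus m F v = Cfsg.quadFormPlus m F v := OrthOrder.qPlus_apply m
  obtain ⟨hb, halt⟩ := exists_plus_models (F := F) m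
  have key : ∀ i : Fin m ⊕ Fin (m / 2), ∃ t : Cfsg.isometryGroup F ⇑(OrthOrder.qPlus m F), orderOf t = 2 ∧
      ((t.1 : Matrix (Fin m ⊕ Fin m) (Fin m ⊕ Fin m) F) - 1).rank =
        Sum.elim (fun a : Fin m => (a : ℕ) + 1) (fun b : Fin (m / 2) => 2 * ((b : ℕ) + 1)) i ∧
      ((∀ v, OrthOrder.qPlus m F (((t.1 : Matrix (Fin m ⊕ Fin m) (Fin m ⊕ Fin m) F) - 1) *ᵥ v) = 0) ↔ i.isRight = true) := by
    rintro (a | b)
    · obtain ⟨T, hT, hT2, hrk, hne⟩ := hb ((a : ℕ) + 1) (by omega)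
      obtain ⟨v, hv⟩ := hne (by omega)
      obtain ⟨t, h1, h2, h3⟩ := exists_rep (Q := OrthOrder.qPlus m F) T (fun w => by rw [hq, hq, hT]) hT2 (by omega)
      refine ⟨t, h1, by rw [h2, hrk]; rfl, ?_⟩
      simp only [Sum.isRight_inl, Bool.false_eq_true, iff_false, not_forall]
      exact ⟨v, by rw [h3, hq]; exact hv⟩
    · obtain ⟨T, hT, hT2, hrk, hall⟩ := halt ((b : ℕ) + 1) (by omega)
      obtain ⟨t, h1, h2, h3⟩ := exists_rep (Q := OrthOrder.qPlus m F) T (fun w => by rw [hq, hq, hT]) hT2 (by omega)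
      refine ⟨t, h1, by rw [h2, hrk]; rfl, ?_⟩
      simp only [Sum.isRight_inr, iff_true]
      exact fun v => by rw [h3, hq]; exact hall v
  choose rep h1 h2 h3 using key
  exact ⟨rep, h1, h2, h3⟩

/-- Representatives and bounds for the elliptic form. -/
theorem exists_minus_data (k : ℕ) (a b : F)
    (hab : ∀ z₁ z₂ : F, z₁ ^ 2 + a * z₁ * z₂ + b * z₂ ^ 2 = 0 → z₁ = 0 ∧ z₂ = 0)
    (Q : QuadraticForm F ((Fin k ⊕ Fin k) ⊕ Fin 2 → F)) (hq : ⇑Q = Cfsg.quadFormMinus k F a b)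
    (hQ : (QuadraticMap.polarBilin Q).Nondegenerate) :
    (∃ rep : Fin (k + 1) ⊕ Fin (k / 2) → Cfsg.isometryGroup F ⇑Q, (∀ i, orderOf (rep i) = 2) ∧
      (∀ i, (((rep i).1 : Matrix ((Fin k ⊕ Fin k) ⊕ Fin 2) ((Fin k ⊕ Fin k) ⊕ Fin 2) F) - 1).rank =
        Sum.elim (fun a : Fin (k + 1) => (a : ℕ) + 1) (fun b : Fin (k / 2) => 2 * ((b : ℕ) + 1)) i) ∧
      ∀ i, (∀ v, Q ((((rep i).1 : Matrix ((Fin k ⊕ Fin k) ⊕ Fin 2) ((Fin k ⊕ Fin k) ⊕ Fin 2) F) - 1) *ᵥ v) = 0) ↔ i.isRight = true) ∧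
    ∀ t : Cfsg.isometryGroup F ⇑Q, orderOf t = 2 → (∀ v, Q (((t.1 : Matrix ((Fin k ⊕ Fin k) ⊕ Fin 2) ((Fin k ⊕ Fin k) ⊕ Fin 2) F) - 1) *ᵥ v) = 0) →
      ((t.1 : Matrix ((Fin k ⊕ Fin k) ⊕ Fin 2) ((Fin k ⊕ Fin k) ⊕ Fin 2) F) - 1).rank ≤ 2 * (k / 2) := by
  classical
  refine ⟨?_, fun t ht hall => ?_⟩
  · obtain ⟨hb, halt⟩ := exists_minus_models k a b hab
    have key : ∀ i : Fin (k + 1) ⊕ Fin (k / 2), ∃ t : Cfsg.isometryGroup F ⇑Q, orderOf t = 2 ∧
        ((t.1 : Matrix ((Fin k ⊕ Fin k) ⊕ Fin 2) ((Fin k ⊕ Fin k) ⊕ Fin 2) F) - 1).rank =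
          Sum.elim (fun a : Fin (k + 1) => (a : ℕ) + 1) (fun b : Fin (k / 2) => 2 * ((b : ℕ) + 1)) i ∧
        ((∀ v, Q (((t.1 : Matrix ((Fin k ⊕ Fin k) ⊕ Fin 2) ((Fin k ⊕ Fin k) ⊕ Fin 2) F) - 1) *ᵥ v) = 0) ↔ i.isRight = true) := by
      rintro (c | c)
      · obtain ⟨T, hT, hT2, hrk, v, hv⟩ := hb ((c : ℕ) + 1) (by omega) (by omega)
        obtain ⟨t, h1, h2, h3⟩ := exists_rep (Q := Q) T (fun w => by rw [hq, hT]) hT2 (by omega)
        refine ⟨t, h1, by rw [h2, hrk]; rfl, ?_⟩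
        simp only [Sum.isRight_inl, Bool.false_eq_true, iff_false, not_forall]
        exact ⟨v, by rw [h3, hq]; exact hv⟩
      · obtain ⟨T, hT, hT2, hrk, hall⟩ := halt ((c : ℕ) + 1) (by omega)
        obtain ⟨t, h1, h2, h3⟩ := exists_rep (Q := Q) T (fun w => by rw [hq, hT]) hT2 (by omega)
        refine ⟨t, h1, by rw [h2, hrk]; rfl, ?_⟩
        simp only [Sum.isRight_inr, iff_true]
        exact fun v => by rw [h3, hq]; exact hall v
    choose rep h1 h2 h3 using key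
    exact ⟨rep, h1, h2, h3⟩
  · obtain ⟨-, hle, h⟩ := rank_bounds hQ (m := k + 1) (by simp; omega) ht
    obtain ⟨⟨j, hj⟩, h'⟩ := h hall
    have hsum : ∑ v, chi (Q v) = -(Fintype.card F : ℤ) ^ (k + 1) := by
      rw [hq]; exact sum_chi_minus k a b hab
    have hneg : (∑ v, chi (Q v)) < 0 := by
      rw [hsum]
      have : 0 < (Fintype.card F : ℤ) ^ (k + 1) := pow_pos (by exact_mod_cast Fintype.card_pos) _
      omega
    rcases h' hneg with h'' | h''
    · omega
    · exact absurd hsum h''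

end Cfsg.Agent.OrthChar2
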