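import Cfsg.Agent.Lib.Spinor.Restrict
import Cfsg.Agent.Lib.LinearGroups.FormCount

/-!
The Hermitian form `h(v, v)` as a quadratic form over the subfield, and its type.
-/

set_option autoImplicit false

namespace Cfsg.Agent.Restrict

open Cfsg.Agent.FormsLib
open scoped Matrix

variable {K F : Type*} [Field K] [Fintype K] [Field F] [Fintype F] [Algebra F K] {q : ℕ}

theorem exists_hermQuad (hK : Fintype.card K = q ^ 2) (hF : Fintype.card F = q) (m : ℕ) :
    ∃ Q : QuadraticForm F (Fin m → K), (QuadraticMap.polarBilin Q).Nondegenerate ∧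
      ∀ v, algebraMap F K (Q v) = Cfsg.hermForm m K q v v := by
  obtain ⟨t, ht⟩ : ∃ t : K, Algebra.trace F K t = 1 := by
    obtain ⟨x, hx⟩ := DFunLike.ne_iff.1 (Algebra.trace_ne_zero F K)
    exact ⟨(Algebra.trace F K x)⁻¹ • x, by rw [map_smul, smul_eq_mul, inv_mul_cancel₀ hx]⟩
  refine ⟨LinearMap.BilinMap.toQuadraticMap (hForm K F hF m t), ?_, fun v => ?_⟩
  · suffices h : QuadraticMap.polarBilin (LinearMap.BilinMap.toQuadraticMap (hForm K F hF m t)) =
        hForm K F hF m 1 by
      rw [h]; exact hForm_nondeg hF m one_ne_zero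
    refine LinearMap.ext₂ fun u v => ?_
    rw [QuadraticMap.polarBilin_apply_apply, LinearMap.BilinMap.polar_toQuadraticMap, hForm_apply,
      hForm_apply, hForm_apply, ← map_add, one_mul]
    apply (algebraMap F K).injective
    have e : ∀ h : K, t * h + t * h ^ q = t * (h + h ^ q) := fun h => by ring
    rw [herm_swap hK hF m u v, e,
      trace_eq_of_fixed hK hF (by rw [← algebraMap_trace hK hF, pow_algebraMap hF]), ht, map_one,
      mul_one, algebraMap_trace hK hF]
  · rw [LinearMap.BilinMap.toQuadraticMap_apply, hForm_apply,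
      trace_eq_of_fixed hK hF (herm_self_fixed (F := F) hK hF m v), ht, map_one, mul_one]

/-- An embedding of the unitary group from an isometry to a quadratic space over the subfield. -/
theorem gu_embeds {m : ℕ} {Q : QuadraticForm F (Fin m → K)}
    (hQ : ∀ v, algebraMap F K (Q v) = Cfsg.hermForm m K q v v) {ι : Type} [Fintype ι] [DecidableEq ι]
    (Q' : (ι → F) → F) (L : (Fin m → K) ≃ₗ[F] (ι → F)) (hL : ∀ v, Q' (L v) = Q v) :
    ∃ φ : Cfsg.GU m K q →* Cfsg.isometryGroup F Q', Function.Injective φ := by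
  refine ⟨((Units.map (Φ L)).comp (Cfsg.GU m K q).subtype).codRestrict (Cfsg.isometryGroup F Q')
    fun g u _ => ?_, fun g g' h => Subtype.ext (Units.map_injective (Φ_injective L)
      (congrArg Subtype.val h))⟩
  obtain ⟨u, rfl⟩ := L.surjective u
  show Q' (Φ L (g : Matrix.GeneralLinearGroup (Fin m) K).1 *ᵥ L u) = Q' (L u)
  rw [Φ_mulVec, LinearEquiv.symm_apply_apply, hL, hL]
  apply (algebraMap F K).injective
  rw [hQ, hQ]
  exact g.2 u u

theorem card_zero_herm (hK : Fintype.card K = q ^ 2) (hF : Fintype.card F = q) {m : ℕ}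
    {Q : QuadraticForm F (Fin m → K)} (hQ : ∀ v, algebraMap F K (Q v) = Cfsg.hermForm m K q v v) :
    (q : ℤ) * Nat.card {v // Q v = 0} =
      (q : ℤ) ^ (2 * m) + (-1) ^ m * (q : ℤ) ^ m * ((q : ℤ) - 1) := by
  classical
  have hq : 0 < q := hF ▸ Fintype.card_pos
  have h := FormCount.card_herm (F := K) (q := q) hK m 0 (zero_pow hq.ne')
  rw [if_pos rfl, mul_one] at h
  rw [← h]
  congr 2
  exact Nat.card_congr (Equiv.subtypeEquivRight fun v => by
    rw [← (algebraMap F K).injective.eq_iff, hQ, map_zero])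

theorem card_congr_zero {W W' : Type*} {G : Type*} [AddCommMonoid W] [AddCommMonoid W']
    [Module F W] [Module F W'] [Zero G] {Q : W → G} {Q' : W' → G} (L : W ≃ₗ[F] W')
    (hL : ∀ v, Q' (L v) = Q v) : Nat.card {v // Q v = 0} = Nat.card {v // Q' v = 0} :=
  Nat.card_congr (Equiv.subtypeEquiv L.toEquiv fun v => by rw [← hL v]; rfl)

/-- The group is trivial in dimension zero. -/
theorem gu_zero_embeds {H : Type*} [Group H] :
    ∃ φ : Cfsg.GU 0 K q →* H, Function.Injective φ :=
  ⟨1, fun g g' _ => Subtype.ext (Units.ext (Subsingleton.elim _ _))⟩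

end Cfsg.Agent.Restrict
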