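import Cfsg.Agent.Lib.Spinor.Products
import Cfsg.Agent.Lib.Discriminant.Gram

/-!
Involutions negating hyperbolic pairs.
-/

set_option autoImplicit false

namespace Cfsg.Agent.Spinor

open Cfsg.Agent.FormsLib

theorem pow_mod_four {q : ℕ} (hq : Odd q) (i : ℕ) :
    q ^ i % 4 = 1 ↔ Even (i * (q - 1) / 2) := by
  obtain ⟨w, rfl⟩ := hq
  have h2 : i * (2 * w + 1 - 1) / 2 = i * w := by
    rw [Nat.add_sub_cancel, mul_left_comm, Nat.mul_div_cancel_left _ two_pos]
  rw [h2, Nat.even_mul, Nat.pow_mod]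
  rcases Nat.even_or_odd w with hw | hw
  · obtain ⟨u, rfl⟩ := hw
    rw [show (2 * (u + u) + 1) % 4 = 1 by omega, one_pow]
    simp
  · obtain ⟨u, rfl⟩ := hw
    rw [show (2 * (2 * u + 1) + 1) % 4 = 3 by omega]
    rcases Nat.even_or_odd i with hi | hi
    · obtain ⟨j, rfl⟩ := hi
      rw [← two_mul, pow_mul, Nat.pow_mod]
      simp
    · obtain ⟨j, rfl⟩ := hi
      rw [pow_succ, pow_mul, Nat.mul_mod, Nat.pow_mod]
      simp [Nat.not_even_iff_odd.2 (⟨j, rfl⟩ : Odd (2 * j + 1)), Nat.not_even_iff_odd.2 (⟨u, rfl⟩ : Odd (2 * u + 1))]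

/-- The involution negating `i` orthogonal hyperbolic pairs lies in `Omega` exactly when
`q ^ i % 4 = 1`. -/
theorem pairs_iff {F : Type*} [Field F] [Fintype F] {q : ℕ} (hF : Fintype.card F = q) (hq : Odd q)
    {κ : Type} [Fintype κ] [DecidableEq κ] (Q : QuadraticForm F (κ → F))
    (hQ : (QuadraticMap.polarBilin Q).Nondegenerate) {Qf : (κ → F) → F} (hQf : ⇑Q = Qf) {i : ℕ}
    (e f : Fin i → κ) (S : κ → Prop) [DecidablePred S]
    (hS : ∀ k, S k ↔ ∃ j, k = e j ∨ k = f j)
    (hQe : ∀ j, Q (Pi.single (e j) 1) = 0) (hQff : ∀ j, Q (Pi.single (f j) 1) = 0)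
    (hee : ∀ j j', j ≠ j' → QuadraticMap.polar Q (Pi.single (e j) 1) (Pi.single (e j') 1) = 0)
    (hff : ∀ j j', j ≠ j' → QuadraticMap.polar Q (Pi.single (f j) 1) (Pi.single (f j') 1) = 0)
    (hef : ∀ j j', QuadraticMap.polar Q (Pi.single (e j) 1) (Pi.single (f j') 1) =
      if j = j' then 1 else 0)
    (hout : ∀ k, ¬ S k → ∀ j, QuadraticMap.polar Q (Pi.single k 1) (Pi.single (e j) 1) = 0 ∧
      QuadraticMap.polar Q (Pi.single k 1) (Pi.single (f j) 1) = 0) :
    (∃ g : Cfsg.isometryGroup F Qf, g ∈ Cfsg.Omega F Qf ∧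
      ((g : Matrix.GeneralLinearGroup κ F) : Matrix κ κ F) =
        Matrix.diagonal fun k => if S k then (-1 : F) else 1) ↔ q ^ i % 4 = 1 := by
  classical
  subst hQf hF
  have h2 := Disc.two_ne_zero_of_odd hq
  have hgen := reflGroup_eq_top_of_odd hQ h2
  set x := fun j => (Pi.single (e j) 1 : κ → F) with hx
  set y := fun j => (Pi.single (f j) 1 : κ → F) with hy
  let b : Fin i ⊕ Fin i → κ → F := Sum.elim (fun j => x j + y j) (fun j => x j - y j)
  have hxx : ∀ j j', QuadraticMap.polar Q (x j) (x j') = 0 := fun j j' => by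
    rcases eq_or_ne j j' with rfl | h
    · rw [polar_self', hQe, mul_zero]
    · exact hee j j' h
  have hyy : ∀ j j', QuadraticMap.polar Q (y j) (y j') = 0 := fun j j' => by
    rcases eq_or_ne j j' with rfl | h
    · rw [polar_self', hQff, mul_zero]
    · exact hff j j' h
  have hxy : ∀ j j', QuadraticMap.polar Q (x j) (y j') = if j = j' then 1 else 0 := hef
  have hyx : ∀ j j', QuadraticMap.polar Q (y j) (x j') = if j' = j then 1 else 0 := fun j j' => by
    rw [QuadraticMap.polar_comm]; exact hxy j' j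
  have horth : ∀ s t, s ≠ t → QuadraticMap.polar Q (b s) (b t) = 0 := by
    rintro (j | j) (j' | j') h <;>
      simp only [b, Sum.elim_inl, Sum.elim_inr, QuadraticMap.polar_add_left, QuadraticMap.polar_add_right,
        QuadraticMap.polar_sub_left, QuadraticMap.polar_sub_right, hxx, hyy, hxy, hyx] <;>
      by_cases h' : j = j' <;> simp [h', eq_comm] at h ⊢
  have hQb : ∀ j, Q (x j + y j) = 1 ∧ Q (x j - y j) = -1 := fun j => by
    refine ⟨?_, ?_⟩
    · rw [quad_add, hQe, hQff, hxy, if_pos rfl, zero_add, zero_add]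
    · rw [sub_eq_add_neg, quad_add, QuadraticMap.map_neg, QuadraticMap.polar_neg_right, hQe, hQff,
        hxy, if_pos rfl, zero_add, zero_add]
  obtain ⟨σ, h1, h1', h3, h4⟩ := exists_neg_on hQ hgen b horth Finset.univ (by
    rintro (j | j) - <;> simp [b, (hQb j).1, (hQb j).2])
  rw [Fintype.prod_sum_type] at h4
  simp only [b, Sum.elim_inl, Sum.elim_inr, (hQb _).1, (hQb _).2, Finset.prod_const_one, one_mul,
    Finset.prod_const, Finset.card_univ, Fintype.card_fin] at h4
  have hxneg : ∀ j, σ.1 (x j) = -x j ∧ σ.1 (y j) = -y j := by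
    intro j
    have ha := h1 (.inl j) (Finset.mem_univ _)
    have hb := h1 (.inr j) (Finset.mem_univ _)
    simp only [b, Sum.elim_inl, Sum.elim_inr, map_add, map_sub] at ha hb
    refine ⟨smul_right_injective _ h2 ?_, smul_right_injective _ h2 ?_⟩
    · linear_combination (norm := module) ha + hb
    · linear_combination (norm := module) ha - hb
  set g := (oEquiv Q).symm σ
  have hg : ((g : Matrix.GeneralLinearGroup κ F) : Matrix κ κ F) =
      Matrix.diagonal fun k => if S k then (-1 : F) else 1 := by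
    refine Matrix.ext_of_mulVec_single fun k => ?_
    rw [← oEquiv_apply, MulEquiv.apply_symm_apply, Matrix.diagonal_mulVec_single, mul_one]
    by_cases hk : S k
    · rw [if_pos hk, Pi.single_neg]
      rcases (hS k).1 hk with ⟨j, rfl | rfl⟩
      exacts [(hxneg j).1, (hxneg j).2]
    · rw [if_neg hk]
      refine h1' _ ?_
      rintro (j | j) - <;>
        simp only [b, Sum.elim_inl, Sum.elim_inr, QuadraticMap.polar_add_right,
          QuadraticMap.polar_sub_right, hx, hy, (hout k hk j).1, (hout k hk j).2, add_zero, sub_zero]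
  rw [pow_mod_four hq, ← Disc.isSquare_neg_one_pow hq]
  have hiff : g ∈ Cfsg.Omega F ⇑Q ↔ IsSquare ((-1 : F) ^ i) := by
    rw [mem_Omega_iff' Q hQ (Or.inl (card_ne_two h2)), MulEquiv.apply_symm_apply, h3,
      Finset.card_univ, Fintype.card_sum, Fintype.card_fin, (Even.add_self i).neg_one_pow, h4]
    simp
  rw [← hiff]
  exact ⟨fun ⟨g', hg', hg''⟩ => by rwa [show g' = g from Subtype.ext (Units.ext (hg''.trans hg.symm))] at hg',
    fun h => ⟨g, h, hg⟩⟩

end Cfsg.Agent.Spinor
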