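import Cfsg.Agent.Lib.Spinor.Decomp

/-!
The two classes of maximal totally singular subspaces.
-/

set_option autoImplicit false

namespace Cfsg.Agent.Spinor

open Cfsg.Agent.FormsLib

variable {F V : Type*} [Field F] [AddCommGroup V] [Module F V] [FiniteDimensional F V]
  {Q : QuadraticForm F V}

/-- A reflection changes the dimension of the intersection of two halves by one. -/
theorem refl_half (hQ : (QuadraticMap.polarBilin Q).Nondegenerate) {m : ℕ}
    (hm : Module.finrank F V = 2 * m) {U W : Submodule F V} (hU : ∀ x ∈ U, Q x = 0)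
    (hW : ∀ x ∈ W, Q x = 0) (hUd : Module.finrank F U = m) (hWd : Module.finrank F W = m) {v : V}
    (hv : Q v ≠ 0) :
    Module.finrank F ↥(U ⊓ W.map (refl Q v hv : V →ₗ[F] V)) + 1 = Module.finrank F ↥(U ⊓ W) ∨
      Module.finrank F ↥(U ⊓ W.map (refl Q v hv : V →ₗ[F] V)) = Module.finrank F ↥(U ⊓ W) + 1 := by
  set W' := W.map (refl Q v hv : V →ₗ[F] V) with hW'
  have hW's : ∀ x ∈ W', Q x = 0 := by
    rintro _ ⟨x, hx, rfl⟩
    show Q (refl Q v hv x) = 0
    rw [refl_mem Q hv x, hW x hx]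
  set H := W ⊓ LinearMap.ker ((QuadraticMap.polarBilin Q).flip v) with hH
  -- `W` is its own orthogonal, so does not lie in `v⊥`
  have hperp : ∀ {X : Submodule F V}, (∀ x ∈ X, Q x = 0) → Module.finrank F X = m →
      LinearMap.BilinForm.orthogonal (QuadraticMap.polarBilin Q) X = X := by
    intro X hX hXd
    symm
    refine Submodule.eq_of_le_of_finrank_eq (fun x hx y hy => polar_of_singular hX hy hx) ?_
    rw [finrank_orth hQ]
    omega
  have hnle : ¬ W ≤ LinearMap.ker ((QuadraticMap.polarBilin Q).flip v) := fun h => by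
    have : v ∈ LinearMap.BilinForm.orthogonal (QuadraticMap.polarBilin Q) W :=
      fun x hx => mem_ker_polar.1 (h hx)
    rw [hperp hW hWd] at this
    exact hv (hW v this)
  have hHd := finrank_inf_ker hnle
  rw [← hH, hWd] at hHd
  have hfixH : ∀ x ∈ H, refl Q v hv x = x := fun x hx => refl_fix Q hv (mem_ker_polar.1 hx.2)
  have hWW' : W ⊓ W' = H := by
    refine le_antisymm ?_ fun x hx => ⟨hx.1, ⟨x, hx.1, hfixH x hx⟩⟩
    rintro _ ⟨hxW, y, hy, rfl⟩
    change refl Q v hv y ∈ W at hxW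
    rw [refl_apply] at hxW
    have h1 := W.sub_mem hy hxW
    rw [sub_sub_cancel] at h1
    by_cases hp : QuadraticMap.polar Q y v = 0
    · exact ⟨(refl_fix Q hv hp).symm ▸ hy, mem_ker_polar.2 (by
        show QuadraticMap.polar Q (refl Q v hv y) v = 0
        rw [refl_fix Q hv hp, hp])⟩
    · exact absurd (hW v ((Submodule.smul_mem_iff _ (mul_ne_zero (inv_ne_zero hv) hp)).1 h1)) hv
  -- the orthogonal of `H`
  set Hp := LinearMap.BilinForm.orthogonal (QuadraticMap.polarBilin Q) H with hHp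
  have hvH : v ∈ Hp := fun x hx => mem_ker_polar.1 hx.2
  have hWHp : W ≤ Hp := fun x hx y hy => polar_of_singular hW hy.1 hx
  have hdec : ∀ x ∈ Hp, ∃ w ∈ W, ∃ t : F, w + t • v = x := by
    have hle : W ⊔ Submodule.span F {v} ≤ Hp := sup_le hWHp (by simpa using hvH)
    have heq : W ⊔ Submodule.span F {v} = Hp := by
      refine Submodule.eq_of_le_of_finrank_le hle ?_
      have hlt : W < W ⊔ Submodule.span F {v} := lt_of_le_of_ne le_sup_left fun e =>
        hv (hW v (e ▸ Submodule.mem_sup_right (Submodule.mem_span_singleton_self v)))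
      have := Submodule.finrank_lt_finrank_of_lt hlt
      rw [hHp, finrank_orth hQ]
      omega
    intro x hx
    obtain ⟨w, hw, s, hs, rfl⟩ := Submodule.mem_sup.1 (heq ▸ hx)
    obtain ⟨t, rfl⟩ := Submodule.mem_span_singleton.1 hs
    exact ⟨w, hw, t, rfl⟩
  have hsing : ∀ x ∈ Hp, Q x = 0 → x ∈ W ∨ x ∈ W' := by
    intro x hx h0
    obtain ⟨w, hw, t, rfl⟩ := hdec x hx
    rw [quad_add, QuadraticMap.map_smul, QuadraticMap.polar_smul_right, hW w hw, zero_add,
      smul_eq_mul, smul_eq_mul] at h0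
    have h1 : t * (t * Q v + QuadraticMap.polar Q w v) = 0 := by linear_combination h0
    rcases mul_eq_zero.1 h1 with ht | ht
    · exact Or.inl (by simpa [ht] using hw)
    · refine Or.inr ⟨w, hw, ?_⟩
      show refl Q v hv w = _
      rw [refl_apply, show (Q v)⁻¹ * QuadraticMap.polar Q w v = -t by field_simp; linear_combination ht]
      module
  -- dimensions
  have hUHp : Module.finrank F ↥(U ⊓ Hp) = Module.finrank F ↥(U ⊓ H) + 1 := by
    have e : U ⊓ Hp = LinearMap.BilinForm.orthogonal (QuadraticMap.polarBilin Q) (U ⊔ H) := by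
      refine le_antisymm (fun x hx y hy => ?_) fun x hx =>
        ⟨hperp hU hUd ▸ fun y hy => hx y (Submodule.mem_sup_left hy),
          fun y hy => hx y (Submodule.mem_sup_right hy)⟩
      obtain ⟨a, ha, b, hb, rfl⟩ := Submodule.mem_sup.1 hy
      show QuadraticMap.polar Q (a + b) x = 0
      rw [QuadraticMap.polar_add_left, polar_of_singular hU ha hx.1,
        show QuadraticMap.polar Q b x = 0 from hx.2 b hb, add_zero]
    have h1 := Submodule.finrank_sup_add_finrank_inf_eq U H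
    have h2 := Submodule.finrank_le (U ⊔ H)
    rw [e, finrank_orth hQ]
    omega
  obtain ⟨x, hxU, hxH⟩ : ∃ x ∈ U ⊓ Hp, x ∉ H := by
    by_contra h
    push Not at h
    have := Submodule.finrank_mono (s := U ⊓ Hp) (t := U ⊓ H) fun y hy => ⟨hy.1, h y hy⟩
    omega
  have hle : ∀ {X : Submodule F V}, X ⊓ U ≤ U ⊓ Hp → H ≤ X → (∀ y ∈ U ⊓ Hp, y ∈ X → y ∈ H) →
      Module.finrank F ↥(U ⊓ X) = Module.finrank F ↥(U ⊓ H) := by
    intro X h1 h2 h3
    refine congrArg (fun S : Submodule F V => Module.finrank F S) (le_antisymm ?_ ?_)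
    · exact fun y hy => ⟨hy.1, h3 y (h1 ⟨hy.2, hy.1⟩) hy.2⟩
    · exact inf_le_inf_left _ h2
  have hUW : W ⊓ U ≤ U ⊓ Hp := fun y hy => ⟨hy.2, hWHp hy.1⟩
  have hW'Hp : W' ⊓ U ≤ U ⊓ Hp := by
    refine fun y hy => ⟨hy.2, ?_⟩
    obtain ⟨z, hz, rfl⟩ := hy.1
    intro a ha
    show QuadraticMap.polar Q a (refl Q v hv z) = 0
    nth_rewrite 1 [← hfixH a ha]
    rw [polar_of_mem (refl_mem Q hv), polar_of_singular hW ha.1 hz]
  have hbig : ∀ {X : Submodule F V}, X ⊓ U ≤ U ⊓ Hp → H ≤ X → x ∈ X →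
      Module.finrank F ↥(U ⊓ X) = Module.finrank F ↥(U ⊓ H) + 1 := by
    intro X h1 h2 h3
    refine le_antisymm ?_ ?_
    · rw [← hUHp]
      exact Submodule.finrank_mono fun y hy => h1 ⟨hy.2, hy.1⟩
    · refine Submodule.finrank_lt_finrank_of_lt (lt_of_le_of_ne (inf_le_inf_left _ h2) fun e => ?_)
      exact hxH (e.symm ▸ (⟨hxU.1, h3⟩ : x ∈ U ⊓ X) : x ∈ U ⊓ H).2
  have hHW' : H ≤ W' := fun y hy => ⟨y, hy.1, hfixH y hy⟩
  -- the new vector lies in exactly one of `W`, `W'`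
  have hother : ∀ {X Y : Submodule F V}, X ⊓ Y = H → x ∈ X → H ≤ X → X ⊓ U ≤ U ⊓ Hp →
      ∀ y ∈ U ⊓ Hp, y ∈ Y → y ∈ H := by
    intro X Y hXY hxX hHX hX y hy hyY
    have e : U ⊓ X = U ⊓ Hp := Submodule.eq_of_le_of_finrank_le (fun z hz => hX ⟨hz.2, hz.1⟩)
      (by rw [hbig hX hHX hxX, hUHp])
    rw [← hXY]
    exact ⟨(e.symm ▸ hy : y ∈ U ⊓ X).2, hyY⟩
  rcases hsing x hxU.2 (hU x hxU.1) with hx | hx
  · left
    rw [hbig hUW (fun y hy => hy.1) hx,
      hle hW'Hp hHW' (hother hWW' hx (fun y hy => hy.1) hUW)]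
  · right
    rw [hbig hW'Hp hHW' hx, hle hUW (fun y hy => hy.1)
      (hother (by rw [inf_comm]; exact hWW') hx hHW' hW'Hp)]

/-- `dick` decides the class of maximal totally singular subspaces. -/
theorem parity_map (hQ : (QuadraticMap.polarBilin Q).Nondegenerate) (hgen : reflGroup Q = ⊤) {m : ℕ}
    (hm : Module.finrank F V = 2 * m) (g : oGroup Q) {U W : Submodule F V} (hU : ∀ x ∈ U, Q x = 0)
    (hW : ∀ x ∈ W, Q x = 0) (hUd : Module.finrank F U = m) (hWd : Module.finrank F W = m) :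
    ((-1 : ℤˣ)) ^ Module.finrank F ↥(U ⊓ W.map (g.1 : V →ₗ[F] V)) =
      dick g * (-1) ^ Module.finrank F ↥(U ⊓ W) := by
  revert W
  induction (hgen ▸ Subgroup.mem_top g : g ∈ reflGroup Q) using Subgroup.closure_induction with
  | mem x hx =>
    obtain ⟨v, hv, rfl⟩ := hx
    intro W hW hWd
    rw [dick_oRefl hQ hv]
    show ((-1 : ℤˣ)) ^ Module.finrank F ↥(U ⊓ W.map (refl Q v hv : V →ₗ[F] V)) = _
    rcases refl_half hQ hm hU hW hUd hWd hv with h | h
    · rw [← h, pow_succ]; simp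
    · rw [h, pow_succ]; simp
  | one =>
    intro W _ _
    rw [dick_one, one_mul, show (((1 : oGroup Q).1 : V ≃ₗ[F] V) : V →ₗ[F] V) = LinearMap.id from rfl,
      Submodule.map_id]
  | mul a b _ _ iha ihb =>
    intro W hW hWd
    rw [show (((a * b).1 : V ≃ₗ[F] V) : V →ₗ[F] V) = (a.1 : V →ₗ[F] V).comp (b.1 : V →ₗ[F] V) from rfl,
      Submodule.map_comp, iha (W := W.map (b.1 : V →ₗ[F] V))
        (by rintro _ ⟨x, hx, rfl⟩; show Q (b.1 x) = 0; rw [b.2, hW x hx])
        (by rw [LinearEquiv.finrank_map_eq, hWd]), ihb hW hWd, dick_mul hQ hgen, mul_assoc]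
  | inv a _ iha =>
    intro W hW hWd
    have h := iha (W := W.map ((a⁻¹).1 : V →ₗ[F] V))
      (by rintro _ ⟨x, hx, rfl⟩; show Q ((a⁻¹).1 x) = 0; rw [(a⁻¹).2, hW x hx])
      (by rw [LinearEquiv.finrank_map_eq, hWd])
    rw [← Submodule.map_comp, show (a.1 : V →ₗ[F] V).comp ((a⁻¹).1 : V →ₗ[F] V) = LinearMap.id from
      LinearMap.ext fun x => a.1.apply_symm_apply x, Submodule.map_id] at h
    rw [h, ← mul_assoc, ← dick_mul hQ hgen, inv_mul_cancel, dick_one, one_mul]

theorem dick_eq_one_iff_even (hQ : (QuadraticMap.polarBilin Q).Nondegenerate) (hgen : reflGroup Q = ⊤)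
    {m : ℕ} (hm : Module.finrank F V = 2 * m) (g : oGroup Q) {U W : Submodule F V}
    (hU : ∀ x ∈ U, Q x = 0) (hUd : Module.finrank F U = m) (hW : U.map (g.1 : V →ₗ[F] V) = W) :
    dick g = 1 ↔ Even (m - Module.finrank F ↥(U ⊓ W)) := by
  subst hW
  have h := parity_map hQ hgen hm g hU hU hUd hUd
  rw [inf_idem, hUd] at h
  have hle : Module.finrank F ↥(U ⊓ U.map (g.1 : V →ₗ[F] V)) ≤ m :=
    hUd ▸ Submodule.finrank_mono inf_le_left
  rw [Nat.even_sub hle]
  set k := Module.finrank F ↥(U ⊓ U.map (g.1 : V →ₗ[F] V))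
  rcases Int.units_eq_one_or (dick g) with e | e <;> rw [e] at h ⊢ <;>
    rcases Nat.even_or_odd k with hk | hk <;> rcases Nat.even_or_odd m with hm' | hm' <;>
      simp_all [hk.neg_one_pow, hm'.neg_one_pow, ← Nat.not_even_iff_odd]

end Cfsg.Agent.Spinor
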