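import Cfsg.Agent.Lib.Spinor.EvenClass
import Cfsg.Agent.Lib.Forms.Sp

/-!
Restriction of scalars from a finite field to a subfield: matrices and trace forms.
-/

set_option autoImplicit false

namespace Cfsg.Agent.Restrict

open Cfsg.Agent.FormsLib
open scoped Matrix

/-- A field with `q` elements maps into a field with `q ^ 2` elements. -/
theorem exists_ringHom {K F : Type*} [Field K] [Fintype K] [Field F] [Fintype F] {q : ℕ}
    (hK : Fintype.card K = q ^ 2) (hF : Fintype.card F = q) : Nonempty (F →+* K) := by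
  obtain ⟨k, hp, hq⟩ := FiniteField.card F (ringChar F)
  haveI : Fact (ringChar F).Prime := ⟨hp⟩
  have hKc : CharP K (ringChar F) := by
    refine charP_of_card_eq_prime_pow (f := (k : ℕ) * 2) ?_
    rw [hK, ← hF, hq, pow_mul]
  letI := ZMod.algebra F (ringChar F)
  letI := ZMod.algebra K (ringChar F)
  have h1 := Module.card_eq_pow_finrank (K := ZMod (ringChar F)) (V := F)
  have h2 := Module.card_eq_pow_finrank (K := ZMod (ringChar F)) (V := K)
  rw [ZMod.card, hq] at h1
  rw [ZMod.card, hK, ← hF, hq, ← pow_mul] at h2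
  have e1 := Nat.pow_right_injective hp.two_le h1
  have e2 := Nat.pow_right_injective hp.two_le h2
  exact (FiniteField.nonempty_algHom_of_finrank_dvd (F := ZMod (ringChar F)) (K := F) (L := K)
    (by rw [← e1, ← e2]; exact dvd_mul_right _ _)).map fun f => f.toRingHom

section Transfer

variable {K F : Type*} [Field K] [Field F] [Algebra F K] {κ ι : Type*} [Fintype κ] [DecidableEq κ]
  [Fintype ι] [DecidableEq ι]

/-- The matrix over `F` of a matrix over `K`, in the coordinates `L`. -/
noncomputable def Φ (L : (κ → K) ≃ₗ[F] (ι → F)) : Matrix κ κ K →* Matrix ι ι F where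
  toFun A := LinearMap.toMatrix'
    ((L : (κ → K) →ₗ[F] (ι → F)).comp (((Matrix.toLin' A).restrictScalars F).comp
      (L.symm : (ι → F) →ₗ[F] (κ → K))))
  map_one' := by
    apply Matrix.toLin'.injective
    refine LinearMap.ext fun v => ?_
    simp
  map_mul' A A' := by
    apply Matrix.toLin'.injective
    refine LinearMap.ext fun v => ?_
    simp [Matrix.mulVec_mulVec]

theorem Φ_mulVec (L : (κ → K) ≃ₗ[F] (ι → F)) (A : Matrix κ κ K) (x : ι → F) :
    Φ L A *ᵥ x = L (A *ᵥ L.symm x) :=
  LinearMap.toMatrix'_mulVec _ _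

theorem Φ_injective (L : (κ → K) ≃ₗ[F] (ι → F)) : Function.Injective (Φ L) := fun A A' h => by
  refine Matrix.toLin'.injective (LinearMap.ext fun v => ?_)
  have := congrArg (fun M => L.symm (M *ᵥ L v)) h
  simpa [Φ_mulVec] using this

end Transfer

/-- An alternating non-degenerate form in symplectic coordinates. -/
theorem exists_spCoord {F W : Type*} [Field F] [AddCommGroup W] [Module F W] [FiniteDimensional F W]
    {B : LinearMap.BilinForm F W} (hA : LinearMap.IsAlt B) (hB : LinearMap.Nondegenerate B) {m : ℕ}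
    (hm : Module.finrank F W = 2 * m) :
    ∃ L : W ≃ₗ[F] (Fin m ⊕ Fin m → F), ∀ u v, spB m F (L u) (L v) = B u v := by
  obtain ⟨m', b, h1, h2, h3⟩ := exists_symplectic_basis_nondeg hA hB
  obtain rfl : m' = m := by
    have := Module.finrank_eq_card_basis b
    simp at this
    omega
  have h1' : ∀ i j, B (b (.inr i)) (b (.inl j)) = -(if j = i then (1 : F) else 0) := fun i j => by
    rw [alt_swap hA, h1]
  refine ⟨(b.reindex (Equiv.sumComm _ _)).equivFun, fun u v => ?_⟩
  suffices h : (spB m' F).compl₁₂ ((b.reindex (Equiv.sumComm _ _)).equivFun : W →ₗ[F] _)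
      ((b.reindex (Equiv.sumComm _ _)).equivFun : W →ₗ[F] _) = B from LinearMap.congr_fun₂ h u v
  refine b.ext fun i => b.ext fun j => ?_
  rcases i with i | i <;> rcases j with j | j <;>
    simp [spB_expand, h1, h1', h2, h3, Finsupp.single_apply, ite_and, eq_comm]

section Trace

variable {K F : Type*} [Field K] [Fintype K] [Field F] [Fintype F] [Algebra F K] {q : ℕ}

theorem finrank_two (hK : Fintype.card K = q ^ 2) (hF : Fintype.card F = q) :
    Module.finrank F K = 2 := by
  have h := Module.card_eq_pow_finrank (K := F) (V := K)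
  rw [hK, hF] at h
  exact (Nat.pow_right_injective (hF ▸ Fintype.one_lt_card) h).symm

theorem algebraMap_trace (hK : Fintype.card K = q ^ 2) (hF : Fintype.card F = q) (x : K) :
    algebraMap F K (Algebra.trace F K x) = x + x ^ q := by
  rw [FiniteField.algebraMap_trace_eq_sum_pow, finrank_two hK hF, Nat.card_eq_fintype_card, hF]
  simp [Finset.sum_range_succ]

/-- The `q`-th power map as a ring homomorphism over `F`. -/
theorem exists_frob (hF : Fintype.card F = q) : ∃ σ : K →ₐ[F] K, ∀ x, σ x = x ^ q :=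
  ⟨FiniteField.frobeniusAlgHom F K, fun x => by rw [FiniteField.coe_frobeniusAlgHom, hF]⟩

theorem pow_algebraMap (hF : Fintype.card F = q) (c : F) :
    (algebraMap F K c) ^ q = algebraMap F K c := by
  rw [← map_pow, ← hF, FiniteField.pow_card]

theorem trace_eq_of_fixed (hK : Fintype.card K = q ^ 2) (hF : Fintype.card F = q) {x : K}
    (hx : x ^ q = x) (t : K) :
    algebraMap F K (Algebra.trace F K (t * x)) = x * algebraMap F K (Algebra.trace F K t) := by
  rw [algebraMap_trace hK hF, algebraMap_trace hK hF, mul_pow, hx]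
  ring

theorem exists_trace_zero (hK : Fintype.card K = q ^ 2) (hF : Fintype.card F = q) :
    ∃ δ : K, δ ≠ 0 ∧ Algebra.trace F K δ = 0 := by
  have h : LinearMap.ker (Algebra.trace F K) ≠ ⊥ := LinearMap.ker_ne_bot_of_finrank_lt
    (by rw [Module.finrank_self, finrank_two hK hF]; norm_num)
  obtain ⟨δ, hδ, h0⟩ := Submodule.exists_mem_ne_zero_of_ne_bot h
  exact ⟨δ, h0, hδ⟩

variable (K F)

/-- The form `trace (t * Σ u_i v_i ^ q)`. -/
noncomputable def hForm (hF : Fintype.card F = q) (m : ℕ) (t : K) :
    LinearMap.BilinForm F (Fin m → K) :=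
  LinearMap.mk₂ F (fun u v => Algebra.trace F K (t * Cfsg.hermForm m K q u v))
    (fun u u' v => by
      rw [← map_add]
      congr 1
      simp [Cfsg.hermForm, add_mul, Finset.sum_add_distrib, mul_add])
    (fun c u v => by
      rw [← map_smul]
      congr 1
      simp [Cfsg.hermForm, Finset.mul_sum, Finset.smul_sum])
    (fun u v v' => by
      obtain ⟨σ, hσ⟩ := exists_frob (K := K) hF
      rw [← map_add]
      congr 1
      simp [Cfsg.hermForm, ← hσ, Finset.sum_add_distrib, mul_add])
    (fun c u v => by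
      obtain ⟨σ, hσ⟩ := exists_frob (K := K) hF
      rw [← map_smul]
      congr 1
      simp [Cfsg.hermForm, ← hσ, Finset.mul_sum, Finset.smul_sum])

variable {K F}

theorem hForm_apply (hF : Fintype.card F = q) (m : ℕ) (t : K) (u v : Fin m → K) :
    hForm K F hF m t u v = Algebra.trace F K (t * Cfsg.hermForm m K q u v) := rfl

theorem herm_swap (hK : Fintype.card K = q ^ 2) (hF : Fintype.card F = q) (m : ℕ)
    (u v : Fin m → K) : Cfsg.hermForm m K q v u = Cfsg.hermForm m K q u v ^ q := by
  obtain ⟨σ, hσ⟩ := exists_frob (K := K) hF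
  rw [← hσ, Cfsg.hermForm, Cfsg.hermForm, map_sum]
  refine Finset.sum_congr rfl fun i _ => ?_
  rw [map_mul, hσ, hσ, ← pow_mul, ← sq, ← hK, FiniteField.pow_card]
  ring

theorem herm_self_fixed (hK : Fintype.card K = q ^ 2) (hF : Fintype.card F = q) (m : ℕ)
    (v : Fin m → K) : Cfsg.hermForm m K q v v ^ q = Cfsg.hermForm m K q v v :=
  (herm_swap hK hF m v v).symm

theorem hForm_nondeg (hF : Fintype.card F = q) (m : ℕ) {t : K} (ht : t ≠ 0) :
    LinearMap.Nondegenerate (hForm K F hF m t) := by
  classical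
  obtain ⟨σ, hσ⟩ := exists_frob (K := K) hF
  have hsur : Function.Bijective σ := Finite.injective_iff_bijective.1 σ.injective
  have key : ∀ y : K, y ≠ 0 → ∃ x : K, Algebra.trace F K (y * x) ≠ 0 := fun y hy => by
    obtain ⟨x, hx⟩ := DFunLike.ne_iff.1 (Algebra.trace_ne_zero F K)
    exact ⟨x / y, by rwa [mul_div_cancel₀ _ hy]⟩
  refine ⟨fun u hu => ?_, fun v hv => ?_⟩
  · by_contra hne
    obtain ⟨k, hk⟩ := Function.ne_iff.1 hne
    obtain ⟨x, hx⟩ := key (t * u k) (mul_ne_zero ht hk)
    obtain ⟨c, rfl⟩ := hsur.2 x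
    refine hx ?_
    have := hu (Pi.single k c)
    simpa [hForm_apply, Cfsg.hermForm, ← hσ, Pi.single_apply, mul_assoc, apply_ite σ] using this
  · by_contra hne
    obtain ⟨k, hk⟩ := Function.ne_iff.1 hne
    obtain ⟨x, hx⟩ := key (t * σ (v k)) (mul_ne_zero ht ((map_ne_zero σ).2 hk))
    refine hx ?_
    have := hv (Pi.single k x)
    simpa [hForm_apply, Cfsg.hermForm, ← hσ, Pi.single_apply, mul_assoc, mul_comm x] using this

theorem finrank_pi (hK : Fintype.card K = q ^ 2) (hF : Fintype.card F = q) (ι : Type*) [Fintype ι] :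
    Module.finrank F (ι → K) = 2 * Fintype.card ι := by
  rw [Module.finrank_pi_fintype, Finset.sum_const, Finset.card_univ, finrank_two hK hF, smul_eq_mul,
    mul_comm]

end Trace

end Cfsg.Agent.Restrict
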