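import Cfsg.Agent.Lib.Spinor.Gen

/-!
The sign of the permutation induced by an isometry on the vectors of norm one.
-/

set_option autoImplicit false

namespace Cfsg.Agent.Spinor

open Cfsg.Agent.FormsLib

open scoped Classical in
/-- A set acted on freely by two commuting involutions has cardinality divisible by four. -/
theorem four_dvd_card {α : Type*} (a b : α → α) (s : Finset α) (has : ∀ x ∈ s, a x ∈ s)
    (hbs : ∀ x ∈ s, b x ∈ s) (ha : ∀ x, a (a x) = x) (hb : ∀ x, b (b x) = x)
    (hab : ∀ x, a (b x) = b (a x)) (h1 : ∀ x ∈ s, a x ≠ x) (h2 : ∀ x ∈ s, b x ≠ x)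
    (h3 : ∀ x ∈ s, a (b x) ≠ x) : 4 ∣ s.card := by
  induction hn : s.card using Nat.strong_induction_on generalizing s with
  | _ n ih =>
  subst hn
  rcases s.eq_empty_or_nonempty with rfl | ⟨x, hx⟩
  · simp
  let T : Finset α := {x, a x, b x, a (b x)}
  have hTs : T ⊆ s := by
    intro y hy
    simp only [T, Finset.mem_insert, Finset.mem_singleton] at hy
    rcases hy with rfl | rfl | rfl | rfl
    exacts [hx, has _ hx, hbs _ hx, has _ (hbs _ hx)]
  have hT : T.card = 4 := by
    have e1 : a x ≠ b x := fun e => h3 x hx (by rw [← e, ha])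
    have e2 : b x ≠ a (b x) := fun e => h1 _ (hbs _ hx) e.symm
    have e3 : a x ≠ a (b x) := fun e => h2 x hx (by rw [← ha (b x), ← e, ha])
    simp [T, (h1 x hx).symm, (h2 x hx).symm, (h3 x hx).symm, e1, e2, e3]
  have hclose : ∀ y, (a y ∈ T ↔ y ∈ T) ∧ (b y ∈ T ↔ y ∈ T) := by
    intro y
    have hfw : ∀ y, y ∈ T → a y ∈ T ∧ b y ∈ T := by
      intro y hy
      simp only [T, Finset.mem_insert, Finset.mem_singleton] at hy ⊢
      rcases hy with rfl | rfl | rfl | rfl <;> simp [ha, hb, hab]
    exact ⟨⟨fun h => by simpa [ha] using (hfw _ h).1, fun h => (hfw _ h).1⟩,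
      ⟨fun h => by simpa [hb] using (hfw _ h).2, fun h => (hfw _ h).2⟩⟩
  have hcard : (s \ T).card + 4 = s.card := by
    rw [← hT, Finset.card_sdiff_add_card_eq_card hTs]
  have := ih (s \ T).card (by omega) (s \ T)
    (fun y hy => by simp only [Finset.mem_sdiff, (hclose y).1] at hy ⊢; exact ⟨has _ hy.1, hy.2⟩)
    (fun y hy => by simp only [Finset.mem_sdiff, (hclose y).2] at hy ⊢; exact ⟨hbs _ hy.1, hy.2⟩)
    (fun y hy => h1 y (Finset.mem_sdiff.1 hy).1) (fun y hy => h2 y (Finset.mem_sdiff.1 hy).1)
    (fun y hy => h3 y (Finset.mem_sdiff.1 hy).1) rfl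
  omega

variable {F V : Type*} [Field F] [AddCommGroup V] [Module F V] [Finite V]

/-- The permutation of the vectors of norm one. -/
def sphereHom (Q : QuadraticForm F V) : oGroup Q →* Equiv.Perm {x : V // Q x = 1} where
  toFun g := Equiv.Perm.subtypePerm g.1.toEquiv fun x => by
    show Q (g.1 x) = 1 ↔ Q x = 1
    rw [g.2 x]
  map_one' := Equiv.ext fun _ => rfl
  map_mul' _ _ := Equiv.ext fun _ => rfl

omit [Finite V] in
theorem sphereHom_apply (Q : QuadraticForm F V) (g : oGroup Q) (x : {x : V // Q x = 1}) :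
    (sphereHom Q g x : V) = g.1 x := rfl

open scoped Classical in
/-- The sign of the permutation of the vectors of norm one. -/
noncomputable def sphereSign (Q : QuadraticForm F V) : oGroup Q →* ℤˣ :=
  letI := Fintype.ofFinite {x : V // Q x = 1}
  Equiv.Perm.sign.comp (sphereHom Q)

open scoped Classical in
theorem sphereSign_oRefl {Q : QuadraticForm F V} (h2 : (2 : F) ≠ 0) {v : V} (hv : Q v ≠ 0) :
    sphereSign Q (oRefl Q v hv) = if IsSquare (Q v) then -1 else 1 := by
  letI := Fintype.ofFinite {x : V // Q x = 1}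
  show Equiv.Perm.sign (sphereHom Q (oRefl Q v hv)) = _
  set σ := sphereHom Q (oRefl Q v hv) with hσ
  have hsq : σ ^ 2 = 1 := by
    have e : oRefl Q v hv * oRefl Q v hv = 1 := by
      nth_rewrite 1 [← oRefl_inv hv]
      exact inv_mul_cancel _
    rw [pow_two, hσ, ← map_mul, e, map_one]
  rw [Equiv.Perm.sign_of_pow_two_eq_one hsq]
  have hmoved : ∀ x : {x : V // Q x = 1}, σ x ≠ x ↔ QuadraticMap.polar Q (x : V) v ≠ 0 := by
    intro x
    refine not_congr ⟨fun h => ?_, fun h => Subtype.ext (refl_fix Q hv h)⟩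
    have h' : refl Q v hv (x : V) = x := congrArg Subtype.val h
    rw [refl_apply, sub_eq_self, smul_eq_zero, mul_eq_zero] at h'
    rcases h' with (h' | h') | h'
    · exact absurd h' (inv_ne_zero hv)
    · exact h'
    · exact absurd (by rw [h', QuadraticMap.map_zero]) hv
  let M : Finset {x : V // Q x = 1} := Finset.univ.filter fun x => σ x ≠ x
  let M₁ : Finset {x : V // Q x = 1} := M.filter fun x => (x : V) ∈ Submodule.span F {v}
  let M₂ : Finset {x : V // Q x = 1} := M.filter fun x => (x : V) ∉ Submodule.span F {v}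
  have hM : Fintype.card {x : V // Q x = 1} - Fintype.card (Function.fixedPoints σ) =
      M₁.card + M₂.card := by
    rw [Finset.card_filter_add_card_filter_not]
    have h1 : Fintype.card (Function.fixedPoints σ) =
        (Finset.univ.filter fun x => σ x = x).card := Fintype.card_subtype _
    have h2 := Finset.card_filter_add_card_filter_not (s := (Finset.univ : Finset {x : V // Q x = 1}))
      (fun x => σ x = x)
    simp only [M, ne_eq, h1, ← Finset.card_univ (α := {x : V // Q x = 1})] at h2 ⊢
    omega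
  let neg : {x : V // Q x = 1} → {x : V // Q x = 1} := fun x =>
    ⟨-x.1, by rw [QuadraticMap.map_neg]; exact x.2⟩
  have hM₂ : 4 ∣ M₂.card := by
    have hmem : ∀ x, x ∈ M₂ ↔ QuadraticMap.polar Q (x : V) v ≠ 0 ∧ (x : V) ∉ Submodule.span F {v} := by
      intro x; simp only [M₂, M, Finset.mem_filter, Finset.mem_univ, true_and, hmoved]
    have hp : ∀ x : {x : V // Q x = 1}, QuadraticMap.polar Q (σ x : V) v = -QuadraticMap.polar Q (x : V) v := by
      intro x
      rw [hσ, sphereHom_apply]
      show QuadraticMap.polar Q (refl Q v hv x.1) v = _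
      rw [refl_apply, QuadraticMap.polar_sub_left, QuadraticMap.polar_smul_left, polar_self', smul_eq_mul]
      field_simp
      ring
    have hspan : ∀ x : {x : V // Q x = 1}, (σ x : V) ∈ Submodule.span F {v} ↔ (x : V) ∈ Submodule.span F {v} := by
      intro x
      rw [hσ, sphereHom_apply]
      show refl Q v hv x.1 ∈ _ ↔ _
      rw [refl_apply]
      exact Submodule.sub_mem_iff_left _ (Submodule.smul_mem _ _ (Submodule.mem_span_singleton_self v))
    refine four_dvd_card σ neg M₂ (fun x hx => ?_) (fun x hx => ?_) (fun x => ?_)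
      (fun x => Subtype.ext (neg_neg _)) (fun x => Subtype.ext (map_neg (refl Q v hv) _)) (fun x hx => ?_)
      (fun x hx => ?_) (fun x hx => ?_)
    · rw [hmem] at hx ⊢
      rw [hp, neg_ne_zero, hspan]
      exact hx
    · rw [hmem] at hx ⊢
      simpa [neg] using hx
    · have := congrArg (fun τ : Equiv.Perm _ => τ x) hsq
      simpa [pow_two] using this
    · exact (hmoved x).2 ((hmem x).1 hx).1
    · intro e
      have e' : (-x.1 : V) = x.1 := congrArg Subtype.val e
      have h0 : (2 : F) • x.1 = 0 := by rw [two_smul]; nth_rewrite 1 [← e']; exact neg_add_cancel _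
      have := x.2
      rw [(smul_eq_zero.1 h0).resolve_left h2, QuadraticMap.map_zero] at this
      exact zero_ne_one this
    · intro e
      have e' : refl Q v hv (-x.1) = x.1 := congrArg Subtype.val e
      rw [map_neg, refl_apply, neg_sub] at e'
      refine ((hmem x).1 hx).2 ?_
      have h3 : (2 : F) • x.1 = ((Q v)⁻¹ * QuadraticMap.polar Q x.1 v) • v := by
        rw [two_smul]
        nth_rewrite 1 [← e']
        exact sub_add_cancel _ _
      rw [← Submodule.smul_mem_iff _ h2, h3]
      exact Submodule.smul_mem _ _ (Submodule.mem_span_singleton_self v)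
  rw [hM]
  obtain ⟨k, hk⟩ := hM₂
  by_cases hs : IsSquare (Q v)
  · obtain ⟨s, hs'⟩ := hs
    have hs0 : s ≠ 0 := fun h => hv (by rw [hs', h, mul_zero])
    have hmem : ∀ c : F, c * c = 1 → Q ((c * s⁻¹) • v) = 1 := fun c hc => by
      rw [QuadraticMap.map_smul, hs', smul_eq_mul]
      field_simp
      linear_combination hc
    have hM₁ : M₁ = {⟨_, hmem 1 (one_mul 1)⟩, ⟨_, hmem (-1) (by ring)⟩} := by
      ext x
      simp only [M₁, M, Finset.mem_filter, Finset.mem_univ, true_and, hmoved,
        Finset.mem_insert, Finset.mem_singleton, Subtype.ext_iff]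
      constructor
      · rintro ⟨-, hx⟩
        obtain ⟨c, hc⟩ := Submodule.mem_span_singleton.1 hx
        have h4 := x.2
        rw [← hc, QuadraticMap.map_smul, hs', smul_eq_mul] at h4
        have h5 : (c * s - 1) * (c * s + 1) = 0 := by linear_combination h4
        rcases mul_eq_zero.1 h5 with h6 | h6
        · exact Or.inl (by rw [← hc, show c = 1 * s⁻¹ by field_simp; linear_combination h6])
        · exact Or.inr (by rw [← hc, show c = -1 * s⁻¹ by field_simp; linear_combination h6])
      · have hne : ∀ c : F, c ≠ 0 → QuadraticMap.polar Q ((c * s⁻¹) • v) v ≠ 0 := fun c hc => by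
          rw [QuadraticMap.polar_smul_left, polar_self', smul_eq_mul]
          exact mul_ne_zero (mul_ne_zero hc (inv_ne_zero hs0)) (mul_ne_zero h2 hv)
        rintro (hx | hx) <;> rw [hx] <;>
          refine ⟨hne _ (by simp), Submodule.smul_mem _ _ (Submodule.mem_span_singleton_self v)⟩
    have hM₁c : M₁.card = 2 := by
      rw [hM₁, Finset.card_pair]
      intro e
      have hv0 : v ≠ 0 := fun h => hv (by rw [h, QuadraticMap.map_zero])
      have e1 := smul_left_injective F hv0 (congrArg Subtype.val e)
      have e2 : (2 : F) * s⁻¹ = 0 := by linear_combination e1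
      exact mul_ne_zero h2 (inv_ne_zero hs0) e2
    rw [hM₁c, hk, show (2 + 4 * k) / 2 = 2 * k + 1 by omega, pow_succ, pow_mul,
      if_pos ⟨s, hs'⟩]
    simp
  · have hM₁ : M₁ = ∅ := by
      refine Finset.eq_empty_of_forall_notMem fun x hx => hs ?_
      obtain ⟨c, hc⟩ := Submodule.mem_span_singleton.1 (Finset.mem_filter.1 hx).2
      have h4 := x.2
      rw [← hc, QuadraticMap.map_smul, smul_eq_mul] at h4
      have hc0 : c ≠ 0 := fun h => by rw [h, mul_zero, zero_mul] at h4; exact zero_ne_one h4
      exact ⟨c⁻¹, by field_simp; linear_combination h4⟩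
    rw [hM₁, Finset.card_empty, zero_add, hk, show 4 * k / 2 = 2 * k by omega, pow_mul, if_neg hs]
    simp

end Cfsg.Agent.Spinor
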