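import Cfsg.Agent.Lib.Spinor.Decomp

/-!
Orthogonal sums of coordinate quadratic forms.
-/

set_option autoImplicit false

namespace Cfsg.Agent.Spinor

open Cfsg.Agent.FormsLib

variable {F : Type*} [Field F] {κ μ : Type}

/-- The orthogonal sum of two coordinate forms. -/
noncomputable def sumForm (Q₁ : QuadraticForm F (κ → F)) (Q₂ : QuadraticForm F (μ → F)) :
    QuadraticForm F (κ ⊕ μ → F) :=
  (Q₁.prod Q₂).comp (LinearEquiv.sumArrowLequivProdArrow κ μ F F).toLinearMap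

theorem sumForm_apply (Q₁ : QuadraticForm F (κ → F)) (Q₂ : QuadraticForm F (μ → F)) (v : κ ⊕ μ → F) :
    sumForm Q₁ Q₂ v = Q₁ (v ∘ Sum.inl) + Q₂ (v ∘ Sum.inr) := rfl

theorem coe_sumForm (Q₁ : QuadraticForm F (κ → F)) (Q₂ : QuadraticForm F (μ → F)) :
    ⇑(sumForm Q₁ Q₂) = fun v => Q₁ (v ∘ Sum.inl) + Q₂ (v ∘ Sum.inr) := rfl

theorem polar_sumForm (Q₁ : QuadraticForm F (κ → F)) (Q₂ : QuadraticForm F (μ → F)) (u v : κ ⊕ μ → F) :
    QuadraticMap.polar (sumForm Q₁ Q₂) u v = QuadraticMap.polar Q₁ (u ∘ Sum.inl) (v ∘ Sum.inl) +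
      QuadraticMap.polar Q₂ (u ∘ Sum.inr) (v ∘ Sum.inr) := by
  simp only [QuadraticMap.polar, sumForm_apply, Pi.add_comp]
  ring

theorem sumForm_nondeg {Q₁ : QuadraticForm F (κ → F)} {Q₂ : QuadraticForm F (μ → F)}
    (h₁ : (QuadraticMap.polarBilin Q₁).Nondegenerate) (h₂ : (QuadraticMap.polarBilin Q₂).Nondegenerate) :
    (QuadraticMap.polarBilin (sumForm Q₁ Q₂)).Nondegenerate := by
  have key : ∀ x, (∀ y, QuadraticMap.polar (sumForm Q₁ Q₂) x y = 0) → x = 0 := by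
    intro x hx
    have e1 : x ∘ Sum.inl = 0 := h₁.1 _ fun y => by
      have := hx (Sum.elim y 0)
      rw [polar_sumForm, Sum.elim_comp_inl, Sum.elim_comp_inr] at this
      simpa using this
    have e2 : x ∘ Sum.inr = 0 := h₂.1 _ fun y => by
      have := hx (Sum.elim 0 y)
      rw [polar_sumForm, Sum.elim_comp_inl, Sum.elim_comp_inr] at this
      simpa using this
    funext i
    rcases i with i | i
    exacts [congrFun e1 i, congrFun e2 i]
  exact ⟨key, fun x hx => key x fun y => by rw [QuadraticMap.polar_comm]; exact hx y⟩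

/-- The isometries of the first summand. -/
noncomputable def sumEmbL (Q₁ : QuadraticForm F (κ → F)) (Q₂ : QuadraticForm F (μ → F)) :
    oGroup Q₁ →* oGroup (sumForm Q₁ Q₂) :=
  embL (LinearEquiv.sumArrowLequivProdArrow κ μ F F) (fun _ => rfl)

/-- The isometries of the second summand. -/
noncomputable def sumEmbR (Q₁ : QuadraticForm F (κ → F)) (Q₂ : QuadraticForm F (μ → F)) :
    oGroup Q₂ →* oGroup (sumForm Q₁ Q₂) :=
  embL ((LinearEquiv.sumArrowLequivProdArrow κ μ F F).trans (LinearEquiv.prodComm F _ _))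
    (Q₂ := Q₁) (fun x => by rw [sumForm_apply, add_comm]; rfl)

variable [Fintype κ] [DecidableEq κ] [Fintype μ] [DecidableEq μ]

theorem sumEmbL_matrix (Q₁ : QuadraticForm F (κ → F)) (Q₂ : QuadraticForm F (μ → F))
    (g : Cfsg.isometryGroup F ⇑Q₁) :
    (((oEquiv (sumForm Q₁ Q₂)).symm (sumEmbL Q₁ Q₂ (oEquiv Q₁ g))).1 : Matrix (κ ⊕ μ) (κ ⊕ μ) F) =
      Matrix.fromBlocks (g.1 : Matrix κ κ F) 0 0 1 := by
  refine Matrix.ext_of_mulVec_single fun i => ?_
  rw [← oEquiv_apply, MulEquiv.apply_symm_apply, Matrix.fromBlocks_mulVec, Matrix.zero_mulVec,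
    Matrix.zero_mulVec, Matrix.one_mulVec, add_zero, zero_add, ← oEquiv_apply Q₁ g]
  funext j
  rcases j with j | j <;> rfl

theorem sumEmbLR_matrix (Q₁ : QuadraticForm F (κ → F)) (Q₂ : QuadraticForm F (μ → F))
    (g : Cfsg.isometryGroup F ⇑Q₁) (h : Cfsg.isometryGroup F ⇑Q₂) :
    (((oEquiv (sumForm Q₁ Q₂)).symm
        (sumEmbL Q₁ Q₂ (oEquiv Q₁ g) * sumEmbR Q₁ Q₂ (oEquiv Q₂ h))).1 : Matrix (κ ⊕ μ) (κ ⊕ μ) F) =
      Matrix.fromBlocks (g.1 : Matrix κ κ F) 0 0 (h.1 : Matrix μ μ F) := by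
  refine Matrix.ext_of_mulVec_single fun i => ?_
  rw [← oEquiv_apply, MulEquiv.apply_symm_apply, Matrix.fromBlocks_mulVec, Matrix.zero_mulVec,
    Matrix.zero_mulVec, add_zero, zero_add, ← oEquiv_apply Q₁ g, ← oEquiv_apply Q₂ h]
  funext j
  rcases j with j | j <;> rfl

end Cfsg.Agent.Spinor
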